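import Groth.Agent.EtPur.Global
import Mathlib

/-!
# Roots of unity and the stalks of local cohomology along a smooth divisor
-/

set_option autoImplicit false
set_option backward.isDefEq.respectTransparency false
set_option backward.isDefEq.respectTransparency.types false
set_option linter.style.haveILetI false
set_option linter.unusedSectionVars false
set_option maxHeartbeats 1000000
set_option synthInstance.maxHeartbeats 400000

universe u

open CategoryTheory CategoryTheory.Limits AlgebraicGeometry Opposite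

noncomputable section

namespace Groth.Agent.EtPur

variable {X : Scheme.{u}} {n : ℕ}

theorem killedBy_mu (X : Scheme.{u}) (n : ℕ) : EtCoh.KilledBy n (EtCoh.mu X n) := by
  rw [EtBCQ.killedBy_iff, ← cancel_mono (kernel.ι (EtCoh.powMap X n)), zero_comp, Preadditive.nsmul_comp,
    Category.id_comp]
  have h : kernel.ι (EtCoh.powMap X n) ≫ EtCoh.powMap X n = 0 := kernel.condition _
  rwa [EtCoh.powMap, Preadditive.comp_nsmul, Category.comp_id] at h

theorem nonempty_pull_mu {W : Scheme.{u}} (g : W ⟶ X) [Etale g] (n : ℕ) :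
    Nonempty ((EtCoh.pull g).obj (EtCoh.mu X n) ≅ EtCoh.mu W n) := by
  haveI := EtMV.jcont_etale g
  obtain ⟨e⟩ := EtMV.nonempty_restr_mu g n
  exact ⟨((EtPushStalk.restrPullIso g).app _).symm ≪≫ e⟩

theorem isFLC_mu (h0 : 0 < n) (hn : IsUnit (n : Γ(X, ⊤))) : EtCoh.IsFiniteLocallyConstant (EtCoh.mu X n) := by
  obtain ⟨W, e, he, hs, ⟨a⟩⟩ := EtMV.exists_trivializing_cover X n h0 hn
  haveI : NeZero n := ⟨h0.ne'⟩
  refine (EtCons.isFLC_iff_local _).2 fun x => ?_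
  obtain ⟨w, hw⟩ := hs x
  haveI := he
  obtain ⟨b⟩ := nonempty_pull_mu e n
  exact ⟨W, e, he, w, ZMod n, inferInstance, inferInstance, hw, ⟨b ≪≫ a⟩⟩

/-- lifting geometric points along étale morphisms -/
theorem exists_lift_etale {W : Scheme.{u}} (g : W ⟶ X) [Etale g] {Ω : Type u} [Field Ω] [IsSepClosed Ω]
    (ξ : Spec (CommRingCat.of Ω) ⟶ X) (h : ξ.base (default : Spec (CommRingCat.of Ω)) ∈ Set.range g.base) :
    ∃ η : Spec (CommRingCat.of Ω) ⟶ W, η ≫ g = ξ := by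
  obtain ⟨w, hw⟩ := h
  obtain ⟨l, -⟩ := Scheme.pointSmallEtaleFiberObjToPreimage_surjective ξ rfl
    (MorphismProperty.Over.mk ⊤ g (inferInstanceAs (Etale g))) ⟨w, hw⟩
  let l' : Over.mk ξ ⟶ Over.mk g := l
  exact ⟨l'.left, Over.w l'⟩

theorem nonempty_stalk_mu (h0 : 0 < n) (hn : IsUnit (n : Γ(X, ⊤))) {Ω : Type u} [Field Ω] [IsSepClosed Ω]
    (ξ : Spec (CommRingCat.of Ω) ⟶ X) :
    Nonempty (((EtCoh.stalk ξ).obj (EtCoh.mu X n) : AddCommGrpCat.{u + 1}) ≃+ ZMod n) := by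
  obtain ⟨W, e, he, hs, ⟨a⟩⟩ := EtMV.exists_trivializing_cover X n h0 hn
  haveI := he
  obtain ⟨η, rfl⟩ := exists_lift_etale e ξ (hs _)
  obtain ⟨b⟩ := nonempty_pull_mu e n
  exact ⟨((EtStalk.stalkPullIso e η).app _ ≪≫ (EtCoh.stalk η).mapIso (b ≪≫ a)).addCommGroupIsoToAddEquiv.trans
    (AddEquiv.ofBijective _ (EtCons.constGerm_bijective (ZMod n) η)).symm⟩

/-- the stalks of `R¹j_* μ_n` along a smooth divisor -/
theorem nonempty_stalk_rpush_mu {S Y U : Scheme.{u}} (f : X ⟶ S) (h : Y ⟶ S) (i : Y ⟶ X) (m : ℕ)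
    [SmoothOfRelativeDimension (m + 1) f] [SmoothOfRelativeDimension m h] [IsClosedImmersion i] (w : i ≫ f = h)
    (j : U ⟶ X) [IsOpenImmersion j] (hU : Set.range j = (Set.range i)ᶜ) (h0 : 0 < n)
    (hn : IsUnit (n : Γ(X, ⊤))) {Ω : Type u} [Field Ω] [IsSepClosed Ω] (ξ : Spec (CommRingCat.of Ω) ⟶ X)
    (hξ : ξ.base (default : Spec (CommRingCat.of Ω)) ∈ Set.range i.base) :
    Nonempty (((EtCoh.stalk ξ).obj ((EtCoh.Rpush j 1).obj (EtCoh.mu U n)) : AddCommGrpCat.{u + 1}) ≃+ ZMod n) := by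
  obtain ⟨W, g, hg, hx, hp⟩ := exists_purity_nhd f h i m 1 one_pos w j hU n hn (EtCoh.mu X n) (isFLC_mu h0 hn)
    (killedBy_mu X n) (ξ.base (default : Spec (CommRingCat.of Ω)))
  haveI := hg
  obtain ⟨η, hη⟩ := exists_lift_etale g ξ hx
  obtain ⟨e⟩ := nonempty_pull_locCoh j g (2 * 1) (EtCoh.mu X n)
  obtain ⟨a⟩ := hp.2
  obtain ⟨b⟩ := nonempty_pull_pushPull (i := i) g (pullback.snd i g) (pullback.fst i g) pullback.condition
    (Scheme.Pullback.range_snd _ _) (EtCoh.mu X n)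
  obtain ⟨c⟩ := EtMV.nonempty_locCoh_succ j (EtCoh.mu X n) 1 le_rfl
  obtain ⟨d⟩ := nonempty_pull_mu j n
  obtain ⟨ζ, hζ⟩ := EtPushStalk.exists_lift_point i ξ hξ
  haveI := EtPushStalk.isIso_counit i (EtPushStalk.liftProp_of_closedImmersion i) ((EtCoh.pull i).obj (EtCoh.mu X n))
  let P := (EtCoh.push i).obj ((EtCoh.pull i).obj (EtCoh.mu X n))
  have e₁ : (EtCoh.stalk ξ).obj ((EtCoh.Rpush j 1).obj (EtCoh.mu U n)) ≅ (EtCoh.stalk ξ).obj P := by
    rw [← hη]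
    exact (EtCoh.stalk _).mapIso ((EtCoh.Rpush j 1).mapIso d.symm ≪≫ c) ≪≫ (EtStalk.stalkPullIso g η).app _ ≪≫
      (EtCoh.stalk η).mapIso (e ≪≫ a ≪≫ b.symm) ≪≫ ((EtStalk.stalkPullIso g η).app _).symm
  have e₂ : (EtCoh.stalk ξ).obj P ≅ (EtCoh.stalk ξ).obj (EtCoh.mu X n) := by
    rw [← hζ]
    exact (EtStalk.stalkPullIso i ζ).app _ ≪≫
      (EtCoh.stalk ζ).mapIso (asIso ((EtCoh.pullPushAdj i).counit.app ((EtCoh.pull i).obj (EtCoh.mu X n)))) ≪≫
      ((EtStalk.stalkPullIso i ζ).app _).symm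
  obtain ⟨r⟩ := nonempty_stalk_mu h0 hn ξ
  exact ⟨(e₁ ≪≫ e₂).addCommGroupIsoToAddEquiv.trans r⟩

end Groth.Agent.EtPur
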