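import Groth.Agent.EtPBC.HensDvrGysin
import Groth.Agent.EtStrictLoc.Lift
import Groth.Agent.EtPBC.CdDev
import Mathlib

/-!
# Kummer classes in the first direct image from an open subscheme
-/

set_option autoImplicit false
set_option backward.isDefEq.respectTransparency false
set_option backward.isDefEq.respectTransparency.types false
set_option linter.auxLemma false
set_option linter.style.haveILetI false
set_option linter.unusedSectionVars false
set_option maxHeartbeats 1000000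
set_option synthInstance.maxHeartbeats 400000

universe u

open CategoryTheory CategoryTheory.Limits AlgebraicGeometry Opposite IsLocalRing
open Groth.Agent.EtFLC (res res_res res_id)

noncomputable section

namespace Groth.Agent.EtPur

attribute [local instance 100000] EtCoh.H._proof_1 Groth.Agent.EtMV.hext
attribute [local instance 200000] Groth.Agent.EtMV.hextAb

variable {X U : Scheme.{u}} (j : U ⟶ X) [EtCoh.BCCont j] {n : ℕ} (hm : Epi (EtCoh.powMap U n))

/-- a unit of the open as a section of the direct image -/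
def unitPush (a : (Γ(U, ⊤) : Type u)ˣ) : EtCoh.sect ((EtCoh.push j).obj (EtCoh.Gm U)) (EtCoh.top X) :=
  res (EtCoh.Gm U) (EtMV.toTop ((EtCoh.bc j).obj (EtCoh.top X))) (GalSym.unitSection U a)

/-- **the Kummer class of a unit of the open** -/
def kumSect (a : (Γ(U, ⊤) : Type u)ˣ) : EtCoh.sect ((EtCoh.Rpush j 1).obj (EtCoh.mu U n)) (EtCoh.top X) :=
  (EtPBC.pushDelta j (EtSix.kummerShortExact (X := U) hm)).hom.app (op (EtCoh.top X)) (unitPush j a)

theorem nsmul_kumSect (a : (Γ(U, ⊤) : Type u)ˣ) : n • kumSect j hm a = 0 := by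
  let hS := EtSix.kummerShortExact (X := U) hm
  rw [kumSect, ← map_nsmul ((EtPBC.pushDelta j hS).hom.app (op (EtCoh.top X))).hom]
  have h : n • unitPush j a = ((EtCoh.push j).map (EtCoh.powMap U n)).hom.app (op (EtCoh.top X)) (unitPush j a) :=
    (KummerLib.powMap_app n _ (unitPush j a)).symm
  rw [h]
  exact ConcreteCategory.congr_hom
    (congrArg (fun t => t.hom.app (op (EtCoh.top X))) (EtPBC.map_g_pushDelta j hS)) (unitPush j a)

/-- the map from the constant sheaf defined by a Kummer class -/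
def kumHom (a : (Γ(U, ⊤) : Type u)ˣ) : EtCoh.const X (ZMod n) ⟶ (EtCoh.Rpush j 1).obj (EtCoh.mu U n) :=
  EtPBC.constHom (ZMod n) _ (ZMod.lift n
    ⟨zmultiplesHom _ (kumSect j hm a), by rw [zmultiplesHom_apply, natCast_zsmul]; exact nsmul_kumSect j hm a⟩)

theorem stalk_kumHom {Ω : Type u} [Field Ω] [IsSepClosed Ω] (ξ : Spec (CommRingCat.of Ω) ⟶ X)
    (a : (Γ(U, ⊤) : Type u)ˣ) (k : ℤ) :
    (EtCoh.stalk ξ).map (kumHom j hm a) (EtCons.constGerm (ZMod n) ξ (k : ZMod n)) =
      k • (Scheme.pointSmallEtale ξ).toPresheafFiber (EtCoh.top X) (EtCons.ptTop ξ)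
        ((EtCoh.Rpush j 1).obj (EtCoh.mu U n)).obj (kumSect j hm a) := by
  rw [← map_zsmul]
  refine (GrothendieckTopology.Point.toPresheafFiber_naturality_apply (Scheme.pointSmallEtale ξ)
    (kumHom j hm a).hom _ (EtCons.ptTop ξ) (EtMV.cst _ (k : ZMod n))).trans (congrArg _ ?_)
  rw [kumHom, EtPBC.constHom_cst]
  exact ZMod.lift_coe _ _ _

/-- **a uniformiser has a Kummer class of exact order `n`** -/
theorem dvd_of_nsmul_germ_kumSect (hn : 0 < n) (a : (Γ(U, ⊤) : Type u)ˣ) {Ω : Type u} [Field Ω] [IsSepClosed Ω]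
    (ξ : Spec (CommRingCat.of Ω) ⟶ X) (D : Type u) [CommRing D] [IsDomain D] [IsDiscreteValuationRing D]
    [HenselianLocalRing D] (L : Type u) [Field L] [Algebra D L] [IsFractionRing D L]
    (v : Spec (CommRingCat.of D) ⟶ X) (e : Spec (CommRingCat.of (ResidueField D)) ⟶ Spec (CommRingCat.of Ω))
    (he : e ≫ ξ = EtHens.pt D ≫ v) (m0 : Spec (CommRingCat.of L) ⟶ U)
    (hm0 : m0 ≫ j = Spec.map (CommRingCat.ofHom (algebraMap D L)) ≫ v) (ϖ : D) (hϖ : Irreducible ϖ)
    (ha : (Scheme.ΓSpecIso (CommRingCat.of L)).hom (m0.appTop (a : Γ(U, ⊤))) = algebraMap D L ϖ) (d : ℕ)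
    (h0 : d • (Scheme.pointSmallEtale ξ).toPresheafFiber (EtCoh.top X) (EtCons.ptTop ξ)
        ((EtCoh.Rpush j 1).obj (EtCoh.mu U n)).obj (kumSect j hm a) = 0) : n ∣ d := by
  let hS := EtSix.kummerShortExact (X := U) hm
  let G := (EtCoh.push j).obj (EtCoh.Gm U)
  have h2 : (EtCoh.stalk ξ).map (EtPBC.pushDelta j hS) ((Scheme.pointSmallEtale ξ).toPresheafFiber (EtCoh.top X)
      (EtCons.ptTop ξ) G.obj (d • unitPush j a)) = 0 := by
    refine (GrothendieckTopology.Point.toPresheafFiber_naturality_apply (Scheme.pointSmallEtale ξ)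
      (EtPBC.pushDelta j hS).hom _ (EtCons.ptTop ξ) _).trans ?_
    rw [map_nsmul, map_nsmul]
    exact h0
  haveI : (EtCoh.stalk ξ).PreservesHomology := Functor.preservesHomologyOfExact _
  obtain ⟨z, hz⟩ := (ShortComplex.ab_exact_iff _).1 ((EtPBC.exact_map_g_pushDelta j hS).map (EtCoh.stalk ξ)) _ h2
  obtain ⟨W, v₁, y, rfl⟩ := GrothendieckTopology.Point.toPresheafFiber_jointly_surjective
    (Φ := Scheme.pointSmallEtale ξ) (P := G.obj) z
  have h1 := hz.symm.trans (GrothendieckTopology.Point.toPresheafFiber_naturality_apply (Scheme.pointSmallEtale ξ)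
    ((EtCoh.push j).map (EtCoh.powMap U n)).hom W v₁ y)
  obtain ⟨W', g, g', v', hres⟩ : ∃ (W' : X.Etale) (g : W' ⟶ EtCoh.top X) (g' : W' ⟶ W)
      (_ : (Scheme.pointSmallEtale ξ).fiber.obj W'),
      res G g (d • unitPush j a) = res G g' (((EtCoh.push j).map (EtCoh.powMap U n)).hom.app (op W) y) := by
    let c : (Scheme.pointSmallEtale ξ).fiber.Elements :=
      IsCofiltered.min ⟨EtCoh.top X, EtCons.ptTop ξ⟩ ⟨W, v₁⟩
    let a₁ : c ⟶ (⟨EtCoh.top X, EtCons.ptTop ξ⟩ : (Scheme.pointSmallEtale ξ).fiber.Elements) :=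
      IsCofiltered.minToLeft _ _
    let a₂ : c ⟶ (⟨W, v₁⟩ : (Scheme.pointSmallEtale ξ).fiber.Elements) := IsCofiltered.minToRight _ _
    have e₁ : (Scheme.pointSmallEtale ξ).toPresheafFiber c.1 c.2 G.obj (res G a₁.1 (d • unitPush j a)) =
        (Scheme.pointSmallEtale ξ).toPresheafFiber (EtCoh.top X) (EtCons.ptTop ξ) G.obj (d • unitPush j a) :=
      (GrothendieckTopology.Point.toPresheafFiber_w_apply (Scheme.pointSmallEtale ξ) a₁.1 c.2 G.obj _).trans
        (congrArg (fun t => (Scheme.pointSmallEtale ξ).toPresheafFiber _ t G.obj (d • unitPush j a)) a₁.2)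
    have e₂ : (Scheme.pointSmallEtale ξ).toPresheafFiber c.1 c.2 G.obj
        (res G a₂.1 (((EtCoh.push j).map (EtCoh.powMap U n)).hom.app (op W) y)) =
        (Scheme.pointSmallEtale ξ).toPresheafFiber W v₁ G.obj
          (((EtCoh.push j).map (EtCoh.powMap U n)).hom.app (op W) y) :=
      (GrothendieckTopology.Point.toPresheafFiber_w_apply (Scheme.pointSmallEtale ξ) a₂.1 c.2 G.obj _).trans
        (congrArg (fun t => (Scheme.pointSmallEtale ξ).toPresheafFiber W t G.obj _) a₂.2)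
    obtain ⟨W', g, v', -, h3⟩ := (GrothendieckTopology.Point.toPresheafFiber_eq_iff' (Scheme.pointSmallEtale ξ)
      (P := G.obj) c.1 c.2 _ _).mp (e₁.trans (h1.trans e₂.symm))
    refine ⟨W', g ≫ a₁.1, g ≫ a₂.1, v', ?_⟩
    rw [← res_res, ← res_res]
    exact h3
  let bc := EtCoh.bc j
  let U₀ := bc.obj W'
  let y' : EtCoh.sect (EtCoh.Gm U) U₀ := res G g' y
  have hres' : d • res (EtCoh.Gm U) (EtMV.toTop U₀) (GalSym.unitSection U a) = n • y' := by
    have h4 : res G g' (((EtCoh.push j).map (EtCoh.powMap U n)).hom.app (op W) y) = res G g' (n • y) :=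
      congrArg (res G g') (KummerLib.powMap_app n (bc.obj W) y)
    rw [h4, map_nsmul, map_nsmul] at hres
    rw [← hres]
    refine congrArg (d • ·) ?_
    show _ = res (EtCoh.Gm U) (bc.map g) (res _ (EtMV.toTop _) _)
    rw [res_res]
    exact congrArg (fun t => res (EtCoh.Gm U) t _) (EtMV.hom_top_ext _ _)
  have hW' : (e ≫ v'.left) ≫ W'.hom = EtHens.pt D ≫ v := by
    rw [Category.assoc, ← he]
    exact congrArg (e ≫ ·) (Over.w v')
  obtain ⟨α, hα, -⟩ := EtStrictLoc.exists_lift v W' (e ≫ v'.left) hW'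
  let m : Spec (CommRingCat.of L) ⟶ U₀.left :=
    pullback.lift (Spec.map (CommRingCat.ofHom (algebraMap D L)) ≫ α) m0 (by rw [Category.assoc, hα, hm0])
  let Y : (Γ(U₀.left, ⊤) : Type u)ˣ :=
    ((show ULift.{u + 1} (Additive ((Γ(U₀.left, ⊤) : Type u)ˣ)) from y').down).toMul
  have hY : (Units.map (EtMV.toTop U₀).left.appTop.hom.toMonoidHom a) ^ d = Y ^ n :=
    congrArg (fun t : ULift.{u + 1} (Additive ((Γ(U₀.left, ⊤) : Type u)ˣ)) => t.down.toMul) hres'
  let w : L := (Scheme.ΓSpecIso (CommRingCat.of L)).hom (m.appTop (Y : Γ(U₀.left, ⊤)))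
  have hw : w ^ n = algebraMap D L (ϖ ^ d) := by
    have hY' : ((EtMV.toTop U₀).left.appTop.hom (a : Γ(U, ⊤))) ^ d = (Y : Γ(U₀.left, ⊤)) ^ n := by
      have := congrArg Units.val hY
      rwa [Units.val_pow_eq_pow_val, Units.val_pow_eq_pow_val] at this
    have hsnd : m ≫ (EtMV.toTop U₀).left = m0 := by
      rw [show (EtMV.toTop U₀).left = pullback.snd W'.hom j from
        (Category.comp_id _).symm.trans (MorphismProperty.Over.w (EtMV.toTop U₀))]
      exact pullback.lift_snd _ _ _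
    rw [map_pow (algebraMap D L), ← ha, ← hsnd, Scheme.Hom.comp_appTop, CommRingCat.comp_apply]
    refine Eq.trans (Eq.symm ?_) (map_pow _ _ _)
    rw [← map_pow m.appTop.hom]
    refine (congrArg (fun t => (Scheme.ΓSpecIso (CommRingCat.of L)).hom (m.appTop t)) hY').trans ?_
    rw [map_pow, map_pow]
  have hint : IsIntegral D w := IsIntegral.of_pow hn (hw ▸ isIntegral_algebraMap)
  obtain ⟨w₀, hw₀⟩ := IsIntegrallyClosed.isIntegral_iff.1 hint
  have hz' : w₀ ^ n = ϖ ^ d := IsFractionRing.injective D L (by rw [map_pow, hw₀]; exact hw)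
  have hv := congrArg (IsDiscreteValuationRing.addVal D) hz'
  rw [IsDiscreteValuationRing.addVal_pow, IsDiscreteValuationRing.addVal_pow,
    IsDiscreteValuationRing.addVal_uniformizer hϖ, nsmul_one] at hv
  rcases h : IsDiscreteValuationRing.addVal D w₀ with _ | k
  · replace h := IsDiscreteValuationRing.addVal_eq_top_iff.1 h
    subst h
    rw [zero_pow hn.ne'] at hz'
    exact absurd hz'.symm (pow_ne_zero _ hϖ.ne_zero)
  · rw [h] at hv
    refine ⟨k, ?_⟩
    have : ((n * k : ℕ) : ℕ∞) = (d : ℕ∞) := by rw [Nat.cast_mul, ← hv, nsmul_eq_mul]; rfl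
    exact_mod_cast this.symm

/-- **the Kummer map is bijective on a stalk of order `n`** -/
theorem isIso_stalk_kumHom (hn : 0 < n) (a : (Γ(U, ⊤) : Type u)ˣ) {Ω : Type u} [Field Ω] [IsSepClosed Ω]
    (ξ : Spec (CommRingCat.of Ω) ⟶ X) (D : Type u) [CommRing D] [IsDomain D] [IsDiscreteValuationRing D]
    [HenselianLocalRing D] (L : Type u) [Field L] [Algebra D L] [IsFractionRing D L]
    (v : Spec (CommRingCat.of D) ⟶ X) (e : Spec (CommRingCat.of (ResidueField D)) ⟶ Spec (CommRingCat.of Ω))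
    (he : e ≫ ξ = EtHens.pt D ≫ v) (m0 : Spec (CommRingCat.of L) ⟶ U)
    (hm0 : m0 ≫ j = Spec.map (CommRingCat.ofHom (algebraMap D L)) ≫ v) (ϖ : D) (hϖ : Irreducible ϖ)
    (ha : (Scheme.ΓSpecIso (CommRingCat.of L)).hom (m0.appTop (a : Γ(U, ⊤))) = algebraMap D L ϖ)
    (hcard : Nonempty (((EtCoh.stalk ξ).obj ((EtCoh.Rpush j 1).obj (EtCoh.mu U n)) : AddCommGrpCat.{u + 1}) ≃+
      ZMod n)) :
    IsIso ((EtCoh.stalk ξ).map (kumHom j hm a)) := by
  haveI : NeZero n := ⟨hn.ne'⟩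
  obtain ⟨c⟩ := hcard
  haveI : Finite (((EtCoh.stalk ξ).obj ((EtCoh.Rpush j 1).obj (EtCoh.mu U n)) : AddCommGrpCat.{u + 1})) :=
    Finite.of_equiv _ c.symm.toEquiv
  rw [ConcreteCategory.isIso_iff_bijective]
  refine (Function.Bijective.of_comp_iff _ (EtCons.constGerm_bijective (ZMod n) ξ)).1 ?_
  let h' : ZMod n →+ (EtCoh.stalk ξ).obj ((EtCoh.Rpush j 1).obj (EtCoh.mu U n)) :=
    ((EtCoh.stalk ξ).map (kumHom j hm a)).hom.comp (EtCons.constGerm (ZMod n) ξ)
  have hk : Function.Injective h' := by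
    rw [injective_iff_map_eq_zero]
    intro z hz
    obtain ⟨d, rfl⟩ : ∃ d : ℕ, (d : ZMod n) = z := ⟨z.val, ZMod.natCast_zmod_val z⟩
    rw [ZMod.natCast_eq_zero_iff]
    refine dvd_of_nsmul_germ_kumSect j hm hn a ξ D L v e he m0 hm0 ϖ hϖ ha d ?_
    rw [← natCast_zsmul, ← stalk_kumHom, Int.cast_natCast]
    exact hz
  exact hk.bijective_of_nat_card_le (Nat.card_congr c.toEquiv).le

end Groth.Agent.EtPur
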