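import Groth.Agent.EtPur.Composite
import Groth.Agent.EtDepthX.UnitBC
import Groth.Agent.EtDepthX.Fibre
import Groth.Agent.EtDimDev.Devis
import Groth.Agent.EtBCQ.Chase
import Groth.Agent.S0162
import Mathlib

/-!
# Purity is transported by smooth morphisms
-/

set_option autoImplicit false
set_option backward.isDefEq.respectTransparency false
set_option backward.isDefEq.respectTransparency.types false
set_option linter.style.haveILetI false
set_option linter.unusedSectionVars false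
set_option maxHeartbeats 1000000
set_option synthInstance.maxHeartbeats 400000

universe u

open CategoryTheory CategoryTheory.Limits AlgebraicGeometry Opposite

noncomputable section

namespace Groth.Agent.EtPur

/-- cohomological purity for a sheaf -/
def Purity {X Y U : Scheme.{u}} (i : Y ⟶ X) (j : U ⟶ X) [EtCoh.BCCont i] [EtCoh.BCCont j] (c : ℕ)
    (F : EtCoh.Ab X) : Prop :=
  (∀ q : ℕ, q ≠ 2 * c → IsZero ((EtDual.locCoh j q).obj F)) ∧
    Nonempty ((EtDual.locCoh j (2 * c)).obj F ≅ (EtCoh.push i).obj ((EtCoh.pull i).obj F))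

variable {X Y U : Scheme.{u}} {i : Y ⟶ X} {j : U ⟶ X}

theorem killedBy_pull {W : Scheme.{u}} (g : W ⟶ X) [EtCoh.BCCont g] {n : ℕ} {F : EtCoh.Ab X}
    (h : EtCoh.KilledBy n F) : EtCoh.KilledBy n ((EtCoh.pull g).obj F) := by
  haveI : (EtCoh.pull g).Additive := (EtCoh.pullPushAdj g).left_adjoint_additive
  rw [EtBCQ.killedBy_iff] at h ⊢
  rw [← (EtCoh.pull g).map_id, ← Functor.map_nsmul, h, Functor.map_zero]

theorem isTorsionInvertibleOn_of_killedBy {S T : Scheme.{u}} {n : ℕ} (hn : IsUnit (n : Γ(S, ⊤)))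
    {F : EtCoh.Ab T} (hF : EtCoh.KilledBy n F) : EtPBC.IsTorsionInvertibleOn S F :=
  fun V s x => ⟨V, 𝟙 V, n, ⟨x, rfl⟩, hn, hF V _⟩

/-- base change of sheaves supported on a closed subscheme -/
theorem nonempty_pull_pushPull [IsClosedImmersion i] [EtCoh.BCCont i] {W YW : Scheme.{u}} (g : W ⟶ X)
    (iW : YW ⟶ W) [IsClosedImmersion iW] [EtCoh.BCCont g] [EtCoh.BCCont iW] (eY : YW ⟶ Y) [EtCoh.BCCont eY]
    (w : eY ≫ i = iW ≫ g) (hr : Set.range iW.base = g.base ⁻¹' Set.range i.base) (F : EtCoh.Ab X) :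
    Nonempty ((EtCoh.pull g).obj ((EtCoh.push i).obj ((EtCoh.pull i).obj F)) ≅
      (EtCoh.push iW).obj ((EtCoh.pull iW).obj ((EtCoh.pull g).obj F))) := by
  haveI : IsIso ((EtCoh.pullPushAdj iW).unit.app
      ((EtCoh.pull g).obj ((EtCoh.push i).obj ((EtCoh.pull i).obj F)))) :=
    EtDepthX.isIso_unit_of_support iW _ fun x hx => EtDepthX.zeroAt_pull g _ x
      (EtDimDev.zeroAt_push_closed i _ fun h => hx (hr.ge h))
  haveI : IsIso ((EtCoh.pullPushAdj i).counit.app ((EtCoh.pull i).obj F)) :=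
    EtPushStalk.isIso_counit i (EtPushStalk.liftProp_of_closedImmersion i) _
  have e : ∀ G : EtCoh.Ab X, Nonempty ((EtCoh.pull iW).obj ((EtCoh.pull g).obj G) ≅
      (EtCoh.pull eY).obj ((EtCoh.pull i).obj G)) := fun G =>
    ⟨((EtCore.pullComp iW g).app G).symm ≪≫ (EtCore.pullCongr w.symm).app G ≪≫ (EtCore.pullComp eY i).app G⟩
  obtain ⟨a⟩ := e ((EtCoh.push i).obj ((EtCoh.pull i).obj F))
  obtain ⟨b⟩ := e F
  exact ⟨asIso ((EtCoh.pullPushAdj iW).unit.app _) ≪≫ (EtCoh.push iW).mapIso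
    (a ≪≫ (EtCoh.pull eY).mapIso (asIso ((EtCoh.pullPushAdj i).counit.app _)) ≪≫ b.symm)⟩

/-- base change of an isomorphism unit -/
theorem isIso_unit_of_baseChange0 {S X' S' : Scheme.{u}} (f : X ⟶ S) (g : S' ⟶ S) (f' : X' ⟶ S') (g' : X' ⟶ X)
    [EtCoh.BCCont f] [EtCoh.BCCont g] [EtCoh.BCCont f'] [EtCoh.BCCont g']
    (w : g' ≫ f = f' ≫ g) (G : EtCoh.Ab S) [IsIso ((EtCoh.pullPushAdj f).unit.app G)]
    [IsIso (EtCoh.baseChange0 f g f' g' w ((EtCoh.pull f).obj G))] :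
    IsIso ((EtCoh.pullPushAdj f').unit.app ((EtCoh.pull g).obj G)) := by
  let θ : EtCoh.push g' ⋙ EtCoh.push f ≅ EtCoh.push f' ⋙ EtCoh.push g :=
    EtCoh.pushComp f g' ≪≫ EtCoh.pushCongr w ≪≫ (EtCoh.pushComp g f').symm
  let adj1 := (EtCoh.pullPushAdj g).comp (EtCoh.pullPushAdj f')
  let adj2 := ((EtCoh.pullPushAdj f).comp (EtCoh.pullPushAdj g')).ofNatIsoRight θ
  let c := (adj1.leftAdjointUniq adj2).app G
  have hc : (EtCoh.pullPushAdj g).unit.app G ≫ (EtCoh.push g).map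
        ((EtCoh.pullPushAdj f').unit.app ((EtCoh.pull g).obj G) ≫ (EtCoh.push f').map c.hom) =
      (EtCoh.pullPushAdj f).unit.app G ≫ (EtCoh.push f).map ((EtCoh.pullPushAdj g').unit.app ((EtCoh.pull f).obj G)) ≫
        θ.hom.app ((EtCoh.pull g').obj ((EtCoh.pull f).obj G)) := by
    have h := Adjunction.homEquiv_leftAdjointUniq_hom_app adj1 adj2 G
    rw [Adjunction.homEquiv_unit] at h
    simp only [adj1, adj2, Adjunction.ofNatIsoRight, Adjunction.comp_unit_app, Functor.comp_map, Category.assoc,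
      Adjunction.mkOfHomEquiv_unit_app] at h
    simp only [c, Iso.app_hom, Functor.map_comp, Category.assoc]
    refine h.trans ?_
    simp
  have key : (EtCoh.pull g).map ((EtCoh.pullPushAdj f).unit.app G) ≫
      EtCoh.baseChange0 f g f' g' w ((EtCoh.pull f).obj G) =
      (EtCoh.pullPushAdj f').unit.app ((EtCoh.pull g).obj G) ≫ (EtCoh.push f').map c.hom := by
    apply ((EtCoh.pullPushAdj g).homEquiv _ _).injective
    rw [Adjunction.homEquiv_naturality_left, EtCoh.baseChange0]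
    refine (congrArg (_ ≫ ·) (Equiv.apply_symm_apply _ _)).trans ?_
    refine Eq.trans ?_ (Adjunction.homEquiv_unit _ _ _ _).symm
    refine Eq.trans ?_ hc.symm
    simp [θ]
  haveI : IsIso ((EtCoh.pullPushAdj f').unit.app ((EtCoh.pull g).obj G) ≫ (EtCoh.push f').map c.hom) := by
    rw [← key]; infer_instance
  exact IsIso.of_isIso_comp_right _ ((EtCoh.push f').map c.hom)

variable [IsOpenImmersion j] [EtCoh.BCCont i] [EtCoh.BCCont j]

theorem isIso_unit_of_purity {c : ℕ} (hc : 0 < c) {F : EtCoh.Ab X} (h : Purity i j c F) :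
    IsIso ((EtCoh.pullPushAdj j).unit.app F) := by
  haveI := EtMV.preservesFiniteLimits_secSupp j
  have h0 : IsZero ((EtDual.secSupp j).obj F) :=
    (h.1 0 (by omega)).of_iso ((EtDual.secSupp j).rightDerivedZeroIsoSelf.app F).symm
  haveI : Mono (EtDual.unitApp j F) := Preadditive.mono_of_kernel_zero (h0.eq_of_src _ _)
  obtain ⟨e⟩ := EtMV.nonempty_locCoh_one j F
  haveI : Epi (EtDual.unitApp j F) :=
    Preadditive.epi_of_cokernel_zero (((h.1 1 (by omega)).of_iso e).eq_of_tgt _ _)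
  exact isIso_of_mono_of_epi (EtDual.unitApp j F)

/-- **purity is transported by smooth morphisms** -/
theorem purity_pull [IsClosedImmersion i] [QuasiCompact j] {W YW UW : Scheme.{u}} (g : W ⟶ X) [Smooth g]
    (iW : YW ⟶ W) [IsClosedImmersion iW] (jW : UW ⟶ W) [IsOpenImmersion jW] [EtCoh.BCCont iW] [EtCoh.BCCont jW]
    (eY : YW ⟶ Y) (w : eY ≫ i = iW ≫ g) (hrY : Set.range iW.base = g.base ⁻¹' Set.range i.base)
    (hrU : Set.range jW.base = g.base ⁻¹' Set.range j.base) {c : ℕ} (hc : 0 < c) {n : ℕ}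
    (hn : IsUnit (n : Γ(X, ⊤))) {F : EtCoh.Ab X} (hFn : EtCoh.KilledBy n F) (h : Purity i j c F) :
    Purity iW jW c ((EtCoh.pull g).obj F) := by
  let eU : UW ⟶ U := IsOpenImmersion.lift j (jW ≫ g) (by
    rintro _ ⟨z, rfl⟩
    exact hrU.le ⟨z, rfl⟩)
  have hfac : eU ≫ j = jW ≫ g := IsOpenImmersion.lift_fac _ _ _
  have sq : IsPullback eU jW j g := by
    refine IsOpenImmersion.isPullback eU jW j g hfac.symm ?_
    exact TopologicalSpace.Opens.ext hrU.symm
  have hFU := isTorsionInvertibleOn_of_killedBy hn (killedBy_pull j hFn)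
  haveI := isIso_unit_of_purity hc h
  haveI := (S0162.result g j jW eU sq ((EtCoh.pull j).obj F) hFU 0).2
  haveI : IsIso (EtDual.unitApp jW ((EtCoh.pull g).obj F)) := isIso_unit_of_baseChange0 j g jW eU hfac F
  haveI := EtMV.preservesFiniteLimits_secSupp jW
  have h0 : IsZero ((EtDual.locCoh jW 0).obj ((EtCoh.pull g).obj F)) :=
    (isZero_kernel_of_mono _).of_iso ((EtDual.secSupp jW).rightDerivedZeroIsoSelf.app _)
  have h1 : IsZero ((EtDual.locCoh jW 1).obj ((EtCoh.pull g).obj F)) := by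
    obtain ⟨e⟩ := EtMV.nonempty_locCoh_one jW ((EtCoh.pull g).obj F)
    exact (isZero_cokernel_of_epi _).of_iso e.symm
  have hq : ∀ q, 1 ≤ q → Nonempty ((EtDual.locCoh jW (q + 1)).obj ((EtCoh.pull g).obj F) ≅
      (EtCoh.pull g).obj ((EtDual.locCoh j (q + 1)).obj F)) := fun q hq => by
    obtain ⟨a⟩ := EtMV.nonempty_locCoh_succ jW ((EtCoh.pull g).obj F) q hq
    obtain ⟨b⟩ := EtMV.nonempty_locCoh_succ j F q hq
    obtain ⟨⟨c'⟩, -⟩ := S0162.result g j jW eU sq ((EtCoh.pull j).obj F) hFU q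
    exact ⟨a.symm ≪≫ (EtCoh.Rpush jW q).mapIso (((EtCore.pullComp jW g).app F).symm ≪≫
      (EtCore.pullCongr hfac.symm).app F ≪≫ (EtCore.pullComp eU j).app F) ≪≫ c'.symm ≪≫
        (EtCoh.pull g).mapIso b⟩
  haveI : (EtCoh.pull g).Additive := (EtCoh.pullPushAdj g).left_adjoint_additive
  refine ⟨fun q hne => ?_, ?_⟩
  · match q, hne with
    | 0, _ => exact h0
    | 1, _ => exact h1
    | q + 2, hne =>
      obtain ⟨e⟩ := hq (q + 1) (by omega)
      exact ((EtCoh.pull g).map_isZero (h.1 (q + 2) hne)).of_iso e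
  · obtain ⟨e⟩ := h.2
    obtain ⟨c', rfl⟩ : ∃ c', c = c' + 1 := ⟨c - 1, by omega⟩
    obtain ⟨e'⟩ := hq (2 * c' + 1) (by omega)
    obtain ⟨e''⟩ := nonempty_pull_pushPull (i := i) g iW eY w hrY F
    exact ⟨e' ≪≫ (EtCoh.pull g).mapIso e ≪≫ e''⟩

end Groth.Agent.EtPur
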