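import Groth.Agent.EtPur.CoreStalk
import Groth.Agent.EtPur.Kummer
import Groth.Agent.EtPur.Transport
import Groth.Agent.EtFibDense.Basic
import Groth.Agent.EtPBC.KummerConst
import Groth.Agent.TauTriv.Power
import Groth.Agent.S0108
import Mathlib

/-!
# Purity for the zero section of the line over a ring with enough roots of unity
-/

set_option autoImplicit false
set_option backward.isDefEq.respectTransparency false
set_option backward.isDefEq.respectTransparency.types false
set_option linter.style.haveILetI false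
set_option linter.unusedSectionVars false
set_option maxHeartbeats 1000000
set_option synthInstance.maxHeartbeats 400000

universe u

open CategoryTheory CategoryTheory.Limits AlgebraicGeometry Opposite IsLocalRing

noncomputable section

namespace Groth.Agent.EtPur

attribute [local instance 100000] EtCoh.H._proof_1 Groth.Agent.EtMV.hext
attribute [local instance 200000] Groth.Agent.EtMV.hextAb

variable {X : Scheme.{u}}

/-- a map is an isomorphism on a closed subscheme if it is so on stalks there -/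
theorem isIso_pull_of_stalks {Y : Scheme.{u}} (s : Y ⟶ X) [EtCoh.BCCont s] {F G : EtCoh.Ab X} (φ : F ⟶ G)
    (h : ∀ y : Y, ∃ (Ω : Type u) (_ : Field Ω) (_ : IsSepClosed Ω) (ξ : Spec (CommRingCat.of Ω) ⟶ X),
      ξ.base (default : Spec (CommRingCat.of Ω)) = s.base y ∧ IsIso ((EtCoh.stalk ξ).map φ)) :
    IsIso ((EtCoh.pull s).map φ) := by
  haveI := EtPullExact.pull_preservesFiniteLimits s
  haveI : PreservesFiniteColimits (EtCoh.pull s) :=
    haveI : (EtCoh.pull s).IsLeftAdjoint := (EtCoh.pullPushAdj s).isLeftAdjoint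
    inferInstance
  haveI : (EtCoh.pull s).Additive := (EtCoh.pullPushAdj s).left_adjoint_additive
  have hk : IsZero ((EtCoh.pull s).obj (kernel φ)) ∧ IsZero ((EtCoh.pull s).obj (cokernel φ)) := by
    refine ⟨EtPBC.isZero_of_zeroAt _ fun y => ?_, EtPBC.isZero_of_zeroAt _ fun y => ?_⟩ <;>
      obtain ⟨Ω, _, _, ξ, hξ, hi⟩ := h y
    · haveI := hi
      exact EtDepthX.zeroAt_pull s _ y ((EtPBC.isZero_stalk_iff_zeroAt hξ _).1
        ((isZero_kernel_of_mono ((EtCoh.stalk ξ).map φ)).of_iso (PreservesKernel.iso _ φ)))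
    · haveI := hi
      exact EtDepthX.zeroAt_pull s _ y ((EtPBC.isZero_stalk_iff_zeroAt hξ _).1
        ((isZero_cokernel_of_epi ((EtCoh.stalk ξ).map φ)).of_iso (PreservesCokernel.iso _ φ)))
  haveI : Mono ((EtCoh.pull s).map φ) :=
    Preadditive.mono_of_isZero_kernel _ (hk.1.of_iso (PreservesKernel.iso _ φ).symm)
  haveI : Epi ((EtCoh.pull s).map φ) :=
    Preadditive.epi_of_isZero_cokernel _ (hk.2.of_iso (PreservesCokernel.iso _ φ).symm)
  exact isIso_of_mono_of_epi _

variable (A : Type u) [CommRing A] {n : ℕ}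

/-- the line minus its zero section -/
abbrev punctured : Scheme.{u} := Spec (CommRingCat.of (Localization.Away (Polynomial.X : Polynomial A)))

/-- the inclusion of the punctured line -/
abbrev puncι : punctured A ⟶ Spec (CommRingCat.of (Polynomial A)) :=
  Spec.map (CommRingCat.ofHom (algebraMap (Polynomial A) (Localization.Away (Polynomial.X : Polynomial A))))

theorem range_puncι : Set.range (puncι A).base = (Set.range (zeroSect A).base)ᶜ := by
  rw [range_zeroSect, compl_compl]
  exact PrimeSpectrum.localization_away_comap_range (Localization.Away (Polynomial.X : Polynomial A)) Polynomial.X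

/-- the direct images on the line are those on the projective line -/
theorem nonempty_rpush_punc (F : EtCoh.Ab (Spec (CommRingCat.of (Polynomial A)))) (q : ℕ) :
    ∃ (e : punctured A ⟶ Spec (CommRingCat.of (Polynomial A))),
      Nonempty ((EtCoh.pull (lineC A 1)).obj ((EtCoh.Rpush (lineC A 0) q).obj F) ≅
        (EtCoh.Rpush (puncι A) q).obj ((EtCoh.pull e).obj F)) := by
  have h := preimage_range_lineC A 1
  rw [show (1 : Fin (1 + 1)) + 1 = 0 from rfl] at h
  have hpre : (lineC A 1).base ⁻¹' Set.range (lineC A 0).base = Set.range (puncι A).base := by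
    rw [h, range_puncι, range_zeroSect, compl_compl]
  let e := IsOpenImmersion.lift (lineC A 0) (puncι A ≫ lineC A 1) (by
    rintro _ ⟨z, rfl⟩
    exact hpre.ge ⟨z, rfl⟩)
  have hfac : e ≫ lineC A 0 = puncι A ≫ lineC A 1 := IsOpenImmersion.lift_fac _ _ _
  have sq : IsPullback e (puncι A) (lineC A 0) (lineC A 1) :=
    IsOpenImmersion.isPullback e (puncι A) (lineC A 0) (lineC A 1) hfac.symm (TopologicalSpace.Opens.ext hpre)
  haveI := EtPullExact.pull_preservesFiniteLimits e
  haveI := EtDepthX.isIso_bcQ_weaklyEtale (lineC A 1) (lineC A 0) (puncι A) e sq F q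
  exact ⟨e, ⟨asIso (EtBC.bcQ (lineC A 0) (lineC A 1) (puncι A) e sq.w q F)⟩⟩

theorem isZero_rpush_punc (h0 : 0 < n) (hn : IsUnit (n : A)) (q : ℕ) :
    IsZero ((EtCoh.Rpush (puncι A) (q + 2)).obj (EtCoh.const _ (ZMod n))) := by
  obtain ⟨e, ⟨i⟩⟩ := nonempty_rpush_punc A (EtCoh.const _ (ZMod n)) (q + 2)
  haveI : (EtCoh.pull (lineC A 1)).Additive := (EtCoh.pullPushAdj (lineC A 1)).left_adjoint_additive
  exact ((EtCoh.pull (lineC A 1)).map_isZero (isZero_rpush_lineC A h0 hn q)).of_iso
    (i ≪≫ (EtCoh.Rpush (puncι A) (q + 2)).mapIso (EtCore.pullConst e (ZMod n))).symm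

theorem exists_stalk_punc (h0 : 0 < n) (hn : IsUnit (n : A)) (a : Spec (CommRingCat.of A)) :
    ∃ (Ω : Type u) (_ : Field Ω) (_ : IsSepClosed Ω) (ξ : Spec (CommRingCat.of Ω) ⟶ Spec (CommRingCat.of (Polynomial A))),
      ξ.base (default : Spec (CommRingCat.of Ω)) = (zeroSect A).base a ∧
      Nonempty (((EtCoh.stalk ξ).obj ((EtCoh.Rpush (puncι A) 1).obj (EtCoh.const _ (ZMod n))) :
        AddCommGrpCat.{u + 1}) ≃+ ZMod n) := by
  obtain ⟨Ω, _, _, ξ, hξ, ⟨c⟩⟩ := exists_stalk_rpush_one A h0 hn a
  let ξ₁ := IsOpenImmersion.lift (lineC A 1) ξ (by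
    rintro _ ⟨z, rfl⟩
    rw [Subsingleton.elim (α := Spec (CommRingCat.of Ω)) z default, hξ]
    exact ⟨_, rfl⟩)
  have hfac : ξ₁ ≫ lineC A 1 = ξ := IsOpenImmersion.lift_fac _ _ _
  obtain ⟨e, ⟨i⟩⟩ := nonempty_rpush_punc A (EtCoh.const _ (ZMod n)) 1
  refine ⟨Ω, inferInstance, inferInstance, ξ₁, ?_, ?_⟩
  · apply (lineC A 1).isOpenEmbedding.injective
    refine Eq.trans ?_ hξ
    rw [← hfac]
    rfl
  · rw [← hfac] at c
    exact ⟨((EtCoh.stalk ξ₁).mapIso ((EtCoh.Rpush (puncι A) 1).mapIso (EtCore.pullConst e (ZMod n)).symm ≪≫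
      i.symm) ≪≫ ((EtStalk.stalkPullIso (lineC A 1) ξ₁).app _).symm).addCommGroupIsoToAddEquiv.trans c⟩

/-- the zero section is fibrewise nowhere dense -/
theorem isIso_unit_punc :
    IsIso ((EtCoh.pullPushAdj (puncι A)).unit.app (EtCoh.const _ (ZMod n))) := by
  haveI := LAcyc.smooth_lineStr A
  have hd : ∀ x : Spec (CommRingCat.of (Polynomial A)), x ∈ closure (Set.range (puncι A).base ∩
      {y | (LAcyc.lineStr A).base y = (LAcyc.lineStr A).base x}) := by
    intro x
    let p : Ideal A := x.asIdeal.comap Polynomial.C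
    haveI : p.IsPrime := Ideal.comap_isPrime _ _
    let η : PrimeSpectrum (Polynomial A) := ⟨p.map Polynomial.C, Ideal.isPrime_map_C_of_isPrime⟩
    have hη : η ⤳ (x : PrimeSpectrum (Polynomial A)) :=
      (PrimeSpectrum.le_iff_specializes _ _).1 (Ideal.map_comap_le)
    refine closure_mono (Set.singleton_subset_iff.2 ?_) hη.mem_closure
    constructor
    · rw [range_puncι, range_zeroSect, compl_compl]
      show (Polynomial.X : Polynomial A) ∉ p.map Polynomial.C
      rw [Ideal.mem_map_C_iff]
      intro h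
      exact Ideal.IsPrime.ne_top ‹p.IsPrime› ((Ideal.eq_top_iff_one p).2 (by simpa using h 1))
    · refine PrimeSpectrum.ext (le_antisymm ?_ ?_)
      · intro c hc
        have h : Polynomial.C c ∈ p.map Polynomial.C := hc
        rw [Ideal.mem_map_C_iff] at h
        exact (by simpa using h 0 : c ∈ p)
      · intro c hc
        exact Ideal.mem_map_of_mem _ hc
  haveI := EtFibDense.isIso_unit (LAcyc.lineStr A) (puncι A) hd (EtCoh.const _ (ZMod n))
  let e := EtCore.pullConst (LAcyc.lineStr A) (ZMod n)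
  have h := (EtCoh.pullPushAdj (puncι A)).unit.naturality e.inv
  haveI : IsIso ((EtCoh.pullPushAdj (puncι A)).unit.app (EtCoh.const (Spec (CommRingCat.of (Polynomial A))) (ZMod n)) ≫
      (EtCoh.pull (puncι A) ⋙ EtCoh.push (puncι A)).map e.inv) := by
    rw [← h]; infer_instance
  exact IsIso.of_isIso_comp_right _ ((EtCoh.pull (puncι A) ⋙ EtCoh.push (puncι A)).map e.inv)

/-- **purity for the zero section of the line** -/
theorem purity_line (h0 : 0 < n) (hn : IsUnit (n : A)) (ζ : A)
    (hζ : Polynomial.aeval ζ (Polynomial.cyclotomic n ℤ) = 0) :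
    Purity (zeroSect A) (puncι A) 1 (EtCoh.const _ (ZMod n)) := by
  let Λ := EtCoh.const (Spec (CommRingCat.of (Polynomial A))) (ZMod n)
  let U := punctured A
  haveI := isIso_unit_punc A (n := n)
  haveI := EtMV.preservesFiniteLimits_secSupp (puncι A)
  have hhigh : ∀ q, IsZero ((EtDual.locCoh (puncι A) (q + 3)).obj Λ) := fun q => by
    obtain ⟨e⟩ := EtMV.nonempty_locCoh_succ (puncι A) Λ (q + 2) (by omega)
    exact (isZero_rpush_punc A h0 hn q).of_iso
      (e.symm ≪≫ (EtCoh.Rpush (puncι A) (q + 2)).mapIso (EtCore.pullConst (puncι A) (ZMod n)))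
  refine ⟨fun q hq => ?_, ?_⟩
  · match q, hq with
    | 0, _ => exact (isZero_kernel_of_mono _).of_iso ((EtDual.secSupp (puncι A)).rightDerivedZeroIsoSelf.app _)
    | 1, _ =>
      obtain ⟨e⟩ := EtMV.nonempty_locCoh_one (puncι A) Λ
      exact (isZero_cokernel_of_epi _).of_iso e.symm
    | q + 3, _ => exact hhigh q
  · let a₀ : (Γ(U, ⊤) : Type u)ˣ := (((IsLocalization.Away.algebraMap_isUnit
      (S := Localization.Away (Polynomial.X : Polynomial A)) (Polynomial.X : Polynomial A)).map
        (Scheme.ΓSpecIso (CommRingCat.of (Localization.Away (Polynomial.X : Polynomial A)))).inv.hom)).unit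
    let ρ : A →+* Γ(U, ⊤) := (Scheme.ΓSpecIso (CommRingCat.of _)).inv.hom.comp
      ((algebraMap (Polynomial A) (Localization.Away (Polynomial.X : Polynomial A))).comp Polynomial.C)
    have hnU : IsUnit (n : Γ(U, ⊤)) := by
      rw [← map_natCast ρ]; exact hn.map ρ
    have hζU : Polynomial.aeval (ρ ζ) (Polynomial.cyclotomic n ℤ) = 0 := by
      rw [show ρ ζ = ρ.toIntAlgHom ζ from rfl, Polynomial.aeval_algHom_apply, hζ, map_zero]
    obtain ⟨eμ, -⟩ := EtPBC.exists_kummer_const n h0 hnU (ρ ζ) hζU
    have hm : Epi (EtCoh.powMap U n) := Groth.Agent.S0108.result U n hnU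
    let φ := kumHom (puncι A) hm a₀
    haveI : IsIso ((EtCoh.pull (zeroSect A)).map φ) := by
      refine isIso_pull_of_stalks (zeroSect A) φ fun a => ?_
      obtain ⟨Ω, _, _, ξ, hξ, ⟨c⟩⟩ := exists_stalk_punc A h0 hn a
      refine ⟨Ω, inferInstance, inferInstance, ξ, hξ, ?_⟩
      obtain ⟨θ, rfl⟩ := Spec.map_surjective ξ
      have hθX : θ.hom Polynomial.X = 0 := by
        have hmem : (Spec.map θ).base default ∈ Set.range (zeroSect A).base := ⟨a, hξ.symm⟩
        rw [range_zeroSect] at hmem
        let pΩ : PrimeSpectrum Ω := (default : Spec (CommRingCat.of Ω))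
        have h2 : θ.hom Polynomial.X ∈ pΩ.asIdeal := by
          by_contra h3
          exact hmem ((PrimeSpectrum.mem_basicOpen _ _).mpr h3)
        rcases Ideal.eq_bot_or_top pΩ.asIdeal with hb | ht
        · rwa [hb, Ideal.mem_bot] at h2
        · exact absurd ht pΩ.isPrime.ne_top
      haveI : HenselianLocalRing Ω := inferInstance
      haveI : HenselianLocalRing (PowerSeries Ω) := TauTriv.henselianLocalRing_powerSeries Ω
      let L := FractionRing (PowerSeries Ω)
      let v₀ : Polynomial A →+* PowerSeries Ω :=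
        Polynomial.eval₂RingHom (PowerSeries.C.comp (θ.hom.comp Polynomial.C)) PowerSeries.X
      have hX : IsUnit ((algebraMap (PowerSeries Ω) L).comp v₀ Polynomial.X) := by
        rw [RingHom.comp_apply, show v₀ Polynomial.X = PowerSeries.X from Polynomial.eval₂_X _ _]
        exact ((map_ne_zero_iff _ (IsFractionRing.injective (PowerSeries Ω) L)).2 PowerSeries.X_ne_zero).isUnit
      let r := IsLocalization.Away.lift (S := Localization.Away (Polynomial.X : Polynomial A))
        (Polynomial.X : Polynomial A) hX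
      let cst : ResidueField (PowerSeries Ω) ≃+* Ω := PowerSeries.residueFieldOfPowerSeries
      refine isIso_stalk_kumHom (puncι A) hm h0 a₀ (Spec.map θ) (PowerSeries Ω) L
        (Spec.map (CommRingCat.ofHom v₀)) (Spec.map (CommRingCat.ofHom cst.symm.toRingHom)) ?_
        (Spec.map (CommRingCat.ofHom r)) ?_ PowerSeries.X PowerSeries.X_irreducible ?_ ?_
      · rw [← Spec.map_comp, ← Spec.map_comp]
        refine congrArg Spec.map (CommRingCat.hom_ext (Polynomial.ringHom_ext (fun b => ?_) ?_))
        · show cst.symm (θ.hom (Polynomial.C b)) = residue _ (v₀ (Polynomial.C b))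
          refine cst.injective ?_
          rw [RingEquiv.apply_symm_apply, show v₀ (Polynomial.C b) = PowerSeries.C (θ.hom (Polynomial.C b)) from
            Polynomial.eval₂_C _ _]
          exact (PowerSeries.constantCoeff_C _).symm
        · show cst.symm (θ.hom Polynomial.X) = residue _ (v₀ Polynomial.X)
          rw [hθX, map_zero, show v₀ Polynomial.X = PowerSeries.X from Polynomial.eval₂_X _ _, eq_comm,
            IsLocalRing.residue_eq_zero_iff]
          exact PowerSeries.X_irreducible.not_isUnit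
      · rw [← Spec.map_comp, ← Spec.map_comp]
        exact congrArg Spec.map (CommRingCat.hom_ext (IsLocalization.Away.lift_comp _ hX))
      · show (Scheme.ΓSpecIso (CommRingCat.of L)).hom ((Spec.map (CommRingCat.ofHom r)).appTop
          ((Scheme.ΓSpecIso (CommRingCat.of (Localization.Away (Polynomial.X : Polynomial A)))).inv
            (algebraMap (Polynomial A) _ Polynomial.X))) = _
        rw [← CommRingCat.comp_apply, Scheme.ΓSpecIso_naturality, CommRingCat.comp_apply]
        refine (congrArg r ((Scheme.ΓSpecIso _).commRingCatIsoToRingEquiv.apply_symm_apply _)).trans ?_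
        rw [IsLocalization.Away.lift_eq, RingHom.comp_apply]
        exact congrArg _ (Polynomial.eval₂_X _ _)
      · exact ⟨((EtCoh.stalk (Spec.map θ)).mapIso
          ((EtCoh.Rpush (puncι A) 1).mapIso eμ.symm)).addCommGroupIsoToAddEquiv.trans c⟩
    let R1 := (EtCoh.Rpush (puncι A) 1).obj (EtCoh.mu U n)
    haveI : IsIso ((EtCoh.pullPushAdj (zeroSect A)).unit.app R1) :=
      EtDepthX.isIso_unit_of_support (zeroSect A) _ fun x hx => EtPBC.zeroAt_Rpush_openImmersion (puncι A) _ 0
        ((range_puncι A).ge hx)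
    obtain ⟨e⟩ := EtMV.nonempty_locCoh_succ (puncι A) Λ 1 le_rfl
    exact ⟨e.symm ≪≫ (EtCoh.Rpush (puncι A) 1).mapIso (EtCore.pullConst (puncι A) (ZMod n) ≪≫ eμ) ≪≫
      asIso ((EtCoh.pullPushAdj (zeroSect A)).unit.app R1) ≪≫
        (EtCoh.push (zeroSect A)).mapIso (asIso ((EtCoh.pull (zeroSect A)).map φ)).symm⟩

end Groth.Agent.EtPur
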