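import Groth.Agent.EtPushStalk.OpenImm
import Mathlib

/-!
# Restriction to the site over an étale scheme from restriction along the structure map
-/

set_option autoImplicit false
set_option backward.isDefEq.respectTransparency false
set_option backward.isDefEq.respectTransparency.types false

universe u

open CategoryTheory CategoryTheory.Limits AlgebraicGeometry Opposite

noncomputable section

namespace Groth.Agent.EtPur

variable {X : Scheme.{u}} (V : X.Etale) [Etale V.hom] [EtShriek.JCont V.hom]

/-- objects over `V` as étale schemes over `V.left` -/
def overToEtale : Over V ⥤ V.left.Etale where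
  obj o := MorphismProperty.Over.mk ⊤ o.hom.left (by
    haveI : Etale o.left.hom := o.left.prop
    haveI : Etale (o.hom.left ≫ V.hom) := by
      rw [MorphismProperty.Over.w o.hom]; infer_instance
    exact Etale.of_comp o.hom.left V.hom)
  map {o o'} k := MorphismProperty.Over.homMk k.left.left (by
    exact congrArg (fun f => f.left) (Over.w k))

/-- back to `X` -/
def compOverToEtale : Over.forget V ≅ overToEtale V ⋙ EtShriek.compEtale V.hom :=
  NatIso.ofComponents (fun o => MorphismProperty.Over.isoMk (Iso.refl _) (by
    simpa [overToEtale, EtShriek.compEtale] using MorphismProperty.Over.w o.hom))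
    (fun {o o'} k => by
      apply MorphismProperty.Over.Hom.ext
      show k.left.left ≫ 𝟙 _ = 𝟙 _ ≫ k.left.left
      rw [Category.comp_id, Category.id_comp])

/-- an isomorphism of restrictions along `V.hom` gives one of restrictions to the site over `V` -/
theorem nonempty_restr_of_restrAlong {A B : EtCoh.Ab X}
    (e : (EtShriek.restrAlong V.hom).obj A ≅ (EtShriek.restrAlong V.hom).obj B) :
    Nonempty (EtCoh.restr A V ≅ EtCoh.restr B V) := by
  let c := compOverToEtale V
  let e' : (Over.forget V).op ⋙ A.obj ≅ (Over.forget V).op ⋙ B.obj :=
    (Functor.isoWhiskerRight (NatIso.op c.symm) A.obj) ≪≫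
      Functor.isoWhiskerLeft (overToEtale V).op ((sheafToPresheaf _ _).mapIso e) ≪≫
      Functor.isoWhiskerRight (NatIso.op c) B.obj
  exact ⟨(fullyFaithfulSheafToPresheaf _ _).preimageIso e'⟩

end Groth.Agent.EtPur
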