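import Groth.Agent.EtPur.Local
import Groth.Agent.EtPur.RestrOver
import Groth.Agent.Recoll.Etale
import Mathlib

/-!
# Cohomological purity
-/

set_option autoImplicit false
set_option backward.isDefEq.respectTransparency false
set_option backward.isDefEq.respectTransparency.types false
set_option linter.style.haveILetI false
set_option linter.unusedSectionVars false
set_option maxHeartbeats 1000000
set_option synthInstance.maxHeartbeats 400000

universe u

open CategoryTheory CategoryTheory.Limits AlgebraicGeometry Opposite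

noncomputable section

namespace Groth.Agent.EtPur

variable {X Y U : Scheme.{u}} (i : Y ⟶ X) [IsClosedImmersion i] (j : U ⟶ X) [IsOpenImmersion j]
  [EtCoh.BCCont i] [EtCoh.BCCont j]

/-- local cohomology and étale pullback -/
theorem nonempty_pull_locCoh {W : Scheme.{u}} (g : W ⟶ X) [Etale g] (q : ℕ) (F : EtCoh.Ab X) :
    Nonempty ((EtCoh.pull g).obj ((EtDual.locCoh j q).obj F) ≅
      (EtDual.locCoh (pullback.snd j g) q).obj ((EtCoh.pull g).obj F)) := by
  haveI := EtMV.jcont_etale g
  obtain ⟨e⟩ := EtMV.nonempty_restr_locCoh j g q F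
  exact ⟨((EtPushStalk.restrPullIso g).app _).symm ≪≫ e ≪≫
    (EtDual.locCoh (pullback.snd j g) q).mapIso ((EtPushStalk.restrPullIso g).app F)⟩

/-- purity étale locally gives purity -/
theorem purity_of_local (c : ℕ) (F : EtCoh.Ab X)
    (h : ∀ x : X, ∃ (W : Scheme.{u}) (g : W ⟶ X) (_ : Etale g), x ∈ Set.range g.base ∧
      Purity (pullback.snd i g) (pullback.snd j g) c ((EtCoh.pull g).obj F)) :
    (∀ q : ℕ, q ≠ 2 * c → IsZero ((EtDual.locCoh j q).obj F)) ∧
      ∃ (ι : Type u) (V : ι → X.Etale), EtCoh.Covers V ∧ ∀ a : ι,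
        Nonempty (EtCoh.restr ((EtDual.locCoh j (2 * c)).obj F) (V a) ≅
          EtCoh.restr ((EtCoh.push i).obj ((EtCoh.pull i).obj F)) (V a)) := by
  choose W g hg hx hp using h
  constructor
  · intro q hq
    refine Recoll.isZero_of_stalks _ fun Ω _ _ ξ => ?_
    obtain ⟨w, hw⟩ := hx (ξ.base (default : Spec (CommRingCat.of Ω)))
    haveI := hg (ξ.base (default : Spec (CommRingCat.of Ω)))
    obtain ⟨l, -⟩ := Scheme.pointSmallEtaleFiberObjToPreimage_surjective ξ rfl
      (MorphismProperty.Over.mk ⊤ (g (ξ.base (default : Spec (CommRingCat.of Ω))))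
        (hg (ξ.base (default : Spec (CommRingCat.of Ω))))) ⟨w, hw⟩
    let l' : Over.mk ξ ⟶ Over.mk (g (ξ.base (default : Spec (CommRingCat.of Ω)))) := l
    let η : Spec (CommRingCat.of Ω) ⟶ W (ξ.base (default : Spec (CommRingCat.of Ω))) := l'.left
    have hη : η ≫ g (ξ.base (default : Spec (CommRingCat.of Ω))) = ξ := Over.w l'
    obtain ⟨e⟩ := nonempty_pull_locCoh j (g (ξ.base (default : Spec (CommRingCat.of Ω)))) q F
    have h1 := (EtCoh.stalk η).map_isZero (((hp (ξ.base (default : Spec (CommRingCat.of Ω)))).1 q hq).of_iso e)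
    rw [← hη]
    exact h1.of_iso ((EtStalk.stalkPullIso _ η).app _)
  · haveI : ∀ x, Etale (g x) := hg
    let V : X → X.Etale := fun x => MorphismProperty.Over.mk ⊤ (g x) (hg x)
    refine ⟨X, V, fun x => ⟨x, ?_⟩, fun x => ?_⟩
    · obtain ⟨w, hw⟩ := hx x
      exact ⟨w, hw⟩
    haveI : Etale (V x).hom := hg x
    haveI := EtMV.jcont_etale (V x).hom
    haveI := EtMV.jcont_etale (g x)
    obtain ⟨e⟩ := nonempty_pull_locCoh j (g x) (2 * c) F
    obtain ⟨a⟩ := (hp x).2
    obtain ⟨b⟩ := nonempty_pull_pushPull (i := i) (g x) (pullback.snd i (g x)) (pullback.fst i (g x))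
      pullback.condition (Scheme.Pullback.range_snd _ _) F
    exact nonempty_restr_of_restrAlong (V x)
      ((EtPushStalk.restrPullIso (g x)).app _ ≪≫ e ≪≫ a ≪≫ b.symm ≪≫ ((EtPushStalk.restrPullIso (g x)).app _).symm)

end Groth.Agent.EtPur
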