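import Groth.Agent.EtPur.Kummer
import Groth.Agent.EtPBC.GmPull
import Groth.Agent.EtPicLib.Units
import Groth.Agent.EtMV.LocIsoFlasque
import Groth.Agent.S0108
import Mathlib

/-!
# Kummer classes of functions invertible on an open subscheme
-/

set_option autoImplicit false
set_option backward.isDefEq.respectTransparency false
set_option backward.isDefEq.respectTransparency.types false
set_option linter.style.haveILetI false
set_option linter.unusedSectionVars false
set_option maxHeartbeats 1000000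
set_option synthInstance.maxHeartbeats 400000

universe u

open CategoryTheory CategoryTheory.Limits AlgebraicGeometry Opposite
open Groth.Agent.EtFLC (res res_res res_id)
open Groth.Agent.EtMV (oo)
open Groth.Agent.EtPicLib
open Groth.Agent.QC (resO)

noncomputable section

namespace Groth.Agent.EtPur

attribute [local instance 100000] EtCoh.H._proof_1 Groth.Agent.EtMV.hext
attribute [local instance 200000] Groth.Agent.EtMV.hextAb

variable {X U : Scheme.{u}} (j : U ⟶ X) [EtCoh.BCCont j] {n : ℕ} (hm : Epi (EtCoh.powMap U n))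

/-- a function invertible on the preimage in `U` -/
def UnitOn {W : X.Opens} (t : Γ(X, W)) : Prop :=
  IsUnit ((pullback.fst W.ι j).appTop (W.topIso.inv t))

/-- the corresponding section of `j_* 𝔾_m` -/
def gmSect {W : X.Opens} {t : Γ(X, W)} (h : UnitOn j t) : EtCoh.sect ((EtCoh.push j).obj (EtCoh.Gm U)) (oo W) :=
  (exists_uval (T := (EtCoh.bc j).obj (oo W)) h).choose

theorem uval_gmSect {W : X.Opens} {t : Γ(X, W)} (h : UnitOn j t) :
    uval (T := (EtCoh.bc j).obj (oo W)) (gmSect j h) = (pullback.fst W.ι j).appTop (W.topIso.inv t) :=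
  (exists_uval (T := (EtCoh.bc j).obj (oo W)) h).choose_spec

/-- the Kummer class -/
def kumClass {W : X.Opens} {t : Γ(X, W)} (h : UnitOn j t) :
    EtCoh.sect ((EtCoh.Rpush j 1).obj (EtCoh.mu U n)) (oo W) :=
  (EtPBC.pushDelta j (EtSix.kummerShortExact (X := U) hm)).hom.app (op (oo W)) (gmSect j h)

theorem nsmul_kumClass {W : X.Opens} {t : Γ(X, W)} (h : UnitOn j t) : n • kumClass j hm h = 0 := by
  let hS := EtSix.kummerShortExact (X := U) hm
  rw [kumClass, ← map_nsmul ((EtPBC.pushDelta j hS).hom.app (op (oo W))).hom]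
  have h' : n • gmSect j h = ((EtCoh.push j).map (EtCoh.powMap U n)).hom.app (op (oo W)) (gmSect j h) :=
    (KummerLib.powMap_app n _ (gmSect j h)).symm
  rw [h']
  exact ConcreteCategory.congr_hom
    (congrArg (fun t => t.hom.app (op (oo W))) (EtPBC.map_g_pushDelta j hS)) (gmSect j h)

theorem topIso_inv_res {W O : X.Opens} (hO : O ≤ W) (t : Γ(X, W)) :
    (X.homOfLE hO).appTop (W.topIso.inv t) = O.topIso.inv (resO X hO t) := by
  have e : W.topIso.inv ≫ (X.homOfLE hO).appTop = X.presheaf.map (homOfLE hO).op ≫ O.topIso.inv := by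
    simp only [Scheme.Opens.topIso, Functor.mapIso_inv, Scheme.homOfLE_appTop, ← Functor.map_comp]
    rfl
  exact ConcreteCategory.congr_hom e t

theorem fst_res {W O : X.Opens} (hO : O ≤ W) (t : Γ(X, W)) :
    ((EtCoh.bc j).map (EtMV.res hO)).left.appTop ((pullback.fst W.ι j).appTop (W.topIso.inv t)) =
      (pullback.fst O.ι j).appTop (O.topIso.inv (resO X hO t)) := by
  rw [← topIso_inv_res hO t]
  show (((EtCoh.bc j).map (EtMV.res hO)).left ≫ pullback.fst W.ι j).appTop (W.topIso.inv t) =
    (pullback.fst O.ι j ≫ X.homOfLE hO).appTop (W.topIso.inv t)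
  exact congrArg (fun m => (Scheme.Hom.appTop m) (W.topIso.inv t)) (EtCoh.isPullback_bc_map j (EtMV.res hO)).w

theorem unitOn_res {W O : X.Opens} (hO : O ≤ W) {t : Γ(X, W)} (h : UnitOn j t) : UnitOn j (resO X hO t) := by
  have h1 := IsUnit.map ((EtCoh.bc j).map (EtMV.res hO)).left.appTop.hom h
  show IsUnit _
  rw [← fst_res j hO t]
  exact h1

/-- Kummer classes restrict -/
theorem rr_kumClass {W O : X.Opens} (hO : O ≤ W) {t : Γ(X, W)} (h : UnitOn j t) :
    rr _ hO (kumClass j hm h) = kumClass j hm (unitOn_res j hO h) := by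
  refine (ConcreteCategory.congr_hom ((EtPBC.pushDelta j (EtSix.kummerShortExact (X := U) hm)).hom.naturality
    (EtMV.res hO).op) (gmSect j h)).symm.trans ?_
  refine congrArg ((EtPBC.pushDelta j (EtSix.kummerShortExact (X := U) hm)).hom.app (op (oo O))) ?_
  refine uval_injective (T := (EtCoh.bc j).obj (oo O)) ?_
  refine (uval_res ((EtCoh.bc j).map (EtMV.res hO)) (gmSect j h)).trans ?_
  rw [uval_gmSect, uval_gmSect]
  exact fst_res j hO t

/-- units of the ambient scheme have trivial class -/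
theorem gmPush_pushDelta (hX : Epi (EtCoh.powMap X n)) :
    EtPBC.gmPush j ≫ EtPBC.pushDelta j (EtSix.kummerShortExact (X := U) hm) = 0 := by
  haveI := hX
  haveI : (EtCoh.push j).Additive := (EtCoh.pullPushAdj j).right_adjoint_additive
  have h : EtCoh.powMap X n ≫ EtPBC.gmPush j = EtPBC.gmPush j ≫ (EtCoh.push j).map (EtCoh.powMap U n) := by
    rw [EtCoh.powMap, EtCoh.powMap, Functor.map_nsmul, CategoryTheory.Functor.map_id, Preadditive.nsmul_comp,
      Preadditive.comp_nsmul, Category.id_comp, Category.comp_id]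
  rw [← cancel_epi (EtCoh.powMap X n), comp_zero, ← Category.assoc, h, Category.assoc]
  exact (congrArg (EtPBC.gmPush j ≫ ·) (EtPBC.map_g_pushDelta j _)).trans comp_zero

/-- proportional functions have the same class -/
theorem kumClass_eq_of_mul (hX : Epi (EtCoh.powMap X n)) {W : X.Opens} {t t' u : Γ(X, W)} (hu : IsUnit u)
    (h : UnitOn j t) (h' : UnitOn j t') (e : t' = u * t) : kumClass j hm h' = kumClass j hm h := by
  have hg : gmSect j h' = (EtPBC.gmPush j).hom.app (op (oo W)) (ofO hu) + gmSect j h := by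
    refine uval_injective (T := (EtCoh.bc j).obj (oo W)) ?_
    refine Eq.trans ?_ (uval_add _ _).symm
    rw [uval_gmSect, uval_gmSect, e, map_mul, map_mul]
    refine congrArg (· * _) ?_
    show _ = (pullback.fst W.ι j).appTop (uval (ofO hu))
    refine congrArg _ ?_
    have := congrArg W.topIso.inv (oval_ofO hu)
    rw [oval, ← CommRingCat.comp_apply, Iso.hom_inv_id] at this
    exact this.symm
  rw [kumClass, hg, map_add, kumClass]
  have h0 := ConcreteCategory.congr_hom (congrArg (fun f => f.hom.app (op (oo W))) (gmPush_pushDelta j hm hX)) (ofO hu)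
  exact (congrArg (· + _) h0).trans (zero_add _)

/-- glueing sections over opens -/
theorem glue_oo (G : EtCoh.Ab X) {ι : Type*} (P : ι → X.Opens) (hP : ∀ x, ∃ i, x ∈ P i)
    (y : ∀ i, EtCoh.sect G (oo (P i)))
    (h : ∀ a b, rr G (inf_le_left : P a ⊓ P b ≤ P a) (y a) = rr G (inf_le_right : P a ⊓ P b ≤ P b) (y b)) :
    ∃ z : EtCoh.sect G (EtCoh.top X), ∀ i, res G (EtMV.toTop (oo (P i))) z = y i := by
  let T := EtCoh.top X
  let θ : ∀ O : X.Opens, oo O ⟶ EtMV.sub T O := fun O => MorphismProperty.Over.homMk (𝟙 _) (by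
    show 𝟙 _ ≫ O.ι ≫ 𝟙 X = O.ι
    rw [Category.comp_id, Category.id_comp])
  let θ' : ∀ O : X.Opens, EtMV.sub T O ⟶ oo O := fun O => MorphismProperty.Over.homMk (𝟙 _) (by
    show 𝟙 _ ≫ O.ι = O.ι ≫ 𝟙 X
    rw [Category.comp_id, Category.id_comp])
  have hext : ∀ {Z : X.Etale} {O : X.Opens} (a b : Z ⟶ oo O), a = b := fun a b => EtMV.hom_oo_ext a b
  obtain ⟨z, hz⟩ := EtMV.glue_opens G T P (⊤ : X.Opens) (fun i => le_top) (fun x _ => hP x)
    (fun i => res G (θ' (P i)) (y i)) fun a b => by
      rw [res_res, res_res]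
      have h2 := congrArg (res G (θ' (P a ⊓ P b))) (h a b)
      rw [rr, rr, res_res, res_res] at h2
      rw [hext (EtMV.subLe T (inf_le_left : P a ⊓ P b ≤ P a) ≫ θ' (P a))
        (θ' (P a ⊓ P b) ≫ EtMV.res inf_le_left),
        hext (EtMV.subLe T (inf_le_right : P a ⊓ P b ≤ P b) ≫ θ' (P b)) (θ' (P a ⊓ P b) ≫ EtMV.res inf_le_right)]
      exact h2
  let κ : T ⟶ EtMV.sub T ⊤ := MorphismProperty.Over.homMk X.topIso.inv (by
    show X.topIso.inv ≫ Scheme.Opens.ι _ ≫ 𝟙 X = 𝟙 X
    rw [Category.comp_id, ← Scheme.topIso_hom, Iso.inv_hom_id])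
  refine ⟨res G κ z, fun i => ?_⟩
  have h2 := congrArg (res G (θ (P i))) (hz i)
  rw [res_res, res_res, hext (θ (P i) ≫ θ' (P i)) (𝟙 _), res_id] at h2
  rw [res_res, ← h2]
  refine congrArg (fun f => res G f z) (EtMV.hom_sub_ext _ _ ?_)
  exact EtMV.hom_top_ext _ _

end Groth.Agent.EtPur
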