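import Groth.Agent.EtPur.Global
import Groth.Agent.EtPur.EqClass
import Groth.Agent.EtPur.MuStalk
import Groth.Agent.EtFibDense.Basic
import Groth.Agent.EtCons.FlcNear
import Mathlib

/-!
# Units along dense opens, glueing of constant sheaves
-/

set_option autoImplicit false
set_option backward.isDefEq.respectTransparency false
set_option backward.isDefEq.respectTransparency.types false
set_option linter.style.haveILetI false
set_option linter.unusedSectionVars false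
set_option maxHeartbeats 1000000
set_option synthInstance.maxHeartbeats 400000

universe u

open CategoryTheory CategoryTheory.Limits AlgebraicGeometry Opposite
open Groth.Agent.EtMV (oo)

noncomputable section

namespace Groth.Agent.EtPur

variable {X U : Scheme.{u}}

/-- the unit along an open is invertible iff two local cohomology sheaves vanish -/
theorem isIso_unit_iff_locCoh (j : U ⟶ X) [IsOpenImmersion j] [EtCoh.BCCont j] (F : EtCoh.Ab X) :
    IsIso ((EtCoh.pullPushAdj j).unit.app F) ↔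
      IsZero ((EtDual.locCoh j 0).obj F) ∧ IsZero ((EtDual.locCoh j 1).obj F) := by
  haveI := EtMV.preservesFiniteLimits_secSupp j
  haveI : (EtDual.secSupp j).Additive := Functor.additive_of_preserves_binary_products _
  obtain ⟨e₁⟩ := EtMV.nonempty_locCoh_one j F
  let e₀ : (EtDual.locCoh j 0).obj F ≅ kernel (EtDual.unitApp j F) :=
    (EtDual.secSupp j).rightDerivedZeroIsoSelf.app F
  constructor
  · intro h
    haveI : IsIso (EtDual.unitApp j F) := h
    exact ⟨(isZero_kernel_of_mono _).of_iso e₀, (isZero_cokernel_of_epi _).of_iso e₁.symm⟩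
  · intro h
    haveI : Mono (EtDual.unitApp j F) := Preadditive.mono_of_isZero_kernel _ (h.1.of_iso e₀.symm)
    haveI : Epi (EtDual.unitApp j F) := Preadditive.epi_of_isZero_cokernel _ (h.2.of_iso e₁)
    exact isIso_of_mono_of_epi (EtDual.unitApp j F)

/-- invertibility of the unit along an open is local -/
theorem isIso_unit_of_local (j : U ⟶ X) [IsOpenImmersion j] [EtCoh.BCCont j] (F : EtCoh.Ab X)
    (h : ∀ x : X, ∃ (W : Scheme.{u}) (g : W ⟶ X) (_ : Etale g), x ∈ Set.range g.base ∧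
      IsIso ((EtCoh.pullPushAdj (pullback.snd j g)).unit.app ((EtCoh.pull g).obj F))) :
    IsIso ((EtCoh.pullPushAdj j).unit.app F) := by
  suffices key : ∀ q : ℕ, (∀ x : X, ∃ (W : Scheme.{u}) (g : W ⟶ X) (_ : Etale g), x ∈ Set.range g.base ∧
      IsZero ((EtDual.locCoh (pullback.snd j g) q).obj ((EtCoh.pull g).obj F))) →
      IsZero ((EtDual.locCoh j q).obj F) by
    refine (isIso_unit_iff_locCoh j F).2 ⟨key 0 fun x => ?_, key 1 fun x => ?_⟩
    · obtain ⟨W, g, hg, hx, hu⟩ := h x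
      exact ⟨W, g, hg, hx, ((isIso_unit_iff_locCoh _ _).1 hu).1⟩
    · obtain ⟨W, g, hg, hx, hu⟩ := h x
      exact ⟨W, g, hg, hx, ((isIso_unit_iff_locCoh _ _).1 hu).2⟩
  intro q hq
  refine Recoll.isZero_of_stalks _ fun Ω _ _ ξ => ?_
  obtain ⟨W, g, hg, hx, hz⟩ := hq (ξ.base (default : Spec (CommRingCat.of Ω)))
  haveI := hg
  obtain ⟨η, rfl⟩ := exists_lift_etale g ξ hx
  obtain ⟨e⟩ := nonempty_pull_locCoh j g q F
  exact ((EtCoh.stalk η).map_isZero (hz.of_iso e)).of_iso ((EtStalk.stalkPullIso g η).app _)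

/-- locally constant sheaves on a smooth scheme over a field and dense opens -/
theorem isIso_unit_of_dense {k : Type u} [Field k] (h : X ⟶ Spec (CommRingCat.of k)) [Smooth h]
    (j : U ⟶ X) [IsOpenImmersion j] [EtCoh.BCCont j] (hd : Dense (Set.range j.base)) (F : EtCoh.Ab X)
    (M : Type) [AddCommGroup M]
    (hF : ∀ x : X, ∃ (W : Scheme.{u}) (g : W ⟶ X) (_ : Etale g), x ∈ Set.range g.base ∧
      Nonempty ((EtCoh.pull g).obj F ≅ EtCoh.const W M)) :
    IsIso ((EtCoh.pullPushAdj j).unit.app F) := by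
  refine isIso_unit_of_local j F fun x => ?_
  obtain ⟨W, g, hg, hx, ⟨e⟩⟩ := hF x
  haveI := hg
  refine ⟨W, g, hg, hx, ?_⟩
  haveI : Smooth (g ≫ h) := inferInstance
  have hdW : Dense (Set.range (pullback.snd j g).base) := by
    rw [Scheme.Pullback.range_snd]
    exact hd.preimage g.isOpenMap
  have h1 := EtFibDense.isIso_unit (g ≫ h) (pullback.snd j g) (fun w => by
    have : {y : W | (g ≫ h).base y = (g ≫ h).base w} = Set.univ :=
      Set.eq_univ_of_forall fun y => Subsingleton.elim _ _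
    rw [this, Set.inter_univ]
    exact hdW w) (EtCoh.const _ M)
  exact (NatTrans.isIso_app_iff_of_iso _
    (EtCore.pullConst (g ≫ h) M ≪≫ e.symm)).1 h1

/-- sections over the empty open -/
theorem sect_eq_of_eq_bot (L : EtCoh.Ab X) {O : X.Opens} (hO : O = ⊥) (s t : EtCoh.sect L (oo O)) : s = t := by
  subst hO
  refine EtFLC.sect_ext L fun v => ?_
  exact (show False from v.2).elim

/-- glueing constant sheaves along disjoint opens -/
theorem nonempty_iso_const_of_disjoint (L : EtCoh.Ab X) {ι : Type*} (P : ι → X.Opens) (hP : ∀ x, ∃ a, x ∈ P a)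
    (hd : ∀ a b, a ≠ b → P a ⊓ P b = ⊥) {n : ℕ}
    (h : ∀ a, Nonempty ((EtCoh.pull (P a).ι).obj L ≅ EtCoh.const _ (ZMod n))) :
    Nonempty (L ≅ EtCoh.const X (ZMod n)) := by
  have hσ : ∀ a, ∃ σ : ZMod n →+ EtCoh.sect L (oo (P a)), EtFLC.IsTriv L (oo (P a)) σ := fun a => by
    obtain ⟨e⟩ := h a
    haveI := EtMV.jcont_etale (P a).ι
    obtain ⟨σ, hσ⟩ := EtCons.exists_isTriv_of_iso L (P a).ι ((EtPushStalk.restrPullIso (P a).ι).app L ≪≫ e)
    exact ⟨_, hσ.comap (U' := oo (P a)) (MorphismProperty.Over.homMk (𝟙 _) (by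
      show 𝟙 _ ≫ 𝟙 _ ≫ (P a).ι = (P a).ι
      rw [Category.id_comp, Category.id_comp]))⟩
  choose σ hσ using hσ
  obtain ⟨z, hz⟩ := glue_oo L P hP (fun a => σ a 1) fun a b => by
    by_cases hab : a = b
    · subst hab
      rfl
    · exact sect_eq_of_eq_bot L (hd a b hab) _ _
  have hnz : (zmultiplesHom _ z) (n : ℤ) = 0 := by
    rw [zmultiplesHom_apply, natCast_zsmul]
    refine EtFLC.sect_ext L fun v => ?_
    obtain ⟨a, ha⟩ := hP v
    refine ⟨oo (P a), EtMV.toTop _, (⟨v, ha⟩ : (P a).toScheme), rfl, ?_⟩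
    rw [map_nsmul, hz, map_zero, ← map_nsmul, nsmul_one, ZMod.natCast_self, map_zero]
  let τ : ZMod n →+ EtCoh.sect L (EtCoh.top X) := ZMod.lift n ⟨zmultiplesHom _ z, hnz⟩
  have hτ : ∀ a m, EtFLC.res L (EtMV.toTop (oo (P a))) (τ m) = σ a m := fun a m => by
    obtain ⟨m, rfl⟩ := ZMod.intCast_surjective m
    rw [show τ (m : ZMod n) = m • z from ZMod.lift_coe _ _ _, map_zsmul, hz, ← map_zsmul, zsmul_one]
  have hloc : ∀ {V : X.Etale} (g : V ⟶ EtCoh.top X) (v : V.left),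
      ∃ (a : ι) (V' : X.Etale) (r : V' ⟶ V) (v' : V'.left) (g' : V' ⟶ oo (P a)),
        r.left v' = v ∧ r ≫ g = g' ≫ EtMV.toTop _ := by
    intro V g v
    obtain ⟨a, ha⟩ := hP (V.hom v)
    let Q : V.left.Opens := V.hom ⁻¹ᵁ P a
    obtain ⟨g'⟩ := EtMV.exists_lift (T := EtMV.sub V Q) (U := P a) (by
      rintro _ ⟨q, rfl⟩
      exact q.2)
    exact ⟨a, EtMV.sub V Q, EtMV.subι V Q, (⟨v, ha⟩ : Q.toScheme), g', rfl, EtMV.hom_top_ext _ _⟩
  have hτσ : EtFLC.IsTriv L (EtCoh.top X) τ := by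
    refine ⟨fun {V} g s v => ?_, fun {V} g m hm v => ?_⟩
    · obtain ⟨a, V', r, v', g', hv, hg⟩ := hloc g v
      obtain ⟨W, l, w, m, hw, hm⟩ := (hσ a).surj g' (EtFLC.res L r s) v'
      refine ⟨W, l ≫ r, w, m, ?_, ?_⟩
      · rw [EtFLC.comp_left_apply, hw, hv]
      · rw [← EtFLC.res_res, hm, ← hτ, EtFLC.res_res, Category.assoc, Category.assoc, hg]
    · obtain ⟨a, V', r, v', g', hv, hg⟩ := hloc g v
      refine (hσ a).inj g' m ?_ v'
      rw [← hτ, EtFLC.res_res, ← hg, ← EtFLC.res_res, hm, map_zero]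
  haveI : Etale (EtCoh.top X).hom := (EtCoh.top X).prop
  haveI := EtMV.jcont_etale (EtCoh.top X).hom
  obtain ⟨e⟩ := EtCons.nonempty_restr_iso_of_isTriv L (EtCoh.top X) τ hτσ
  exact ⟨(EtCohDesc.pullIdIso.app L).symm ≪≫ ((EtPushStalk.restrPullIso (𝟙 X)).app L).symm ≪≫ e⟩

/-- a maximal disjoint family of good opens is dense -/
theorem exists_disjoint_dense {T : Type*} [TopologicalSpace T] (good : TopologicalSpace.Opens T → Prop)
    (h : ∀ V : TopologicalSpace.Opens T, (V : Set T).Nonempty →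
      ∃ O : TopologicalSpace.Opens T, O ≤ V ∧ (O : Set T).Nonempty ∧ good O) :
    ∃ 𝒪 : Set (TopologicalSpace.Opens T), (∀ O ∈ 𝒪, good O) ∧ (∀ O ∈ 𝒪, ∀ O' ∈ 𝒪, O ≠ O' → O ⊓ O' = ⊥) ∧
      Dense ((sSup 𝒪 : TopologicalSpace.Opens T) : Set T) := by
  let S : Set (Set (TopologicalSpace.Opens T)) :=
    {𝒪 | (∀ O ∈ 𝒪, good O ∧ (O : Set T).Nonempty) ∧ ∀ O ∈ 𝒪, ∀ O' ∈ 𝒪, O ≠ O' → O ⊓ O' = ⊥}
  obtain ⟨𝒪, h𝒪⟩ := zorn_subset S fun c hc hch => by
    refine ⟨⋃₀ c, ⟨fun O ⟨s, hs, hO⟩ => (hc hs).1 O hO, ?_⟩, fun s hs => Set.subset_sUnion_of_mem hs⟩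
    rintro O ⟨s, hs, hO⟩ O' ⟨s', hs', hO'⟩ hne
    rcases hch.total hs hs' with hle | hle
    · exact (hc hs').2 O (hle hO) O' hO' hne
    · exact (hc hs).2 O hO O' (hle hO') hne
  refine ⟨𝒪, fun O hO => (h𝒪.prop.1 O hO).1, h𝒪.prop.2, ?_⟩
  rw [dense_iff_inter_open]
  intro V hV hne
  by_contra hemp
  obtain ⟨O, hOV, hOne, hO⟩ := h ⟨V, hV⟩ hne
  have hdis : ∀ O' ∈ 𝒪, O ⊓ O' = ⊥ := fun O' hO' => by
    ext t
    simp only [TopologicalSpace.Opens.coe_inf, TopologicalSpace.Opens.coe_bot, Set.mem_inter_iff,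
      Set.mem_empty_iff_false, iff_false, not_and]
    intro ht ht'
    exact hemp ⟨t, hOV ht, TopologicalSpace.Opens.mem_sSup.2 ⟨O', hO', ht'⟩⟩
  have hmem : insert O 𝒪 ∈ S := by
    refine ⟨fun O' hO' => ?_, fun A hA B hB hne' => ?_⟩
    · rcases hO' with rfl | hO'
      · exact ⟨hO, hOne⟩
      · exact h𝒪.prop.1 O' hO'
    · rcases hA with rfl | hA <;> rcases hB with rfl | hB
      · exact absurd rfl hne'
      · exact hdis B hB
      · rw [inf_comm]; exact hdis A hA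
      · exact h𝒪.prop.2 A hA B hB hne'
  have hOin : O ∈ 𝒪 := h𝒪.2 hmem (Set.subset_insert _ _) (Set.mem_insert _ _)
  obtain ⟨t, ht⟩ := hOne
  exact hemp ⟨t, hOV ht, TopologicalSpace.Opens.mem_sSup.2 ⟨O, hOin, ht⟩⟩

end Groth.Agent.EtPur
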