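import Groth.Prelude.Def_SGA1t
import Groth.Agent.EtPur.LocalUnit
import Groth.Agent.EtChart.Basic
import Groth.Agent.EtDepthX.UnitBC
import Groth.Agent.EtIntegralBC.Counit
import Groth.Agent.EtCons.NoethCons
import Mathlib

/-!
# Constant sheaves and complements of relative normal crossings divisors
-/

set_option autoImplicit false
set_option backward.isDefEq.respectTransparency false
set_option backward.isDefEq.respectTransparency.types false
set_option linter.style.haveILetI false
set_option linter.unusedSectionVars false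
set_option maxHeartbeats 1000000
set_option synthInstance.maxHeartbeats 400000

universe u

open CategoryTheory CategoryTheory.Limits AlgebraicGeometry Opposite

noncomputable section

namespace Groth.Agent.EtPur

open SGA1t (vanishingAt compl IsRelSNC)

/-- the complement of coordinate hyperplanes is dense in every fibre -/
theorem dense_coord {n : Type u} (S : Scheme.{u}) (s : Set n) (z : 𝔸(n; S)) :
    z ∈ closure ({y : 𝔸(n; S) | ∀ i ∈ s, y ∈ 𝔸(n; S).basicOpen (AffineSpace.coord S i)} ∩
      {y | (𝔸(n; S) ↘ S).base y = (𝔸(n; S) ↘ S).base z}) := by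
  classical
  let π := 𝔸(n; S) ↘ S
  let K := S.residueField (π.base z)
  let ι : Spec K ⟶ S := S.fromSpecResidueField (π.base z)
  let ψ : Spec (CommRingCat.of (MvPolynomial n K)) ⟶ 𝔸(n; S) :=
    (AffineSpace.SpecIso n K).inv ≫ AffineSpace.map n ι
  refine mem_closure_iff.2 fun O hO hzO => ?_
  obtain ⟨w, hw, -⟩ := Scheme.Pullback.exists_preimage_pullback (f := π) (g := ι) z default
    (by
      show π.base z = ι.base default
      exact (Set.mem_singleton_iff.1 ((Scheme.range_fromSpecResidueField (π.base z)).le ⟨default, rfl⟩)).symm)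
  let e := (AffineSpace.isPullback_map (n := n) ι).isoPullback
  let p : Spec (CommRingCat.of (MvPolynomial n K)) := (AffineSpace.SpecIso n K).hom.base (e.inv.base w)
  have hp : ψ.base p = z := by
    show ((AffineSpace.SpecIso n K).hom ≫ (AffineSpace.SpecIso n K).inv ≫ AffineSpace.map n ι).base (e.inv.base w) = z
    rw [Iso.hom_inv_id_assoc, ← hw]
    show (e.inv ≫ AffineSpace.map n ι).base w = _
    rw [(AffineSpace.isPullback_map (n := n) ι).isoPullback_inv_fst]
  let P : PrimeSpectrum (MvPolynomial n K) := ⟨⊥, Ideal.isPrime_bot⟩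
  have hsp : P ⤳ (p : PrimeSpectrum (MvPolynomial n K)) := (PrimeSpectrum.le_iff_specializes _ _).1 bot_le
  have hP : ψ.base P ∈ O := (hsp.map ψ.continuous).mem_open hO (by show ψ.base p ∈ O; rw [hp]; exact hzO)
  refine ⟨ψ.base P, hP, fun i _ => ?_, ?_⟩
  · show P ∈ ψ ⁻¹ᵁ 𝔸(n; S).basicOpen (AffineSpace.coord S i)
    rw [Scheme.preimage_basicOpen_top, Scheme.Hom.comp_appTop, CommRingCat.comp_apply, AffineSpace.map_appTop_coord,
      AffineSpace.SpecIso_inv_appTop_coord, basicOpen_eq_of_affine]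
    show P ∈ PrimeSpectrum.basicOpen (MvPolynomial.X i)
    intro h
    exact MvPolynomial.X_ne_zero i ((Submodule.mem_bot _).1 h)
  · show (ψ ≫ π).base P = π.base z
    rw [Category.assoc, AffineSpace.map_over, AffineSpace.SpecIso_inv_over_assoc]
    exact Set.mem_singleton_iff.1 ((Scheme.range_fromSpecResidueField (π.base z)).le ⟨_, rfl⟩)

variable {X S : Scheme.{u}} (f : X ⟶ S) {r : ℕ} (φ : Fin r → Γ(X, ⊤))

theorem mem_compl_iff (x : X) : x ∈ compl φ ↔ ∀ i, x ∈ X.basicOpen (φ i) := by
  show x ∈ X.basicOpen (∏ i, φ i) ↔ _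
  rw [Scheme.mem_basicOpen_top, map_prod, IsUnit.prod_univ_iff]
  simp only [Scheme.mem_basicOpen_top]

/-- **constant sheaves extend across relative normal crossings divisors** -/
theorem isIso_unit_compl (hD : IsRelSNC f φ) (M : Type) [AddCommGroup M] :
    IsIso ((EtCoh.pullPushAdj (compl φ).ι).unit.app (EtCoh.const X M)) := by
  classical
  refine isIso_unit_of_local (compl φ).ι _ fun x => ?_
  by_cases hv : Nonempty (vanishingAt φ x)
  · obtain ⟨W, hxW, d, v, e, he, hg, hve⟩ := hD x hv
    let W' : X.Opens := W ⊓ Finset.univ.inf fun i : Fin r => if x ∈ X.basicOpen (φ i) then X.basicOpen (φ i) else ⊤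
    have hW'W : W' ≤ W := inf_le_left
    have hW'i : ∀ i, x ∈ X.basicOpen (φ i) → W' ≤ X.basicOpen (φ i) := fun i hi =>
      (inf_le_right : W' ≤ _).trans ((Finset.inf_le (Finset.mem_univ i)).trans_eq (if_pos hi))
    have hxW' : x ∈ W' := by
      refine ⟨hxW, ?_⟩
      show x ∈ ((Finset.univ.inf _ : X.Opens) : Set X)
      rw [TopologicalSpace.Opens.coe_finset_inf]
      simp only [Finset.inf_set_eq_iInter, Set.mem_iInter]
      intro i _
      dsimp
      split
      · assumption
      · trivial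
    let n : Type u := ULift.{u} (Fin d)
    let π := 𝔸(n; S) ↘ S
    haveI : Smooth π := EtChart.smooth_over n S
    let g : W.toScheme ⟶ 𝔸(n; S) := AffineSpace.homOfVector (W.ι ≫ f) v
    haveI : Etale g := hg
    let g' : W'.toScheme ⟶ 𝔸(n; S) := X.homOfLE hW'W ≫ g
    haveI : Etale g' := inferInstanceAs (Etale (X.homOfLE hW'W ≫ g))
    have hgπ : g' ≫ π = W'.ι ≫ f := by
      simp only [g', g, π, Category.assoc, AffineSpace.homOfVector_over, Scheme.homOfLE_ι_assoc]
    haveI : Smooth (W'.ι ≫ f) := by rw [← hgπ]; infer_instance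
    refine ⟨W'.toScheme, W'.ι, inferInstance, ⟨⟨x, hxW'⟩, rfl⟩, ?_⟩
    refine (NatTrans.isIso_app_iff_of_iso _
      (EtCore.pullConst (W'.ι ≫ f) M ≪≫ (EtCore.pullConst W'.ι M).symm)).1 ?_
    refine EtFibDense.isIso_unit (W'.ι ≫ f) _ (fun z => ?_) (EtCoh.const S M)
    refine mem_closure_iff.2 fun O hO hzO => ?_
    let s : Finset n := (Finset.univ.filter fun i : Fin d => i ∈ Set.range e).map Equiv.ulift.symm.toEmbedding
    obtain ⟨y, ⟨o, ho, rfl⟩, hyD, hyfib⟩ := mem_closure_iff.1 (dense_coord S (↑s : Set n) (g'.base z)) (g'.base '' O)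
      (g'.isOpenMap O hO) ⟨z, hzO, rfl⟩
    refine ⟨o, ho, ?_, ?_⟩
    · rw [Scheme.Pullback.range_snd]
      show W'.ι.base o ∈ Set.range (compl φ).ι.base
      rw [Scheme.Opens.range_ι]
      refine (mem_compl_iff φ _).2 fun i => ?_
      by_cases hi : x ∈ X.basicOpen (φ i)
      · exact hW'i i hi o.2
      have h1 := hyD (ULift.up (e ⟨i, hi⟩)) (Finset.mem_map.2
        ⟨e ⟨i, hi⟩, Finset.mem_filter.2 ⟨Finset.mem_univ _, ⟨_, rfl⟩⟩, rfl⟩)
      have h2 : (X.homOfLE hW'W).base o ∈ g ⁻¹ᵁ 𝔸(n; S).basicOpen (AffineSpace.coord S (ULift.up (e ⟨i, hi⟩))) := h1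
      rw [Scheme.preimage_basicOpen_top, AffineSpace.homOfVector_appTop_coord, hve ⟨i, hi⟩] at h2
      have h3 : W.ι.base ((X.homOfLE hW'W).base o) ∈ X.basicOpen (X.presheaf.map (homOfLE le_top).op (φ i) : Γ(X, W)) := by
        rw [← W.ι_image_basicOpen_topIso_inv]
        exact ⟨_, h2, rfl⟩
      have h4 : W.ι.base ((X.homOfLE hW'W).base o) = W'.ι.base o :=
        congrArg (fun k => k.base o) (X.homOfLE_ι hW'W)
      rw [h4, Scheme.basicOpen_res] at h3
      exact h3.2
    · show (W'.ι ≫ f).base o = (W'.ι ≫ f).base z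
      rw [← hgπ]
      exact hyfib
  · have hx : x ∈ compl φ := (mem_compl_iff φ x).2 fun i => by
      by_contra hi
      exact hv ⟨⟨i, hi⟩⟩
    refine ⟨(compl φ).toScheme, (compl φ).ι, inferInstance, ⟨⟨x, hx⟩, rfl⟩, ?_⟩
    have hr : Set.range (pullback.snd (compl φ).ι (compl φ).ι).base = Set.univ := by
      rw [Scheme.Pullback.range_snd]
      exact Set.eq_univ_of_forall fun u => ⟨u, rfl⟩
    exact (isIso_unit_iff_locCoh _ _).2
      ⟨isZero_locCoh_of_range_univ _ hr _ _, isZero_locCoh_of_range_univ _ hr _ _⟩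

/-- base change of relative normal crossings divisors -/
theorem isRelSNC_baseChange {S' : Scheme.{u}} (h : S' ⟶ S) (hD : IsRelSNC f φ) :
    IsRelSNC (pullback.snd f h) (fun i => (pullback.fst f h).appTop (φ i)) := by
  classical
  let k := pullback.fst f h
  intro x' hx'
  have hk : ∀ i, x' ∈ (pullback f h : Scheme.{u}).basicOpen (k.appTop (φ i)) ↔ k.base x' ∈ X.basicOpen (φ i) :=
    fun i => by rw [← Scheme.preimage_basicOpen_top]; rfl
  let back : vanishingAt (fun i => k.appTop (φ i)) x' → vanishingAt φ (k.base x') :=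
    fun i => ⟨i.1, fun hh => i.2 ((hk i.1).2 hh)⟩
  obtain ⟨W, hxW, d, v, e, he, hg, hve⟩ := hD (k.base x') (hx'.map back)
  let W' : (pullback f h : Scheme.{u}).Opens := k ⁻¹ᵁ W
  let g : W.toScheme ⟶ 𝔸(ULift.{u} (Fin d); S) := AffineSpace.homOfVector (W.ι ≫ f) v
  haveI : Etale g := hg
  let v' : ULift.{u} (Fin d) → Γ(W'.toScheme, ⊤) := fun i => (k ∣_ W).appTop (v i)
  refine ⟨W', hxW, d, v', fun i => e (back i), fun a b hab => Subtype.ext (show (back a).1 = (back b).1 from congrArg Subtype.val (he hab : back a = back b)), ?_, fun i => ?_⟩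
  · let g' := AffineSpace.homOfVector (W'.ι ≫ pullback.snd f h) v'
    have hfac : g' ≫ AffineSpace.map (ULift.{u} (Fin d)) h = (k ∣_ W) ≫ g := by
      refine AffineSpace.hom_ext ?_ fun i => ?_
      · simp only [g', g, Category.assoc, AffineSpace.map_over, AffineSpace.homOfVector_over,
          AffineSpace.homOfVector_over_assoc, morphismRestrict_ι_assoc]
        rw [← pullback.condition]
      · simp only [Scheme.Hom.comp_appTop, CommRingCat.comp_apply, AffineSpace.map_appTop_coord, g', g,
          AffineSpace.homOfVector_appTop_coord, v']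
        rfl
    have hcart : IsPullback (k ∣_ W) g' g (AffineSpace.map (ULift.{u} (Fin d)) h) := by
      have hT : IsPullback (AffineSpace.map (ULift.{u} (Fin d)) h) (𝔸(ULift.{u} (Fin d); S') ↘ S')
        (𝔸(ULift.{u} (Fin d); S) ↘ S) h := AffineSpace.isPullback_map h
      refine IsPullback.of_bot ?_ hfac.symm hT
      simp only [g', g, AffineSpace.homOfVector_over]
      exact (isPullback_morphismRestrict k W).paste_vert (IsPullback.of_hasPullback f h)
    exact MorphismProperty.of_isPullback (P := @Etale) hcart inferInstance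
  · show (k ∣_ W).appTop (v (ULift.up (e (back i)))) = _
    rw [hve (back i)]
    have h1 : (k ∣_ W) ≫ W.ι = W'.ι ≫ k := morphismRestrict_ι k W
    have h2 : ∀ {Z : Scheme.{u}} (V : Z.Opens) (a : Γ(Z, ⊤)),
        V.topIso.inv (Z.presheaf.map (homOfLE le_top).op a) = V.ι.appTop a := fun V a => by
      simp only [Scheme.Opens.topIso, Functor.mapIso_inv, Iso.op_inv, eqToIso.inv, eqToHom_op,
        Scheme.Opens.ι_appTop, ← CommRingCat.comp_apply, ← Functor.map_comp]
      rfl
    show (k ∣_ W).appTop (W.topIso.inv (X.presheaf.map (homOfLE le_top).op (φ i.1))) =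
      W'.topIso.inv ((pullback f h : Scheme.{u}).presheaf.map (homOfLE le_top).op (k.appTop (φ i.1)))
    rw [h2, h2, ← CommRingCat.comp_apply, ← CommRingCat.comp_apply, ← Scheme.Hom.comp_appTop, h1,
      Scheme.Hom.comp_appTop]

end Groth.Agent.EtPur
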