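import Groth.Agent.EtPur.Step
import Groth.Agent.EtPur.LineCore
import Groth.Agent.EtDepthX.FibreChoice
import Groth.Agent.EtCohDesc.Retract
import Groth.Agent.EtPBC.ConstKilled
import Mathlib

/-!
# Purity for the origin of affine space
-/

set_option autoImplicit false
set_option backward.isDefEq.respectTransparency false
set_option backward.isDefEq.respectTransparency.types false
set_option linter.style.haveILetI false
set_option linter.unusedSectionVars false
set_option maxHeartbeats 1000000
set_option synthInstance.maxHeartbeats 400000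

universe u

open CategoryTheory CategoryTheory.Limits AlgebraicGeometry Opposite TopologicalSpace

noncomputable section

namespace Groth.Agent.EtPur

variable {X : Scheme.{u}}

/-- sheaves pushed from closed subschemes with nested structures -/
theorem nonempty_pushPull_of_le {Y Y' : Scheme.{u}} (i : Y ⟶ X) (i' : Y' ⟶ X) [IsClosedImmersion i]
    [IsClosedImmersion i'] [EtCoh.BCCont i] [EtCoh.BCCont i'] (e : Y' ⟶ Y) (w : e ≫ i = i')
    (hr : Set.range i'.base = Set.range i.base) (F : EtCoh.Ab X) :
    Nonempty ((EtCoh.push i).obj ((EtCoh.pull i).obj F) ≅ (EtCoh.push i').obj ((EtCoh.pull i').obj F)) := by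
  let eid : EtCoh.pull (𝟙 X) ≅ 𝟭 (EtCoh.Ab X) := EtCohDesc.pullIdIso
  obtain ⟨a⟩ := nonempty_pull_pushPull (i := i) (𝟙 X) i' e (by rw [Category.comp_id, w]) (by simp [hr]) F
  exact ⟨(eid.app _).symm ≪≫ a ≪≫ ((EtCoh.pull i') ⋙ EtCoh.push i').mapIso (eid.app F)⟩

/-- **sheaves pushed from a closed subscheme depend only on the closed set** -/
theorem nonempty_pushPull_congr {Y Y' : Scheme.{u}} (i : Y ⟶ X) (i' : Y' ⟶ X) [IsClosedImmersion i]
    [IsClosedImmersion i'] [EtCoh.BCCont i] [EtCoh.BCCont i'] (hr : Set.range i'.base = Set.range i.base)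
    (F : EtCoh.Ab X) :
    Nonempty ((EtCoh.push i).obj ((EtCoh.pull i).obj F) ≅ (EtCoh.push i').obj ((EtCoh.pull i').obj F)) := by
  let C : Closeds X := ⟨Set.range i.base, i.isClosedEmbedding.isClosed_range⟩
  have hle : ∀ {Z : Scheme.{u}} (k : Z ⟶ X) [IsClosedImmersion k], Set.range k.base = (C : Set X) →
      k.ker ≤ (EtDepthX.redI C).ker := fun k _ hk => by
    rw [Scheme.IdealSheafData.ker_subschemeι]
    refine (Scheme.IdealSheafData.le_support_iff_le_vanishingIdeal).1 ?_
    intro x hx
    rw [← SetLike.mem_coe, Scheme.Hom.support_ker]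
    exact subset_closure (hk.ge hx)
  obtain ⟨a⟩ := nonempty_pushPull_of_le i (EtDepthX.redI C) (IsClosedImmersion.lift i _ (hle i rfl))
    (IsClosedImmersion.lift_fac _ _ _) (by rw [EtDepthX.range_redI]; rfl) F
  obtain ⟨b⟩ := nonempty_pushPull_of_le i' (EtDepthX.redI C) (IsClosedImmersion.lift i' _ (hle i' hr))
    (IsClosedImmersion.lift_fac _ _ _) (by rw [EtDepthX.range_redI, hr]; rfl) F
  exact ⟨a ≪≫ b.symm⟩

/-- purity only depends on the closed set and its complement -/
theorem purity_congr {Y Y' U U' : Scheme.{u}} (i : Y ⟶ X) (i' : Y' ⟶ X) [IsClosedImmersion i]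
    [IsClosedImmersion i'] (j : U ⟶ X) [IsOpenImmersion j] (j' : U' ⟶ X) [IsOpenImmersion j']
    [EtCoh.BCCont i] [EtCoh.BCCont i'] [EtCoh.BCCont j] [EtCoh.BCCont j']
    (hr : Set.range i'.base = Set.range i.base) (hj : Set.range j'.base = Set.range j.base) {c : ℕ}
    {F : EtCoh.Ab X} (h : Purity i j c F) : Purity i' j' c F := by
  have hsupp : Nonempty (EtDual.secSupp j ≅ EtDual.secSupp j') := by
    have key : ∀ {V V' : Scheme.{u}} (k : V ⟶ X) [IsOpenImmersion k] [EtCoh.BCCont k] (k' : V' ⟶ X)
        [IsOpenImmersion k'] [EtCoh.BCCont k'], Set.range k'.base = Set.range k.base → ∀ G : EtCoh.Ab X,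
        kernel.ι (EtDual.unitApp k G) ≫ EtDual.unitApp k' G = 0 := by
      intro V V' k _ _ k' _ _ hk G
      rw [EtMV.comp_unit_eq_zero_iff]
      intro T s
      haveI := EtMV.isOpenImmersion_counit k T
      haveI := EtMV.isOpenImmersion_counit k' T
      refine (map_eq_zero_iff_of_range G _ _ ?_ _).2
        ((EtMV.comp_unit_eq_zero_iff k (kernel.ι (EtDual.unitApp k G))).1 (kernel.condition _) T s)
      rw [range_counit, range_counit, hk]
    exact ⟨NatIso.ofComponents
      (fun G => { hom := kernel.lift _ _ (key j j' hj G), inv := kernel.lift _ _ (key j' j hj.symm G)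
                  hom_inv_id := by apply (cancel_mono (kernel.ι _)).1; simp
                  inv_hom_id := by apply (cancel_mono (kernel.ι _)).1; simp })
      (fun {G G'} f => by apply (cancel_mono (kernel.ι _)).1; simp)⟩
  obtain ⟨es⟩ := hsupp
  let e := fun q => (GrothSS.rightDerivedMapIso es q).app F
  refine ⟨fun q hq => (h.1 q hq).of_iso (e q).symm, ?_⟩
  obtain ⟨a⟩ := h.2
  obtain ⟨b⟩ := nonempty_pushPull_congr i i' hr F
  exact ⟨(e (2 * c)).symm ≪≫ a ≪≫ b⟩

/-- coordinates of the origin -/
abbrev origin (c : ℕ) (A : Type u) [CommRing A] :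
    Spec (CommRingCat.of A) ⟶ Spec (CommRingCat.of (MvPolynomial (Fin c) A)) :=
  Spec.map (CommRingCat.ofHom (MvPolynomial.eval (0 : Fin c → A)))

instance isClosedImmersion_origin (c : ℕ) (A : Type u) [CommRing A] : IsClosedImmersion (origin c A) :=
  IsClosedImmersion.spec_of_surjective _ fun a => ⟨MvPolynomial.C a, by simp⟩

/-- the complement of the origin -/
abbrev offOrigin (c : ℕ) (A : Type u) [CommRing A] : (Spec (CommRingCat.of (MvPolynomial (Fin c) A))).Opens :=
  ⟨(Set.range (origin c A).base)ᶜ, (origin c A).isClosedEmbedding.isClosed_range.isOpen_compl⟩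

theorem range_ι {Z : Scheme.{u}} (O : Z.Opens) : Set.range O.ι.base = (O : Set Z) := O.range_ι

theorem quasiCompact_of_range {R : CommRingCat.{u}} {V : Scheme.{u}} (j : V ⟶ Spec R) [IsOpenImmersion j]
    (h : IsCompact (Set.range j.base)) : QuasiCompact j :=
  haveI : CompactSpace V := ⟨j.isOpenEmbedding.isInducing.isCompact_iff.2 (by rwa [Set.image_univ])⟩
  HasAffineProperty.iff_of_isAffine.2 ‹_›

theorem range_origin (c : ℕ) (A : Type u) [CommRing A] : Set.range (origin c A).base =
    PrimeSpectrum.zeroLocus (Set.range (MvPolynomial.X : Fin c → MvPolynomial (Fin c) A)) := by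
  show Set.range (PrimeSpectrum.comap (MvPolynomial.eval (0 : Fin c → A))) = _
  rw [range_comap_of_surjective _ _ fun a => ⟨MvPolynomial.C a, by simp⟩, ← PrimeSpectrum.zeroLocus_span
    (Set.range (MvPolynomial.X : Fin c → MvPolynomial (Fin c) A))]
  refine congrArg (fun I : Ideal (MvPolynomial (Fin c) A) => PrimeSpectrum.zeroLocus (I : Set (MvPolynomial (Fin c) A)))
    (le_antisymm ?_ ?_)
  · have key : ∀ p : MvPolynomial (Fin c) A, p - MvPolynomial.C (MvPolynomial.eval (0 : Fin c → A) p) ∈
        Ideal.span (Set.range MvPolynomial.X) := by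
      intro p
      induction p using MvPolynomial.induction_on with
      | C a => simp
      | add p q hp hq =>
        have e : p + q - MvPolynomial.C (MvPolynomial.eval (0 : Fin c → A) (p + q)) =
            (p - MvPolynomial.C (MvPolynomial.eval 0 p)) + (q - MvPolynomial.C (MvPolynomial.eval 0 q)) := by
          rw [map_add, map_add]; ring
        rw [e]
        exact Ideal.add_mem _ hp hq
      | mul_X p i _ =>
        rw [map_mul, MvPolynomial.eval_X, Pi.zero_apply, mul_zero, map_zero, sub_zero]
        exact Ideal.mul_mem_left _ _ (Ideal.subset_span ⟨i, rfl⟩)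
    intro p hp
    have := key p
    rwa [RingHom.mem_ker.1 hp, map_zero, sub_zero] at this
  · rw [Ideal.span_le]
    rintro _ ⟨i, rfl⟩
    exact RingHom.mem_ker.2 (by simp)

instance quasiCompact_offOrigin (c : ℕ) (A : Type u) [CommRing A] : QuasiCompact (offOrigin c A).ι := by
  refine quasiCompact_of_range _ ?_
  rw [range_ι]
  show IsCompact (Set.range (origin c A).base)ᶜ
  have : (Set.range (origin c A).base)ᶜ = ⋃ i : Fin c,
      (PrimeSpectrum.basicOpen (MvPolynomial.X i : MvPolynomial (Fin c) A) : Set (PrimeSpectrum _)) := by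
    rw [range_origin, ← Set.iUnion_singleton_eq_range, PrimeSpectrum.zeroLocus_iUnion, Set.compl_iInter]
    refine Set.iUnion_congr fun i => ?_
    rw [PrimeSpectrum.basicOpen_eq_zeroLocus_compl]
  rw [this]
  exact isCompact_iUnion fun i => PrimeSpectrum.isCompact_basicOpen _

/-- **purity for the origin of affine space** -/
theorem purity_univ {n : ℕ} (h0 : 0 < n) : ∀ (c : ℕ) (A : Type u) [CommRing A], IsUnit (n : A) → ∀ ζ : A,
    Polynomial.aeval ζ (Polynomial.cyclotomic n ℤ) = 0 → 0 < c →
      Purity (origin c A) (offOrigin c A).ι c (EtCoh.const _ (ZMod n)) := by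
  intro c
  induction c with
  | zero => exact fun A _ _ _ _ h => absurd h (lt_irrefl 0)
  | succ c ih =>
    intro A _ hn ζ hζ _
    let P := MvPolynomial (Fin c) A
    let e : MvPolynomial (Fin (c + 1)) A ≃ₐ[A] Polynomial P := MvPolynomial.finSuccEquiv A c
    let g : Spec (CommRingCat.of (MvPolynomial (Fin (c + 1)) A)) ⟶ Spec (CommRingCat.of (Polynomial P)) :=
      Spec.map (CommRingCat.ofHom e.symm.toRingEquiv.toRingHom)
    haveI : IsIso g := inferInstanceAs (IsIso (Spec.map e.symm.toRingEquiv.toCommRingCatIso.hom))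
    have hnP : IsUnit (n : P) := by
      rw [← map_natCast (algebraMap A P)]; exact hn.map _
    have hζP : Polynomial.aeval (algebraMap A P ζ) (Polynomial.cyclotomic n ℤ) = 0 := by
      rw [show algebraMap A P ζ = (algebraMap A P).toIntAlgHom ζ from rfl, Polynomial.aeval_algHom_apply, hζ, map_zero]
    let y := origin c A ≫ zeroSect P
    let O : (Spec (CommRingCat.of (Polynomial P))).Opens :=
      ⟨(Set.range y.base)ᶜ, y.isClosedEmbedding.isClosed_range.isOpen_compl⟩
    have hy : origin (c + 1) A ≫ g = y := by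
      show _ ≫ _ = origin c A ≫ zeroSect P
      rw [← Spec.map_comp, ← Spec.map_comp]
      refine congrArg Spec.map (CommRingCat.hom_ext ?_)
      show (MvPolynomial.eval (0 : Fin (c + 1) → A)).comp e.symm.toRingEquiv.toRingHom =
        (MvPolynomial.eval (0 : Fin c → A)).comp (Polynomial.evalRingHom (0 : P))
      refine RingHom.cancel_right (f := e.toRingEquiv.toRingHom) e.surjective |>.1 ?_
      rw [RingHom.comp_assoc, RingHom.comp_assoc,
        show e.symm.toRingEquiv.toRingHom.comp e.toRingEquiv.toRingHom = RingHom.id _ from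
          RingHom.ext fun x => e.symm_apply_apply x, RingHom.comp_id]
      refine MvPolynomial.ringHom_ext (fun a => ?_) fun i => ?_
      · show MvPolynomial.eval (0 : Fin (c + 1) → A) (MvPolynomial.C a) =
          MvPolynomial.eval (0 : Fin c → A) (Polynomial.eval (0 : P) (e (MvPolynomial.C a)))
        rw [show e (MvPolynomial.C a) = Polynomial.C (MvPolynomial.C a) from e.commutes a, Polynomial.eval_C,
          MvPolynomial.eval_C, MvPolynomial.eval_C]
      · show MvPolynomial.eval (0 : Fin (c + 1) → A) (MvPolynomial.X i) =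
          MvPolynomial.eval (0 : Fin c → A) (Polynomial.eval (0 : P) (e (MvPolynomial.X i)))
        rw [MvPolynomial.eval_X, Pi.zero_apply]
        cases i using Fin.cases with
        | zero =>
          rw [show e (MvPolynomial.X 0) = Polynomial.X from MvPolynomial.finSuccEquiv_X_zero, Polynomial.eval_X,
            map_zero]
        | succ k =>
          rw [show e (MvPolynomial.X k.succ) = Polynomial.C (MvPolynomial.X k) from MvPolynomial.finSuccEquiv_X_succ,
            Polynomial.eval_C, MvPolynomial.eval_X, Pi.zero_apply]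
    have hP : Purity y O.ι (c + 1) (EtCoh.const _ (ZMod n)) := by
      rcases Nat.eq_zero_or_pos c with rfl | hc
      · have h1 := purity_line P h0 hnP _ hζP
        have hsurj : Set.range (origin 0 A).base = Set.univ := by
          have hb : Function.Bijective (MvPolynomial.eval (0 : Fin 0 → A)) :=
            ⟨fun p q h => by
              rw [MvPolynomial.eq_C_of_isEmpty p, MvPolynomial.eq_C_of_isEmpty q] at h ⊢
              simpa using h, fun a => ⟨MvPolynomial.C a, by simp⟩⟩
          haveI : IsIso (CommRingCat.ofHom (MvPolynomial.eval (0 : Fin 0 → A))) :=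
            (ConcreteCategory.isIso_iff_bijective _).2 hb
          exact Set.range_eq_univ.2 (origin 0 A).surjective
        have hry : Set.range y.base = Set.range (zeroSect P).base := by
          show Set.range ((zeroSect P).base ∘ (origin 0 A).base) = _
          rw [Set.range_comp, hsurj, Set.image_univ]
        refine purity_congr (zeroSect P) y (puncι P) O.ι hry ?_ h1
        rw [range_ι, range_puncι, ← hry]
        rfl
      · have h1 := purity_line P h0 hnP _ hζP
        have h2 := ih A hn ζ hζ hc
        obtain ⟨z⟩ : Nonempty ((EtCoh.pull (zeroSect P)).obj (EtCoh.const _ (ZMod n)) ≅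
            EtCoh.const _ (ZMod n)) := ⟨EtCore.pullConst _ (ZMod n)⟩
        refine purity_step (zeroSect P) (origin c A) (puncι P) O.ι (offOrigin c A).ι (range_puncι P) (range_ι O)
          (range_ι _) _ h1 ⟨fun q hq => (h2.1 q hq).of_iso ((EtDual.locCoh _ q).mapIso z), ?_⟩
        obtain ⟨a⟩ := h2.2
        exact ⟨(EtDual.locCoh _ _).mapIso z ≪≫ a ≪≫
          (EtCoh.pull (origin c A) ⋙ EtCoh.push (origin c A)).mapIso z.symm⟩
    have hr : Set.range (origin (c + 1) A).base = g.base ⁻¹' Set.range y.base := by
      rw [← hy, Scheme.Hom.comp_base, TopCat.coe_comp, Set.range_comp,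
        Set.preimage_image_eq _ (g.isOpenEmbedding.injective)]
    have hru : Set.range (offOrigin (c + 1) A).ι.base = g.base ⁻¹' Set.range O.ι.base := by
      rw [range_ι, range_ι]
      show (Set.range (origin (c + 1) A).base)ᶜ = g.base ⁻¹' (Set.range y.base)ᶜ
      rw [hr, Set.preimage_compl]
    haveI : QuasiCompact O.ι := by
      haveI := quasiCompact_offOrigin (c + 1) A
      refine quasiCompact_of_range O.ι ?_
      have him : Set.range O.ι.base = g.base '' Set.range (offOrigin (c + 1) A).ι.base := by
        rw [hru, Set.image_preimage_eq _ (g.surjective)]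
      rw [him]
      refine IsCompact.image ?_ g.continuous
      haveI : CompactSpace ((offOrigin (c + 1) A) : Scheme.{u}) := HasAffineProperty.iff_of_isAffine.1
        (inferInstance : QuasiCompact (offOrigin (c + 1) A).ι)
      exact isCompact_range (offOrigin (c + 1) A).ι.continuous
    obtain ⟨cst⟩ : Nonempty ((EtCoh.pull g).obj (EtCoh.const _ (ZMod n)) ≅ EtCoh.const _ (ZMod n)) :=
      ⟨EtCore.pullConst g (ZMod n)⟩
    have hnX : IsUnit (n : Γ(Spec (CommRingCat.of (Polynomial P)), ⊤)) := by
      have := (hnP.map Polynomial.C).map (Scheme.ΓSpecIso (CommRingCat.of (Polynomial P))).inv.hom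
      rwa [map_natCast, map_natCast] at this
    have h := purity_pull (i := y) (j := O.ι) g (origin (c + 1) A) (offOrigin (c + 1) A).ι (𝟙 _)
      (by rw [Category.id_comp, hy]) hr hru c.succ_pos hnX (EtPBC.killed_const _ n) hP
    refine ⟨fun q hq => (h.1 q hq).of_iso ((EtDual.locCoh _ q).mapIso cst.symm), ?_⟩
    obtain ⟨a⟩ := h.2
    exact ⟨(EtDual.locCoh _ _).mapIso cst.symm ≪≫ a ≪≫
      (EtCoh.pull (origin (c + 1) A) ⋙ EtCoh.push (origin (c + 1) A)).mapIso cst⟩

end Groth.Agent.EtPur
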