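import Groth.Agent.EtPur.BlowPoint
import Groth.Agent.EtPur.Gysin
import Groth.Agent.LocImmBlow.Basic
import Groth.Agent.NodeBr.Count
import Mathlib

/-!
# Stalks of higher direct images along the blow-up of finitely many regular points
-/

set_option autoImplicit false
set_option backward.isDefEq.respectTransparency false
set_option backward.isDefEq.respectTransparency.types false
set_option linter.style.haveILetI false
set_option linter.unusedSectionVars false
set_option linter.overlappingInstances false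
set_option linter.auxLemma false
set_option maxHeartbeats 1000000
set_option synthInstance.maxHeartbeats 400000

universe u

open CategoryTheory CategoryTheory.Limits CategoryTheory.Abelian AlgebraicGeometry Opposite

noncomputable section

namespace Groth.Agent.EtPur

attribute [local instance 100000] EtCoh.H._proof_1 Groth.Agent.EtMV.hext
attribute [local instance 200000] Groth.Agent.EtMV.hextAb

/-- pullback of a reduced ideal along an open immersion -/
theorem comap_vanishingIdeal {X V : Scheme.{u}} (e : V ⟶ X) [IsOpenImmersion e] (Z : TopologicalSpace.Closeds X) :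
    (Scheme.IdealSheafData.vanishingIdeal Z).comap e =
      Scheme.IdealSheafData.vanishingIdeal ⟨e ⁻¹' Z, Z.isClosed.preimage e.continuous⟩ := by
  let I := Scheme.IdealSheafData.vanishingIdeal Z
  haveI : IsReduced I.subscheme := DvrDom.isReduced_vanishingIdeal_subscheme Z
  haveI : IsReduced (pullback e I.subschemeι) := isReduced_of_isOpenImmersion (pullback.snd e I.subschemeι)
  haveI : IsReduced (I.comap e).subscheme := isReduced_of_isOpenImmersion (I.comapIso e).hom
  refine (NodeBr.eq_vanishingIdeal_support (I.comap e)).trans (congrArg _ (TopologicalSpace.Closeds.ext ?_))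
  rw [Scheme.IdealSheafData.support_comap]
  show e ⁻¹' (I.support : Set X) = _
  rw [Scheme.IdealSheafData.coe_support_vanishingIdeal]
  rfl

variable {X X' : Scheme.{u}} [IsNoetherian X]

/-- fibres of the blow-up of finitely many regular points -/
theorem nonempty_fibre_blowUp_finite {F : Finset X} (hF : IsClosed (F : Set X)) (hreg : ∀ x ∈ F, PtBlow.IsRegPt X x)
    {b : X' ⟶ X} (hb : BlowUp.IsBlowUp b (Scheme.IdealSheafData.vanishingIdeal ⟨(F : Set X), hF⟩))
    {Ω : Type u} [Field Ω] (ξ : Spec (CommRingCat.of Ω) ⟶ X) :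
    (∀ x ∈ F, (∀ z, ξ z = x) → Nonempty (CohB1.ProjSpace 1 Ω ≅ pullback b ξ)) ∧
    ((∀ z, ξ z ∉ F) → IsIso (pullback.snd b ξ)) := by
  classical
  refine ⟨fun x hx hξ => ?_, fun hξ => ?_⟩
  · let V : X.Opens := ⟨(⋃ y ∈ (F.erase x : Finset X), ({y} : Set X))ᶜ,
      ((Finset.finite_toSet _).isClosed_biUnion fun y hy =>
        (hreg y (Finset.mem_of_mem_erase hy)).closed).isOpen_compl⟩
    have hxV : x ∈ V := by
      intro h
      simp at h
    haveI : IsLocallyNoetherian V.toScheme := isLocallyNoetherian_of_isOpenImmersion V.ι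
    haveI : CompactSpace V.toScheme :=
      isCompact_iff_compactSpace.1 (TopologicalSpace.NoetherianSpace.isCompact (V : Set X))
    haveI : IsNoetherian V.toScheme := {}
    let c := pullback.fst V.ι b
    have hc := BlowUpLib.isBlowUp_flat V.ι hb
    have hreg' : PtBlow.IsRegPt V.toScheme ⟨x, hxV⟩ := by
      refine ⟨?_, ?_, ?_⟩
      · have h1 := (hreg x hx).closed.preimage V.ι.continuous
        convert h1 using 1
        ext z
        exact ⟨fun h => congrArg Subtype.val (Set.mem_singleton_iff.1 h), fun h => Subtype.ext h⟩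
      · haveI : IsRegularLocalRing (X.presheaf.stalk (V.ι ⟨x, hxV⟩)) := (hreg x hx).reg
        exact IsRegularLocalRing.of_ringEquiv (asIso (V.ι.stalkMap ⟨x, hxV⟩)).commRingCatIsoToRingEquiv
      · rw [← (hreg x hx).dim]
        exact (ringKrullDim_eq_of_ringEquiv (asIso (V.ι.stalkMap ⟨x, hxV⟩)).commRingCatIsoToRingEquiv).symm
    have hI : (Scheme.IdealSheafData.vanishingIdeal ⟨(F : Set X), hF⟩).comap V.ι = PtBlow.pt hreg' := by
      rw [comap_vanishingIdeal]
      refine congrArg _ (TopologicalSpace.Closeds.ext (Set.ext fun z => ⟨fun h => ?_, fun h => ?_⟩))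
      · by_contra hz
        refine z.2 (Set.mem_biUnion (x := z.1) (Finset.mem_erase.2 ⟨fun e => hz ?_, h⟩) rfl)
        exact Subtype.ext e
      · rw [Set.mem_singleton_iff.1 h]
        exact hx
    rw [hI] at hc
    let l : Spec (CommRingCat.of Ω) ⟶ V.toScheme := IsOpenImmersion.lift V.ι ξ
      (by rw [Scheme.Opens.range_ι]; rintro _ ⟨z, rfl⟩; rw [hξ z]; exact hxV)
    have hl : l ≫ V.ι = ξ := IsOpenImmersion.lift_fac _ _ _
    obtain ⟨Φ⟩ := nonempty_fibre_blowUp_iso hreg' hc l fun z => Subtype.ext (by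
      show V.ι (l z) = x
      rw [← Scheme.Hom.comp_apply, hl]
      exact hξ z)
    have P : IsPullback (pullback.fst c l ≫ pullback.snd V.ι b) (pullback.snd c l) b ξ := hl ▸
      (IsPullback.of_hasPullback c l).paste_horiz (IsPullback.of_hasPullback V.ι b).flip
    exact ⟨Φ ≪≫ P.isoPullback⟩
  · let V : X.Opens := (Scheme.IdealSheafData.vanishingIdeal ⟨(F : Set X), hF⟩).support.compl
    have hmem : ∀ z, ξ z ∈ V := fun z h => hξ z (by
      have h' : ξ z ∈ ((Scheme.IdealSheafData.vanishingIdeal ⟨(F : Set X), hF⟩).support : Set X) := h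
      rwa [Scheme.IdealSheafData.coe_support_vanishingIdeal] at h')
    let l := IsOpenImmersion.lift V.ι ξ (by rw [Scheme.Opens.range_ι]; rintro _ ⟨z, rfl⟩; exact hmem z)
    have hl : l ≫ V.ι = ξ := IsOpenImmersion.lift_fac _ _ _
    haveI : IsIso (b ∣_ V) := BlowUpLib.isIso_restrict hb
    haveI : IsIso (pullback.snd b V.ι) := by
      rw [← pullbackRestrictIsoRestrict_hom_morphismRestrict b V]
      infer_instance
    have e : pullback.snd b (l ≫ V.ι) =
        (pullbackLeftPullbackSndIso b V.ι l).inv ≫ pullback.snd (pullback.snd b V.ι) l := by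
      rw [Iso.eq_inv_comp, pullbackLeftPullbackSndIso_hom_snd]
    rw [← hl, e]
    infer_instance

/-- stalks of the higher direct images of a constant sheaf along the blow-up of finitely many regular points -/
theorem nonempty_stalk_Rpush_blowUp_finite {F : Finset X} (hF : IsClosed (F : Set X))
    (hreg : ∀ x ∈ F, PtBlow.IsRegPt X x) {b : X' ⟶ X}
    (hb : BlowUp.IsBlowUp b (Scheme.IdealSheafData.vanishingIdeal ⟨(F : Set X), hF⟩)) (n : ℕ) [NeZero n]
    {Ω : Type u} [Field Ω] [IsSepClosed Ω] (ξ : Spec (CommRingCat.of Ω) ⟶ X) (q : ℕ) :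
    (∀ x ∈ F, (∀ z, ξ z = x) →
      Nonempty (((EtCoh.stalk ξ).obj ((EtCoh.Rpush b q).obj (EtCoh.const X' (ZMod n))) : Type (u + 1)) ≃+
        EtCoh.H (CohB1.ProjSpace 1 Ω) (EtCoh.const (CohB1.ProjSpace 1 Ω) (ZMod n)) q)) ∧
    ((∀ z, ξ z ∉ F) →
      Nonempty (((EtCoh.stalk ξ).obj ((EtCoh.Rpush b q).obj (EtCoh.const X' (ZMod n))) : Type (u + 1)) ≃+
        EtCoh.H (Spec (CommRingCat.of Ω)) (EtCoh.const (Spec (CommRingCat.of Ω)) (ZMod n)) q)) := by
  haveI := LocImmBlow.isProper_blowUp hb
  obtain ⟨e⟩ := EtPBC.nonempty_stalk_Rpush_iso b ξ (EtCoh.const X' (ZMod n))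
    (EtPBC.isLTorsion_univ_of_killedBy (NeZero.pos n) (killedBy_const (ZMod n) fun c => by
      rw [nsmul_eq_mul, ZMod.natCast_self, zero_mul])) q
  let E := (e ≪≫ (EtCoh.HF (pullback b ξ) q).mapIso
    (EtCore.pullConst (pullback.fst b ξ) (ZMod n))).addCommGroupIsoToAddEquiv
  refine ⟨fun x hx h => ?_, fun h => ?_⟩
  · obtain ⟨Φ⟩ := (nonempty_fibre_blowUp_finite hF hreg hb ξ).1 x hx h
    obtain ⟨c⟩ := nonempty_H_const_congr Φ.hom (ZMod n) q
    exact ⟨E.trans c⟩
  · haveI := (nonempty_fibre_blowUp_finite hF hreg hb ξ).2 h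
    obtain ⟨c⟩ := nonempty_H_const_congr (inv (pullback.snd b ξ)) (ZMod n) q
    exact ⟨E.trans c⟩

end Groth.Agent.EtPur
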