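import Groth.Agent.EtPur.Gysin
import Groth.Agent.EtPBC.Skyscraper
import Groth.Agent.EtPBC.SkyCoprod
import Groth.Agent.EtPullExact.Basic
import Mathlib

/-!
# Global sections of sheaves supported at finitely many closed points
-/

set_option autoImplicit false
set_option backward.isDefEq.respectTransparency false
set_option backward.isDefEq.respectTransparency.types false
set_option linter.style.haveILetI false
set_option linter.unusedSectionVars false
set_option linter.overlappingInstances false
set_option linter.auxLemma false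
set_option maxHeartbeats 1000000
set_option synthInstance.maxHeartbeats 400000

universe u

open CategoryTheory CategoryTheory.Limits CategoryTheory.Abelian AlgebraicGeometry Opposite

noncomputable section

namespace Groth.Agent.EtPur

open EtPBC (ZeroAt isZero_of_zeroAt zeroAt_kernel zeroAt_cokernel zeroAt_of_mono zeroAt_of_epi)

attribute [local instance 100000] EtCoh.H._proof_1 Groth.Agent.EtMV.hext
attribute [local instance 200000] Groth.Agent.EtMV.hextAb

variable {X : Scheme.{u}}

/-- **sections of a sheaf supported at finitely many closed points with cyclic stalks** -/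
theorem nonempty_H_zero_skyscrapers (n : ℕ) [NeZero n] (S : Finset X) (hS : ∀ x ∈ S, IsClosed ({x} : Set X))
    (hsep : ∀ x ∈ S, IsSepClosed (X.residueField x)) :
    ∀ G : EtCoh.Ab X, n • 𝟙 G = 0 → (∀ x, x ∉ S → ZeroAt G x) →
      (∀ x ∈ S, Nonempty ((EtCoh.pull (X.fromSpecResidueField x)).obj G ≅
        EtCoh.const (Spec (X.residueField x)) (ZMod n))) →
      Nonempty (Ext (EtCoh.const X ℤ) G 0 ≃+ (S → ZMod n)) := by
  classical
  induction S using Finset.induction with
  | empty =>
    intro G _ hG _
    have h0 := isZero_of_zeroAt G fun x => hG x (Finset.notMem_empty x)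
    haveI : Subsingleton (Ext (EtCoh.const X ℤ) G 0) := EtPBC.subsingleton_H_of_isZero h0 0
    haveI : Subsingleton ((∅ : Finset X) → ZMod n) := ⟨fun a b => funext fun z => absurd z.2 (Finset.notMem_empty _)⟩
    exact ⟨{ toFun := fun _ => 0, invFun := fun _ => 0, left_inv := fun _ => Subsingleton.elim _ _,
             right_inv := fun _ => Subsingleton.elim _ _, map_add' := fun _ _ => Subsingleton.elim _ _ }⟩
  | @insert x S hxS ih =>
    intro G hn hG hst
    let i : Spec (X.residueField x) ⟶ X := X.fromSpecResidueField x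
    have hxc := hS x (Finset.mem_insert_self x S)
    haveI : IsClosedImmersion i := isClosed_singleton_iff_isClosedImmersion.1 hxc
    let u := (EtCoh.pullPushAdj i).unit.app G
    have hrange : ∀ y, i y = x := fun y => Scheme.fromSpecResidueField_apply x y
    have hP : ∀ y, y ≠ x → ZeroAt ((EtCoh.push i).obj ((EtCoh.pull i).obj G)) y :=
      fun y hy => EtPBC.zeroAt_skyPush hxc _ hy
    have hbij : ∀ y, y = x → ∃ (Ω : Type u) (_ : Field Ω) (_ : IsSepClosed Ω) (ξ : Spec (CommRingCat.of Ω) ⟶ X),
        ξ (default : ↥(Spec (CommRingCat.of Ω))) = y ∧ Function.Bijective ((EtCoh.stalk ξ).map u) := fun y hy =>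
      EtPBC.bijective_stalk_unit_at i (EtPushStalk.liftProp_of_closedImmersion i) G default
        ((hrange _).trans hy.symm)
    haveI : Epi u := by
      refine Preadditive.epi_of_isZero_cokernel u (isZero_of_zeroAt _ fun y => ?_)
      by_cases hy : y = x
      · obtain ⟨Ω, _, _, ξ, hξ, hb⟩ := hbij y hy
        exact zeroAt_cokernel hξ u hb.2
      · exact zeroAt_of_epi (cokernel.π u) (hP y hy)
    have hKz : ∀ y, y ∉ S → ZeroAt (kernel u) y := fun y hy => by
      by_cases hyx : y = x
      · obtain ⟨Ω, _, _, ξ, hξ, hb⟩ := hbij y hyx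
        exact zeroAt_kernel hξ u hb.1
      · exact zeroAt_of_mono (kernel.ι u) (hG y (by simp [hyx, hy]))
    have hK1 : Subsingleton (Ext (EtCoh.const X ℤ) (kernel u) 1) :=
      EtPBC.subsingleton_H_of_finite_supp 1 one_pos S (fun y hy => hS y (Finset.mem_insert_of_mem hy))
        (fun y hy => hsep y (Finset.mem_insert_of_mem hy)) _ hKz
    have hK : (ShortComplex.mk (kernel.ι u) u (kernel.condition u)).ShortExact :=
      { exact := ShortComplex.exact_of_f_is_kernel _ (kernelIsKernel u) }
    obtain ⟨eK⟩ := ih (fun y hy => hS y (Finset.mem_insert_of_mem hy)) (fun y hy => hsep y (Finset.mem_insert_of_mem hy))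
      (kernel u) (by
        rw [← cancel_mono (kernel.ι u), Preadditive.nsmul_comp, Category.id_comp, zero_comp,
          ← ((Preadditive.comp_nsmul (kernel.ι u) (𝟙 G) n).trans (congrArg (n • ·) (Category.comp_id _)) :
            kernel.ι u ≫ (n • 𝟙 G) = n • kernel.ι u),
          hn, comp_zero]) hKz fun y hy => by
        obtain ⟨e⟩ := hst y (Finset.mem_insert_of_mem hy)
        let t := X.fromSpecResidueField y
        haveI := EtPullExact.pull_preservesFiniteLimits t
        have hz : IsZero ((EtCoh.pull t).obj ((EtCoh.push i).obj ((EtCoh.pull i).obj G))) :=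
          isZero_of_zeroAt _ fun z => EtPBC.zeroAt_pull t _ z (hP _ (by
            rw [Scheme.fromSpecResidueField_apply]
            exact fun h => hxS (h ▸ hy)))
        haveI : IsIso ((EtCoh.pull t).map (kernel.ι u)) := (hK.map_of_exact (EtCoh.pull t)).isIso_f_iff.2 hz
        exact ⟨asIso ((EtCoh.pull t).map (kernel.ι u)) ≪≫ e⟩
    -- the sections at the new point
    obtain ⟨c⟩ := hst x (Finset.mem_insert_self x S)
    obtain ⟨p₁⟩ := nonempty_H_push i (EtCoh.const (Spec (X.residueField x)) (ZMod n))
      (fun q => EtIntegral.Rpush_succ_isZero i _ q) 0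
    haveI : ConnectedSpace ↥(Spec (X.residueField x)) := by
      haveI : IrreducibleSpace ↥(Spec (X.residueField x)) :=
        inferInstanceAs (IrreducibleSpace (PrimeSpectrum (X.residueField x)))
      infer_instance
    obtain ⟨p₂⟩ := nonempty_H_zero_const (Spec (X.residueField x)) (ZMod n)
    let eP : Ext (EtCoh.const X ℤ) ((EtCoh.push i).obj ((EtCoh.pull i).obj G)) 0 ≃+ ZMod n :=
      (((EtCoh.HF X 0).mapIso ((EtCoh.push i).mapIso c)).addCommGroupIsoToAddEquiv.trans p₁).trans p₂
    let a : Ext (EtCoh.const X ℤ) (kernel u) 0 →+ Ext (EtCoh.const X ℤ) G 0 :=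
      (Ext.mk₀ (kernel.ι u)).postcomp _ (add_zero 0)
    let b : Ext (EtCoh.const X ℤ) G 0 →+ ZMod n :=
      eP.toAddMonoidHom.comp ((Ext.mk₀ u).postcomp _ (add_zero 0))
    obtain ⟨g, hg⟩ := Ext.covariant_sequence_exact₃ (EtCoh.const X ℤ) hK (eP.symm 1) (rfl : 0 + 1 = 1)
      (@Subsingleton.elim _ hK1 _ _)
    have hgn : n • g = 0 := by
      let F : (G ⟶ G) →+ Ext (EtCoh.const X ℤ) G 0 :=
        AddMonoidHom.mk' (fun φ => g.comp (Ext.mk₀ φ) (add_zero 0)) fun φ φ' => by rw [Ext.mk₀_add, Ext.comp_add]
      have h := F.map_nsmul n (𝟙 G)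
      rw [hn, map_zero, show F (𝟙 G) = g from Ext.comp_mk₀_id g] at h
      exact h.symm
    let s : ZMod n →+ Ext (EtCoh.const X ℤ) G 0 := ZMod.lift n ⟨zmultiplesHom _ g, by
      show (n : ℤ) • g = 0
      rw [natCast_zsmul, hgn]⟩
    have hbs : ∀ t, b (s t) = t := fun t => by
      obtain ⟨z, rfl⟩ := ZMod.intCast_surjective t
      rw [ZMod.lift_coe]
      show b (z • g) = _
      rw [map_zsmul, show b g = 1 from (congrArg eP hg).trans (eP.apply_symm_apply 1), zsmul_one]
    have hba : ∀ k, b (a k) = 0 := fun k => by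
      show eP (Ext.comp (Ext.comp k (Ext.mk₀ (kernel.ι u)) (add_zero 0)) (Ext.mk₀ u) (add_zero 0)) = 0
      rw [Ext.comp_assoc_of_second_deg_zero, Ext.mk₀_comp_mk₀, kernel.condition, Ext.mk₀_zero, Ext.comp_zero,
        map_zero]
    let A : (Ext (EtCoh.const X ℤ) (kernel u) 0 × ZMod n) →+ Ext (EtCoh.const X ℤ) G 0 := a.coprod s
    have hA : Function.Bijective A := by
      refine ⟨(injective_iff_map_eq_zero _).2 ?_, fun y => ?_⟩
      · rintro ⟨k, t⟩ h
        change a k + s t = 0 at h
        have ht : t = 0 := by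
          have := congrArg b h
          rwa [map_add, hba, hbs, zero_add, map_zero] at this
        subst ht
        rw [map_zero, add_zero] at h
        obtain ⟨φ, rfl⟩ := (Ext.mk₀_bijective _ _).2 k
        have h' : Ext.mk₀ (φ ≫ kernel.ι u) = 0 := (Ext.mk₀_comp_mk₀ _ _).symm.trans h
        rw [Ext.mk₀_eq_zero_iff] at h'
        rw [(cancel_mono (kernel.ι u)).1 (h'.trans zero_comp.symm), Ext.mk₀_zero]
        rfl
      · have h : Ext.comp (y - s (b y)) (Ext.mk₀ u) (add_zero 0) = 0 := eP.injective (by
          rw [map_zero]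
          show b (y - s (b y)) = 0
          rw [map_sub, hbs, sub_self])
        obtain ⟨k, hk⟩ := Ext.covariant_sequence_exact₂ (EtCoh.const X ℤ) hK (y - s (b y)) h
        refine ⟨(k, b y), ?_⟩
        show a k + s (b y) = y
        rw [show a k = y - s (b y) from hk, sub_add_cancel]
    let J : ((S → ZMod n) × ZMod n) ≃+ (↥(insert x S : Finset X) → ZMod n) :=
      { toFun := fun w z => if h : z.1 ∈ S then w.1 ⟨z.1, h⟩ else w.2
        invFun := fun w => (fun z => w ⟨z.1, Finset.mem_insert_of_mem z.2⟩, w ⟨x, Finset.mem_insert_self x S⟩)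
        left_inv := fun w => Prod.ext (funext fun z => by simp) (by simp [hxS])
        right_inv := fun w => funext fun z => by
          by_cases h : z.1 ∈ S
          · simp [h]
          · have hz : z.1 = x := (Finset.mem_insert.1 z.2).resolve_right h
            simp only [h, dite_false]
            exact congrArg w (Subtype.ext hz.symm)
        map_add' := fun w w' => funext fun z => by
          by_cases h : z.1 ∈ S <;> simp [h] }
    exact ⟨((AddEquiv.ofBijective A hA).symm.trans (eK.prodCongr (AddEquiv.refl _))).trans J⟩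

end Groth.Agent.EtPur
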