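import Groth.Agent.EtPur.EdgeTwo
import Groth.Agent.EtPur.BlowFinite
import Groth.Agent.EtPur.BlowPointZero
import Groth.Agent.EtPur.SkySections
import Groth.Agent.EtPur.ProjBundleH
import Groth.Agent.PnReg.Sections
import Mathlib

/-!
# Cohomology of the blow-up of finitely many regular points
-/

set_option autoImplicit false
set_option backward.isDefEq.respectTransparency false
set_option backward.isDefEq.respectTransparency.types false
set_option linter.style.haveILetI false
set_option linter.unusedSectionVars false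
set_option linter.overlappingInstances false
set_option linter.auxLemma false
set_option maxHeartbeats 1000000
set_option synthInstance.maxHeartbeats 400000

universe u

open CategoryTheory CategoryTheory.Limits CategoryTheory.Abelian AlgebraicGeometry Opposite

noncomputable section

namespace Groth.Agent.EtPur

open EtPBC (ZeroAt isZero_stalk_iff_zeroAt exists_geomPt zeroAt_kernel zeroAt_cokernel isZero_of_zeroAt)

attribute [local instance 100000] EtCoh.H._proof_1 Groth.Agent.EtMV.hext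
attribute [local instance 200000] Groth.Agent.EtMV.hextAb

/-- a number invertible on the base is invertible at every geometric point -/
theorem natCast_ne_zero_of_isUnit {X : Scheme.{u}} {n : ℕ} (h : IsUnit ((n : ℕ) : Γ(X, ⊤))) {Ω : Type u} [Field Ω]
    (ξ : Spec (CommRingCat.of Ω) ⟶ X) : (n : Ω) ≠ 0 := by
  have h1 := h.map (ξ.appTop ≫ (Scheme.ΓSpecIso (CommRingCat.of Ω)).hom).hom
  rw [map_natCast] at h1
  exact h1.ne_zero

/-- constant sheaves of `ℤ/n` are killed by `n` -/
theorem nsmul_id_const {X : Scheme.{u}} (n : ℕ) : n • 𝟙 (EtCoh.const X (ZMod n)) = 0 := by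
  have h := (killedBy_const (X := X) (ZMod n) (n := n) fun c => by rw [nsmul_eq_mul, ZMod.natCast_self, zero_mul])
  rw [EtBCQ.killedBy_iff] at h
  exact h

variable {X X' : Scheme.{u}} [IsNoetherian X] {F : Finset X} (hF : IsClosed (F : Set X))
  (hreg : ∀ x ∈ F, PtBlow.IsRegPt X x) (hsep : ∀ x ∈ F, IsSepClosed (X.residueField x))
  {b : X' ⟶ X} (hb : BlowUp.IsBlowUp b (Scheme.IdealSheafData.vanishingIdeal ⟨(F : Set X), hF⟩))
  (n : ℕ) [NeZero n] (hnX : IsUnit ((n : ℕ) : Γ(X, ⊤)))

include hreg hb hnX in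
/-- stalks of the direct images: all of them vanish outside degrees zero and two -/
theorem isZero_Rpush_blowUp_finite (q : ℕ) (hq : q = 1 ∨ 3 ≤ q) :
    IsZero ((EtCoh.Rpush b q).obj (EtCoh.const X' (ZMod n))) :=
  EtPBC.isZero_of_isZero_stalks _ fun Ω _ _ ξ => by
    obtain ⟨hat, hoff⟩ := nonempty_stalk_Rpush_blowUp_finite hF hreg hb n ξ q
    by_cases h : ξ default ∈ F
    · obtain ⟨a⟩ := hat _ h fun z => congrArg ξ (Subsingleton.elim z default)
      haveI := (H_projSpace Ω n (natCast_ne_zero_of_isUnit hnX ξ) 1 q).2 (by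
        rcases hq with rfl | hq
        · exact Or.inl odd_one
        · exact Or.inr (by omega))
      haveI := a.toEquiv.subsingleton
      exact AddCommGrpCat.isZero_of_subsingleton _
    · obtain ⟨a⟩ := hoff fun z => by rw [Subsingleton.elim z default]; exact h
      haveI := EtPBC.subsingleton_H_sepClosed Ω (EtCoh.const (Spec (CommRingCat.of Ω)) (ZMod n)) q (by omega)
      haveI := a.toEquiv.subsingleton
      exact AddCommGrpCat.isZero_of_subsingleton _

include hreg hb hnX in
/-- the second direct image vanishes off the centre -/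
theorem zeroAt_Rpush_two (x : X) (hx : x ∉ F) : ZeroAt ((EtCoh.Rpush b 2).obj (EtCoh.const X' (ZMod n))) x := by
  obtain ⟨Ω, _, _, ξ, hξ⟩ := exists_geomPt x
  rw [← isZero_stalk_iff_zeroAt hξ]
  obtain ⟨a⟩ := (nonempty_stalk_Rpush_blowUp_finite hF hreg hb n ξ 2).2 fun z => by
    rw [Subsingleton.elim z default, hξ]; exact hx
  haveI := EtPBC.subsingleton_H_sepClosed Ω (EtCoh.const (Spec (CommRingCat.of Ω)) (ZMod n)) 2 two_pos
  haveI := a.toEquiv.subsingleton
  exact AddCommGrpCat.isZero_of_subsingleton _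

include hreg hsep hb hnX in
/-- the second direct image at a point of the centre -/
theorem nonempty_pull_Rpush_two (x : X) (hx : x ∈ F) :
    Nonempty ((EtCoh.pull (X.fromSpecResidueField x)).obj ((EtCoh.Rpush b 2).obj (EtCoh.const X' (ZMod n))) ≅
      EtCoh.const (Spec (X.residueField x)) (ZMod n)) := by
  let κ : Type u := X.residueField x
  haveI : IsSepClosed κ := hsep x hx
  haveI : IsSepClosed (IsLocalRing.ResidueField κ) := Hensel.isSepClosed_of_ringEquiv
    (RingEquiv.ofBijective (IsLocalRing.residue κ)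
      ⟨(IsLocalRing.residue κ).injective, IsLocalRing.residue_surjective⟩)
  let i := X.fromSpecResidueField x
  let ξ := EtHens.pt κ ≫ i
  obtain ⟨a⟩ := (nonempty_stalk_Rpush_blowUp_finite hF hreg hb n ξ 2).1 x hx fun z =>
    Scheme.fromSpecResidueField_apply x _
  obtain ⟨c⟩ := (H_projSpace (IsLocalRing.ResidueField κ) n (natCast_ne_zero_of_isUnit hnX ξ) 1 2).1 ⟨even_two, le_rfl⟩
  exact nonempty_iso_const_of_stalk κ _ n
    ((((EtStalk.stalkPullIso i (EtHens.pt κ)).app _).symm).addCommGroupIsoToAddEquiv.trans (a.trans c))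

include hreg hb hnX in
/-- the blow-up does not change the constant sheaf -/
theorem isIso_unit_blowUp_finite : IsIso ((EtCoh.pullPushAdj b).unit.app (EtCoh.const X (ZMod n))) := by
  let u := (EtCoh.pullPushAdj b).unit.app (EtCoh.const X (ZMod n))
  have key : ∀ x : X, ∃ (Ω : Type u) (_ : Field Ω) (_ : IsSepClosed Ω) (ξ : Spec (CommRingCat.of Ω) ⟶ X),
      ξ (default : ↥(Spec (CommRingCat.of Ω))) = x ∧ Function.Bijective ((EtCoh.stalk ξ).map u) := by
    intro x
    obtain ⟨y, hy⟩ : ∃ y, b y = x := by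
      obtain ⟨Ω, _, _, ξ, hξ⟩ := exists_geomPt x
      obtain ⟨z⟩ : Nonempty ↥(pullback b ξ) := by
        by_cases h : x ∈ F
        · obtain ⟨Φ⟩ := (nonempty_fibre_blowUp_finite hF hreg hb ξ).1 x h fun z =>
            (congrArg ξ (Subsingleton.elim z default)).trans hξ
          obtain ⟨j, -, -, -⟩ := AffDiv.exists_chart_imm Ω 1
          exact ⟨Φ.hom (j ((AffineSpace.homOfVector (𝟙 (Spec (CommRingCat.of Ω))) fun _ => 0 :
            Spec (CommRingCat.of Ω) ⟶ 𝔸(ULift.{u} (Fin 1); Spec (CommRingCat.of Ω))) default))⟩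
        · haveI := (nonempty_fibre_blowUp_finite hF hreg hb ξ).2 fun z => by
            rw [Subsingleton.elim z default, hξ]; exact h
          exact ⟨(inv (pullback.snd b ξ)) default⟩
      refine ⟨pullback.fst b ξ z, ?_⟩
      rw [← Scheme.Hom.comp_apply, pullback.condition, Scheme.Hom.comp_apply,
        Subsingleton.elim (pullback.snd b ξ z) default, hξ]
    obtain ⟨Ω, _, _, ζ, hζ⟩ := exists_geomPt y
    let ξ := ζ ≫ b
    have hξ : ξ (default : ↥(Spec (CommRingCat.of Ω))) = x := by rw [Scheme.Hom.comp_apply, hζ, hy]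
    have hinj : Function.Injective ((EtCoh.stalk ξ).map u) := by
      have e := EtPushStalk.stalkPullIso_hom_eq b ζ (EtCoh.const X (ZMod n))
      have h1' : Function.Injective ((EtCoh.stalk ξ).map u ≫
          EtPushStalk.stalkPushHom b ζ ((EtCoh.pull b).obj (EtCoh.const X (ZMod n)))) := by
        rw [← e]
        exact ((ConcreteCategory.isIso_iff_bijective _).1 inferInstance).1
      have h1 : Function.Injective (⇑(EtPushStalk.stalkPushHom b ζ ((EtCoh.pull b).obj (EtCoh.const X (ZMod n)))) ∘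
          ⇑((EtCoh.stalk ξ).map u)) := h1'
      exact h1.of_comp
    refine ⟨Ω, inferInstance, inferInstance, ξ, hξ, ?_⟩
    obtain ⟨hat, hoff⟩ := nonempty_stalk_Rpush_blowUp_finite hF hreg hb n ξ 0
    obtain ⟨a⟩ : Nonempty (((EtCoh.stalk ξ).obj ((EtCoh.Rpush b 0).obj (EtCoh.const X' (ZMod n))) : Type (u + 1)) ≃+
        ZMod n) := by
      by_cases h : x ∈ F
      · obtain ⟨a⟩ := hat x h fun z => (congrArg ξ (Subsingleton.elim z default)).trans hξ
        obtain ⟨c⟩ := (H_projSpace Ω n (natCast_ne_zero_of_isUnit hnX ξ) 1 0).1 ⟨Even.zero, by omega⟩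
        exact ⟨a.trans c⟩
      · obtain ⟨a⟩ := hoff fun z => by rw [Subsingleton.elim z default, hξ]; exact h
        haveI : ConnectedSpace ↥(Spec (CommRingCat.of Ω)) := by
          haveI : IrreducibleSpace ↥(Spec (CommRingCat.of Ω)) := inferInstanceAs (IrreducibleSpace (PrimeSpectrum Ω))
          infer_instance
        obtain ⟨c⟩ := nonempty_H_zero_const (Spec (CommRingCat.of Ω)) (ZMod n)
        exact ⟨a.trans c⟩
    let eT := ((EtCoh.stalk ξ).mapIso (EtPBC.pushZeroIso b (EtCoh.const X' (ZMod n)) ≪≫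
      (EtCoh.push b).mapIso (EtCore.pullConst b (ZMod n)).symm)).symm.addCommGroupIsoToAddEquiv.trans a
    haveI : Finite ((EtCoh.stalk ξ).obj ((EtCoh.pull b ⋙ EtCoh.push b).obj (EtCoh.const X (ZMod n))) : Type (u + 1)) :=
      Finite.of_equiv _ eT.toEquiv.symm
    refine Function.Injective.bijective_of_nat_card_le hinj (le_of_eq ((Nat.card_congr eT.toEquiv).trans ?_))
    rw [Nat.card_zmod]
    exact ((EtAcycX.card_stalk_const _).trans (Nat.card_zmod n)).symm
  haveI : Mono u := Preadditive.mono_of_isZero_kernel u (isZero_of_zeroAt _ fun x => by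
    obtain ⟨Ω, _, _, ξ, hξ, hbij⟩ := key x
    exact zeroAt_kernel hξ u hbij.1)
  haveI : Epi u := Preadditive.epi_of_isZero_cokernel u (isZero_of_zeroAt _ fun x => by
    obtain ⟨Ω, _, _, ξ, hξ, hbij⟩ := key x
    exact zeroAt_cokernel hξ u hbij.2)
  exact isIso_of_mono_of_epi u

include hreg hsep hb hnX in
/-- **cohomology of the blow-up of finitely many points of a surface without cohomology in high degrees** -/
theorem Hpull_blowUp_finite (hX3 : ∀ q, 3 ≤ q → Subsingleton (Ext (EtCoh.const X ℤ) (EtCoh.const X (ZMod n)) q))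
    [PreservesFiniteLimits (EtCoh.pull b)] :
    (∀ i : ℕ, i ≠ 2 → Function.Bijective (EtCore.Hpull b (EtCoh.const X (ZMod n)) i)) ∧
      Function.Injective (EtCore.Hpull b (EtCoh.const X (ZMod n)) 2) ∧
      ∃ φ : EtCoh.H X' ((EtCoh.pull b).obj (EtCoh.const X (ZMod n))) 2 →+ (F → ZMod n),
        Function.Surjective φ ∧ φ.ker = (EtCore.Hpull b (EtCoh.const X (ZMod n)) 2).range := by
  let C := EtCoh.const X (ZMod n)
  let G := (EtCoh.pull b).obj C
  let u := (EtCoh.pullPushAdj b).unit.app C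
  haveI : IsIso u := isIso_unit_blowUp_finite hF hreg hb n hnX
  have hR : ∀ q, (EtCoh.Rpush b q).obj G ≅ (EtCoh.Rpush b q).obj (EtCoh.const X' (ZMod n)) := fun q =>
    (EtCoh.Rpush b q).mapIso (EtCore.pullConst b (ZMod n))
  have hz : ∀ q, q = 1 ∨ 3 ≤ q → IsZero ((EtCoh.Rpush b q).obj G) := fun q hq =>
    (isZero_Rpush_blowUp_finite hF hreg hb n hnX q hq).of_iso (hR q)
  obtain ⟨hlow, hinj, hφ, hhigh⟩ := edge_two b G (hz 1 (Or.inl rfl)) fun q => hz (q + 3) (Or.inr (by omega))
  have hC3 : ∀ q, 3 ≤ q → Subsingleton (Ext (EtCoh.const X ℤ) ((EtCoh.push b).obj G) q) := fun q hq =>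
    (Equiv.ofBijective _ (EtAcycX.bijective_comp_iso u q)).subsingleton_congr.1 (hX3 q hq)
  let a : ∀ q, Ext (EtCoh.const X ℤ) C q →+ Ext (EtCoh.const X ℤ) ((EtCoh.push b).obj G) q := fun q =>
    (Ext.mk₀ u).postcomp _ (add_zero q)
  have ha : ∀ q, Function.Bijective (a q) := fun q => EtAcycX.bijective_comp_iso u q
  have heq : ∀ q, ⇑(EtCore.Hpull b C q) = ⇑(edge b G q) ∘ ⇑(a q) := fun q => funext fun x => by
    rw [← HpullTo_id b C q]
    refine (HpullTo_eq b (𝟙 G) q x).trans ?_
    have e : u ≫ (EtCoh.push b).map (𝟙 G) = u :=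
      (congrArg (u ≫ ·) ((EtCoh.push b).map_id G)).trans (Category.comp_id u)
    exact congrArg (fun t => edge b G q (x.comp (Ext.mk₀ t) (add_zero q))) e
  have hz2 : ∀ x, x ∉ F → ZeroAt ((EtCoh.Rpush b 2).obj (EtCoh.const X' (ZMod n))) x :=
    zeroAt_Rpush_two hF hreg hb n hnX
  have hR2 : ∀ p, 0 < p → Subsingleton (Ext (EtCoh.const X ℤ) ((EtCoh.Rpush b 2).obj G) p) := fun p hp => by
    haveI : Subsingleton (Ext (EtCoh.const X ℤ) ((EtCoh.Rpush b 2).obj (EtCoh.const X' (ZMod n))) p) :=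
      EtPBC.subsingleton_H_of_finite_supp p hp F (fun y hy => (hreg y hy).closed) hsep _ hz2
    exact (Equiv.ofBijective _ (EtAcycX.bijective_comp_iso (hR 2).hom p)).subsingleton
  refine ⟨fun i hi => ?_, ?_, ?_⟩
  · rw [heq]
    refine Function.Bijective.comp ?_ (ha i)
    rcases (show i ≤ 1 ∨ 3 ≤ i by omega) with h | h
    · exact hlow i h
    · obtain ⟨p, rfl⟩ : ∃ p, i = p + 3 := ⟨i - 3, by omega⟩
      haveI := hC3 (p + 3) (by omega)
      haveI := hhigh p (hC3 _ (by omega)) (hR2 _ (by omega))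
      exact ⟨fun _ _ _ => Subsingleton.elim _ _, fun y => ⟨0, Subsingleton.elim _ _⟩⟩
  · rw [heq]
    exact hinj.comp (ha 2).1
  · obtain ⟨φ, hφs, hφk⟩ := hφ (hC3 3 le_rfl)
    obtain ⟨e⟩ := nonempty_H_zero_skyscrapers n F (fun y hy => (hreg y hy).closed) hsep
      ((EtCoh.Rpush b 2).obj (EtCoh.const X' (ZMod n)))
      (by rw [← CategoryTheory.Functor.map_id (EtCoh.Rpush b 2), ← Functor.map_nsmul, nsmul_id_const,
        Functor.map_zero]) hz2
      (fun x hx => nonempty_pull_Rpush_two hF hreg hsep hb n hnX x hx)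
    let e' := (AddEquiv.ofBijective ((Ext.mk₀ (hR 2).hom).postcomp (EtCoh.const X ℤ) (add_zero 0))
      (EtAcycX.bijective_comp_iso (hR 2).hom 0)).trans e
    refine ⟨e'.toAddMonoidHom.comp φ, e'.surjective.comp hφs, ?_⟩
    ext x
    show e' (φ x) = 0 ↔ ∃ w, EtCore.Hpull b C 2 w = x
    rw [map_eq_zero_iff e' e'.injective, show φ x = 0 ↔ ∃ w, edge b G 2 w = x from SetLike.ext_iff.1 hφk x]
    constructor
    · rintro ⟨w, hw⟩
      obtain ⟨w', rfl⟩ := (ha 2).2 w
      exact ⟨w', (congrFun (heq 2) w').trans hw⟩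
    · rintro ⟨w, hw⟩
      exact ⟨a 2 w, (congrFun (heq 2) w).symm.trans hw⟩

end Groth.Agent.EtPur
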