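import Groth.Agent.EtPBC.Henselian
import Groth.Agent.LAcyc.Line
import Groth.Agent.HQProj.Basic
import Groth.Agent.Unibranch.Chains
import Groth.Agent.PtBlow.Step
import Groth.Agent.EtPBC.CurveCdHigh
import Groth.Agent.EtPBC.CdFibre
import Groth.Agent.EtConsPush.Relative
import Groth.Agent.Castel.CanonDim
import Groth.Agent.Castel.ArtinPos
import Groth.Agent.Unibranch.FibreDim
import Groth.Agent.WildExt.Cover
import Groth.Agent.EtPur.GysinSplit
import Mathlib

/-!
# Étale cohomology of arithmetic surfaces over complete discrete valuation rings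
-/

set_option autoImplicit false
set_option backward.isDefEq.respectTransparency false
set_option backward.isDefEq.respectTransparency.types false
set_option linter.style.haveILetI false
set_option linter.unusedSectionVars false
set_option linter.overlappingInstances false
set_option linter.auxLemma false
set_option maxHeartbeats 1000000
set_option synthInstance.maxHeartbeats 400000

universe u

open CategoryTheory CategoryTheory.Limits CategoryTheory.Abelian AlgebraicGeometry Opposite

noncomputable section

namespace Groth.Agent.EtPur

attribute [local instance 100000] EtCoh.H._proof_1 Groth.Agent.EtMV.hext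
attribute [local instance 200000] Groth.Agent.EtMV.hextAb

variable {R : Type u} [CommRing R] [IsDomain R] [IsDiscreteValuationRing R]
  [IsAdicComplete (IsLocalRing.maximalIdeal R) R] [IsAlgClosed (IsLocalRing.ResidueField R)]

/-- residue fields do not change along closed immersions -/
theorem residueFieldMap_surjective {Z W : Scheme.{u}} (j : Z ⟶ W) [IsClosedImmersion j] (z : Z) :
    Function.Surjective (j.residueFieldMap z) := fun y => by
  obtain ⟨t, rfl⟩ := Z.residue_surjective z y
  obtain ⟨s, rfl⟩ := j.stalkMap_surjective z t
  exact ⟨W.residue _ s, ConcreteCategory.congr_hom (Scheme.residue_residueFieldMap j z) s⟩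

/-- the data of an arithmetic surface -/
theorem arSurf_setting {X : Over (Spec (CommRingCat.of R))} (hX : ArSurf.IsArithSurface R X) :
    IsProper X.hom ∧ IsNoetherian X.left ∧
      ∀ x : X.left, IsClosed ({x} : Set X.left) →
        PtBlow.IsRegPt X.left x ∧ IsSepClosed (X.left.residueField x) := by
  obtain ⟨hreg, hint, hdim, hflat, r, i, hi, hif⟩ := hX
  haveI := hi
  haveI := hint
  haveI := HQProj.isProper_toBase r (Spec (CommRingCat.of R))
  haveI : IsProper X.hom := by rw [← hif]; infer_instance
  haveI : IsLocallyNoetherian X.left := LocallyOfFiniteType.isLocallyNoetherian X.hom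
  haveI : CompactSpace X.left := QuasiCompact.compactSpace_of_compactSpace X.hom
  haveI : IsNoetherian X.left := {}
  refine ⟨inferInstance, inferInstance, fun x hx =>
    ⟨⟨hx, hreg x, Castel.ringKrullDim_closed_eq_two X.hom hdim hx⟩, ?_⟩⟩
  have hxs : X.hom x = IsLocalRing.closedPoint R := by
    have h := X.hom.isClosedMap _ hx
    rw [Set.image_singleton] at h
    haveI := (PrimeSpectrum.isClosed_singleton_iff_isMaximal (X.hom x)).1 h
    exact PrimeSpectrum.ext (IsLocalRing.eq_maximalIdeal inferInstance)
  let r₀ := Spec.map (CommRingCat.ofHom (IsLocalRing.residue R))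
  haveI : IsClosedImmersion r₀ := IsClosedImmersion.spec_of_surjective _ IsLocalRing.residue_surjective
  let j := pullback.fst X.hom r₀
  obtain ⟨z, hz⟩ : x ∈ Set.range j := by
    rw [Scheme.Pullback.range_fst]
    show X.hom x ∈ Set.range r₀
    rw [hxs]
    exact ⟨IsLocalRing.closedPoint _, PrimeSpectrum.ext (by
      show Ideal.comap (IsLocalRing.residue R) (IsLocalRing.maximalIdeal _) = _
      rw [IsLocalRing.maximalIdeal_eq_bot]
      exact IsLocalRing.ker_residue)⟩
  subst hz
  haveI := EtPBC.isSepClosed_of_isClosed (pullback.snd X.hom r₀) z (by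
    have := hx.preimage j.continuous
    rwa [← Set.image_singleton, Set.preimage_image_eq _ j.isClosedEmbedding.injective] at this)
  haveI : IsIso (j.residueFieldMap z) :=
    (ConcreteCategory.isIso_iff_bijective _).2 ⟨(j.residueFieldMap z).hom.injective,
      residueFieldMap_surjective j z⟩
  exact Hensel.isSepClosed_of_ringEquiv (asIso (j.residueFieldMap z)).symm.commRingCatIsoToRingEquiv

/-- torsion sheaves on an arithmetic surface over a complete base have no cohomology in degrees three and up -/
theorem subsingleton_H_arSurf {X : Over (Spec (CommRingCat.of R))} (hX : ArSurf.IsArithSurface R X)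
    (n : ℕ) [NeZero n] (q : ℕ) (hq : 3 ≤ q) :
    Subsingleton (Ext (EtCoh.const X.left ℤ) (EtCoh.const X.left (ZMod n)) q) := by
  let F := EtCoh.const X.left (ZMod n)
  have hF : EtCoh.IsTorsion F := LAcyc.isTorsion_const X.left (NeZero.pos n)
  obtain ⟨hp, hN, -⟩ := arSurf_setting hX
  obtain ⟨hreg, hint, hdim, hflat, -⟩ := hX
  haveI := hp
  haveI := hN
  haveI := hint
  haveI := hflat
  haveI := WildExt.henselianLocalRing_of_complete R
  let r₀ := Spec.map (CommRingCat.ofHom (IsLocalRing.residue R))
  haveI : IsClosedImmersion r₀ := IsClosedImmersion.spec_of_surjective _ IsLocalRing.residue_surjective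
  let j := pullback.fst X.hom r₀
  let c := pullback.snd X.hom r₀
  haveI : CompactSpace (pullback X.hom r₀ : Scheme.{u}) := QuasiCompact.compactSpace_of_compactSpace c
  haveI : IsLocallyNoetherian (pullback X.hom r₀ : Scheme.{u}) := LocallyOfFiniteType.isLocallyNoetherian c
  haveI : IsNoetherian (pullback X.hom r₀ : Scheme.{u}) := {}
  haveI := EtPullExact.pull_preservesFiniteLimits j
  have hd : topologicalKrullDim (pullback X.hom r₀ : Scheme.{u}) ≤ 1 := by
    refine Unibranch.topologicalKrullDim_le_natCast (e := 1) fun m s hs => ?_
    by_contra hm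
    push Not at hm
    have hgen : genericPoint X.left ≠ j (s 0) := fun e => by
      refine Castel.genericPoint_notMem_special (X := X) ?_
      show X.hom (genericPoint X.left) = IsLocalRing.closedPoint R
      rw [e, ← Scheme.Hom.comp_apply, pullback.condition, Scheme.Hom.comp_apply]
      refine PrimeSpectrum.ext ?_
      show Ideal.comap (IsLocalRing.residue R) (c (s 0)).asIdeal = _
      rw [(Ideal.eq_bot_or_top (c (s 0)).asIdeal).resolve_right (c (s 0)).isPrime.ne_top]
      exact IsLocalRing.ker_residue
    have h3 := Unibranch.natCast_le_topologicalKrullDim (α := X.left) (k := m + 1) (Fin.cons (genericPoint X.left) (j ∘ s))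
      fun i => by
        refine Fin.cases ?_ (fun l => ?_) i
        · simp only [Fin.castSucc_zero, Fin.cons_zero, Fin.cons_succ, Function.comp_apply]
          exact ⟨genericPoint_specializes _, hgen⟩
        · simp only [← Fin.succ_castSucc, Fin.cons_succ, Function.comp_apply]
          exact ⟨(hs l).1.map j.continuous, fun e => (hs l).2 (j.isClosedEmbedding.injective e)⟩
    rw [hdim] at h3
    have : m + 1 ≤ 2 := by exact_mod_cast h3
    omega
  haveI : Subsingleton (EtCoh.H (pullback X.hom r₀) ((EtCoh.pull j).obj F) q) := by
    have h : Subsingleton (EtCoh.H (pullback X.hom r₀) (EtCoh.const (pullback X.hom r₀) (ZMod n)) q) :=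
      EtPBC.subsingleton_H_torsion_ge_three c hd (LAcyc.isTorsion_const _ (NeZero.pos n)) q hq
    exact ((EtCoh.HF (pullback X.hom r₀) q).mapIso
      (EtCore.pullConst j (ZMod n))).addCommGroupIsoToAddEquiv.toEquiv.subsingleton_congr.2 h
  exact ((EtPBC.compN_closedFibre_henselian X.hom j c (IsPullback.of_hasPullback _ _) q F
    (EtPBC.isLTorsion_univ_of_isTorsion hF)).1 q le_rfl).injective.subsingleton

end Groth.Agent.EtPur
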