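import Groth.Agent.LeftInv.Smooth
import Mathlib

/-!
# Equations of smooth subvarieties of smooth algebras
-/

set_option autoImplicit false
set_option backward.isDefEq.respectTransparency false
set_option backward.isDefEq.respectTransparency.types false
set_option linter.style.haveILetI false
set_option linter.unusedSectionVars false
set_option maxHeartbeats 1000000
set_option synthInstance.maxHeartbeats 400000

universe u

open TensorProduct KaehlerDifferential

noncomputable section

namespace Groth.Agent.EtPur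

/-- `J / m J` for an ideal of a local ring -/
abbrev NakQuot {R : Type u} [CommRing R] [IsLocalRing R] (J : Submodule R R) :=
  J ⧸ (IsLocalRing.maximalIdeal R • ⊤ : Submodule R J)

instance {R : Type u} [CommRing R] [IsLocalRing R] (J : Submodule R R) :
    Module (IsLocalRing.ResidueField R) (NakQuot J) :=
  inferInstanceAs (Module (R ⧸ IsLocalRing.maximalIdeal R) (J ⧸ (IsLocalRing.maximalIdeal R • ⊤ : Submodule R J)))

instance {R : Type u} [CommRing R] [IsLocalRing R] (J : Submodule R R) :
    IsScalarTower R (IsLocalRing.ResidueField R) (NakQuot J) :=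
  inferInstanceAs (IsScalarTower R (R ⧸ IsLocalRing.maximalIdeal R)
    (J ⧸ (IsLocalRing.maximalIdeal R • ⊤ : Submodule R J)))

variable {A C : Type u} [CommRing A] [CommRing C] [Algebra A C]

/-- the rank of the differentials of an algebra smooth of relative dimension `N` -/
theorem finrank_kaehler_residueField {N : ℕ}
    (h : (algebraMap A C).Locally (RingHom.IsStandardSmoothOfRelativeDimension N)) (q : Ideal C) [q.IsPrime] :
    Module.finrank q.ResidueField (q.ResidueField ⊗[C] Ω[C⁄A]) = N := by
  haveI : Algebra.Smooth A C := RingHom.smooth_algebraMap.1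
    (RingHom.smooth_iff_locally_isStandardSmooth.2 (let ⟨s, hs, hs'⟩ := h
      ⟨s, hs, fun t ht => RingHom.IsStandardSmoothOfRelativeDimension.isStandardSmooth N _ (hs' t ht)⟩))
  show Module.finrank q.ResidueField (q.Fiber Ω[C⁄A]) = N
  rw [Ideal.finrank_fiber_eq_rankAtStalk]
  obtain ⟨s, hs, hs'⟩ := h
  obtain ⟨t, ht, htq⟩ : ∃ t ∈ s, t ∉ q := by
    by_contra! hc
    exact ‹q.IsPrime›.ne_top (top_le_iff.1 (hs.symm.le.trans (Ideal.span_le.2 hc)))
  let T := Localization.Away t
  haveI hT : Algebra.IsStandardSmoothOfRelativeDimension N A T := by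
    rw [← RingHom.isStandardSmoothOfRelativeDimension_algebraMap, IsScalarTower.algebraMap_eq A C T]
    exact hs' t ht
  obtain ⟨p, hp⟩ : (⟨q, ‹_›⟩ : PrimeSpectrum C) ∈ Set.range (PrimeSpectrum.comap (algebraMap C T)) := by
    rw [PrimeSpectrum.localization_away_comap_range T t]
    exact htq
  rw [← hp, ← Module.rankAtStalk_isBaseChange (f := KaehlerDifferential.map A A C T)
    (KaehlerDifferential.isBaseChange_of_formallyEtale A C T)]
  haveI : Nontrivial T := p.nontrivial
  haveI := Algebra.IsStandardSmoothOfRelativeDimension.isStandardSmooth (R := A) (S := T) N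
  rw [Module.rankAtStalk_eq_finrank_of_free]
  exact Module.finrank_eq_of_rank_eq (Algebra.IsStandardSmoothOfRelativeDimension.rank_kaehlerDifferential N)

variable (I : Ideal C)

/-- the cotangent class vanishes in the fibre only for elements of `q I` -/
theorem mem_of_tmul_eq_zero (hker : RingHom.ker (algebraMap C (C ⧸ I)) = I) (q : Ideal C) [q.IsPrime] (hq : I ≤ q)
    (p : Ideal (C ⧸ I)) [p.IsPrime] [Algebra q.ResidueField p.ResidueField]
    [IsScalarTower C q.ResidueField p.ResidueField] (hρ : Function.Bijective (algebraMap q.ResidueField p.ResidueField))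
    (y : RingHom.ker (algebraMap C (C ⧸ I)))
    (hy : (1 : p.ResidueField) ⊗ₜ[C] Ideal.toCotangent _ y = 0) :
    algebraMap C (Localization.AtPrime q) (y : C) ∈
      IsLocalRing.maximalIdeal (Localization.AtPrime q) * I.map (algebraMap C (Localization.AtPrime q)) := by
  let R := Localization.AtPrime q
  let J : Submodule R R := I.map (algebraMap C R)
  let m : Ideal R := IsLocalRing.maximalIdeal R
  let Q := NakQuot J
  let k := q.ResidueField
  haveI : IsScalarTower C k Q := IsScalarTower.of_algebraMap_smul fun c x => by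
    rw [IsScalarTower.algebraMap_apply C R k, algebraMap_smul, algebraMap_smul]
  let φ₀ : RingHom.ker (algebraMap C (C ⧸ I)) →ₗ[C] J :=
    { toFun := fun z => ⟨algebraMap C R z, Ideal.mem_map_of_mem _ (hker.le z.2)⟩
      map_add' := fun a b => Subtype.ext (map_add (algebraMap C R) _ _)
      map_smul' := fun c a => Subtype.ext ((map_mul (algebraMap C R) _ _).trans (Algebra.smul_def _ _).symm) }
  let φ : (RingHom.ker (algebraMap C (C ⧸ I))).Cotangent →ₗ[C] Q :=
    Ideal.Cotangent.lift (((m • ⊤ : Submodule R J).mkQ.restrictScalars C).comp φ₀) fun a b => by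
      refine (Submodule.Quotient.mk_eq_zero _).2 ?_
      have ha : algebraMap C R a ∈ m := by
        exact (IsLocalization.AtPrime.to_map_mem_maximal_iff R q _).2 (hq (hker.le a.2))
      have e : φ₀ (a * b) = algebraMap C R a • φ₀ b := Subtype.ext (map_mul (algebraMap C R) _ _)
      rw [e]
      exact Submodule.smul_mem_smul ha Submodule.mem_top
  let Φ : k ⊗[C] (RingHom.ker (algebraMap C (C ⧸ I))).Cotangent →ₗ[k] Q :=
    TensorProduct.AlgebraTensorModule.lift (((LinearMap.ringLmapEquivSelf k k _).symm φ).restrictScalars k)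
  let ψ : k →ₐ[C] p.ResidueField := IsScalarTower.toAlgHom C k p.ResidueField
  have h0 : (1 : k) ⊗ₜ[C] Ideal.toCotangent _ y = 0 := by
    refine (TensorProduct.congr (AlgEquiv.ofBijective ψ hρ).toLinearEquiv (LinearEquiv.refl C _)).injective ?_
    rw [map_zero, TensorProduct.congr_tmul]
    simpa using hy
  have h1 : Φ ((1 : k) ⊗ₜ[C] Ideal.toCotangent _ y) = 0 := by rw [h0, map_zero]
  have h2 : φ₀ y ∈ (m • ⊤ : Submodule R J) := by
    refine (Submodule.Quotient.mk_eq_zero _).1 ?_
    have e : Φ ((1 : k) ⊗ₜ[C] Ideal.toCotangent _ y) = φ (Ideal.toCotangent _ y) := by simp [Φ]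
    exact (Ideal.Cotangent.lift_toCotangent _ _ y).symm.trans (e.symm.trans h1)
  have h3 := Submodule.mem_map_of_mem (f := J.subtype) h2
  rwa [Submodule.map_smul'', Submodule.map_subtype_top, smul_eq_mul] at h3

/-- **equations of a smooth subvariety**: near a point there are as many equations as the codimension, with
independent differentials -/
theorem exists_equations [Algebra.Smooth A C] [Algebra.Smooth A (C ⧸ I)] {m c : ℕ}
    (hC : ∀ (q : Ideal C) [q.IsPrime], Module.finrank q.ResidueField (q.ResidueField ⊗[C] Ω[C⁄A]) = m + c)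
    (hD : ∀ (p : Ideal (C ⧸ I)) [p.IsPrime],
      Module.finrank p.ResidueField (p.ResidueField ⊗[C ⧸ I] Ω[(C ⧸ I)⁄A]) = m)
    (q : Ideal C) [q.IsPrime] (hq : I ≤ q) :
    ∃ f : Fin c → C, (∀ i, f i ∈ I) ∧
      (LinearIndependent q.ResidueField fun i => (1 : q.ResidueField) ⊗ₜ[C] D A C (f i)) ∧
      ∃ s ∉ q, ∀ x ∈ I, s * x ∈ Ideal.span (Set.range f) := by
  classical
  have hker : RingHom.ker (algebraMap C (C ⧸ I)) = I := Ideal.mk_ker
  have hsurj : Function.Surjective (algebraMap C (C ⧸ I)) := Ideal.Quotient.mk_surjective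
  have hI : I.FG := hker ▸ Algebra.FinitePresentation.ker_fG_of_surjective (Algebra.ofId C (C ⧸ I) |>.restrictScalars A) hsurj
  haveI : Module.Finite C (RingHom.ker (algebraMap C (C ⧸ I))) :=
    Module.Finite.of_fg (by rw [hker]; exact hI)
  haveI : Module.Finite C (RingHom.ker (algebraMap C (C ⧸ I))).Cotangent :=
    Module.Finite.of_surjective _ (Ideal.toCotangent_surjective _)
  let p : Ideal (C ⧸ I) := q.map (Ideal.Quotient.mk I)
  haveI hp : p.IsPrime := Ideal.map_isPrime_of_surjective Ideal.Quotient.mk_surjective (by rwa [Ideal.mk_ker])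
  have hcomap : q = p.under C := by
    rw [Ideal.under_def, Ideal.Quotient.algebraMap_eq, Ideal.comap_map_of_surjective _ Ideal.Quotient.mk_surjective,
      ← RingHom.ker_eq_comap_bot, Ideal.mk_ker, sup_eq_left.2 hq]
  haveI : p.LiesOver q := ⟨hcomap⟩
  let κ := p.ResidueField
  have hinj := (LeftInv.formallySmooth_atPrime_iff_injective (A := A) hsurj p).1
    (inferInstance : Algebra.FormallySmooth A (Localization.AtPrime p))
  let K := κ ⊗[C] (RingHom.ker (algebraMap C (C ⧸ I))).Cotangent
  let Φ : K →ₗ[κ] κ ⊗[C] ((C ⧸ I) ⊗[C] Ω[C⁄A]) :=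
    LinearMap.baseChange κ (kerCotangentToTensor A C (C ⧸ I))
  let Ψ : κ ⊗[C] ((C ⧸ I) ⊗[C] Ω[C⁄A]) →ₗ[κ] κ ⊗[C] Ω[(C ⧸ I)⁄A] :=
    LinearMap.baseChange κ ((mapBaseChange A C (C ⧸ I)).restrictScalars C)
  have hΦ : Function.Injective Φ := hinj
  have hΨ : Function.Surjective Ψ :=
    LinearMap.lTensor_surjective κ (mapBaseChange_surjective A C (C ⧸ I) hsurj)
  have hex : Function.Exact Φ Ψ :=
    lTensor_exact κ (exact_kerCotangentToTensor_mapBaseChange A C (C ⧸ I) hsurj)
      (mapBaseChange_surjective A C (C ⧸ I) hsurj)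
  haveI := TensorProduct.CompatibleSMul.of_algebraMap_surjective (R := C) (A := C ⧸ I) κ Ω[(C ⧸ I)⁄A] hsurj
  haveI := TensorProduct.CompatibleSMul.of_algebraMap_surjective (R := C) (A := C ⧸ I) κ ((C ⧸ I) ⊗[C] Ω[C⁄A]) hsurj
  let e₁ : κ ⊗[C] Ω[(C ⧸ I)⁄A] ≃ₗ[κ] κ ⊗[C ⧸ I] Ω[(C ⧸ I)⁄A] :=
    TensorProduct.equivOfCompatibleSMul (C ⧸ I) C κ κ Ω[(C ⧸ I)⁄A]
  let e₂ : κ ⊗[C] ((C ⧸ I) ⊗[C] Ω[C⁄A]) ≃ₗ[κ] κ ⊗[C] Ω[C⁄A] :=
    TensorProduct.equivOfCompatibleSMul (C ⧸ I) C κ κ ((C ⧸ I) ⊗[C] Ω[C⁄A]) ≪≫ₗ
      TensorProduct.AlgebraTensorModule.cancelBaseChange C (C ⧸ I) κ κ Ω[C⁄A]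
  -- compare the residue fields
  let ρ : q.ResidueField →+* κ := Ideal.ResidueField.map q p (algebraMap C (C ⧸ I)) hcomap
  have hρ : Function.Bijective ρ := (RingHom.surjectiveOnStalks_of_surjective hsurj).residueFieldMap_bijective q p hcomap
  letI : Algebra q.ResidueField κ := ρ.toAlgebra
  haveI : IsScalarTower C q.ResidueField κ := IsScalarTower.of_algebraMap_eq fun a =>
    (Ideal.ResidueField.map_algebraMap q p _ hcomap a).symm
  have hdimC : Module.finrank κ (κ ⊗[C] Ω[C⁄A]) = m + c := by
    rw [← LinearEquiv.finrank_eq (TensorProduct.AlgebraTensorModule.cancelBaseChange C q.ResidueField κ κ Ω[C⁄A]),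
      Module.finrank_baseChange, hC q]
  haveI : Module.Finite κ (κ ⊗[C] ((C ⧸ I) ⊗[C] Ω[C⁄A])) := Module.Finite.equiv e₂.symm
  have hK : Module.finrank κ K = c := by
    have h := LinearMap.finrank_range_add_finrank_ker Ψ
    rw [LinearMap.range_eq_top.2 hΨ, finrank_top, LinearEquiv.finrank_eq e₁, hD p, LinearEquiv.finrank_eq e₂, hdimC,
      LinearMap.exact_iff.1 hex, LinearMap.finrank_range_of_inj hΦ] at h
    omega
  let gen : RingHom.ker (algebraMap C (C ⧸ I)) → K := fun x => (1 : κ) ⊗ₜ[C] Ideal.toCotangent _ x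
  have hspan : Submodule.span κ (Set.range gen) = ⊤ := by
    refine top_le_iff.1 fun x _ => ?_
    induction x using TensorProduct.induction_on with
    | zero => exact Submodule.zero_mem _
    | add a b ha hb => exact Submodule.add_mem _ (ha trivial) (hb trivial)
    | tmul a b =>
      obtain ⟨b, rfl⟩ := Ideal.toCotangent_surjective _ b
      rw [show a ⊗ₜ[C] Ideal.toCotangent _ b = a • gen b from
        ((TensorProduct.smul_tmul' a (1 : κ) (Ideal.toCotangent _ b)).trans (by rw [smul_eq_mul, mul_one])).symm]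
      exact Submodule.smul_mem _ _ (Submodule.subset_span ⟨b, rfl⟩)
  haveI : Module.Finite κ K := Module.Finite.of_injective Φ hΦ
  obtain ⟨v, hv, hvspan, hvli⟩ := exists_linearIndependent κ (Set.range gen)
  rw [hspan] at hvspan
  haveI : Finite v := hvli.finite
  have hvc : Nat.card v = c := by
    rw [← hK, Module.finrank_eq_nat_card_basis (Module.Basis.mk hvli (by rw [Subtype.range_coe, hvspan]))]
  let en : Fin c ≃ v := (finCongr hvc.symm).trans (Finite.equivFin v).symm
  choose f hf using fun i => hv (en i).2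
  have hfI : ∀ i, (f i : C) ∈ I := fun i => hker.le (f i).2
  refine ⟨fun i => (f i).1, hfI, ?_, ?_⟩
  · have h1 : LinearIndependent κ fun i => gen (f i) := by
      have := hvli.comp en en.injective
      exact (funext hf : (fun i => gen (f i)) = fun i => (en i : K)) ▸ this
    have h2 : LinearIndependent κ fun i => e₂ (Φ (gen (f i))) :=
      (h1.map' Φ (LinearMap.ker_eq_bot.2 hΦ)).map' e₂.toLinearMap e₂.ker
    let L : q.ResidueField ⊗[C] Ω[C⁄A] →ₗ[C] κ ⊗[C] Ω[C⁄A] :=
      LinearMap.rTensor Ω[C⁄A] (IsScalarTower.toAlgHom C q.ResidueField κ).toLinearMap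
    have hLs : ∀ (a : q.ResidueField) (x : q.ResidueField ⊗[C] Ω[C⁄A]), L (a • x) = ρ a • L x := fun a x => by
      induction x using TensorProduct.induction_on with
      | zero => simp
      | add x y hx hy => simp only [smul_add, map_add, hx, hy]
      | tmul b w =>
        simp only [TensorProduct.smul_tmul', smul_eq_mul, L, LinearMap.rTensor_tmul]
        congr 1
        exact map_mul ρ a b
    rw [Fintype.linearIndependent_iff]
    intro a ha i
    refine hρ.1 ?_
    rw [map_zero]
    refine Fintype.linearIndependent_iff.1 h2 (fun i => ρ (a i)) ?_ i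
    have h3 := congrArg L ha
    rw [map_zero, map_sum] at h3
    rw [← h3]
    refine Finset.sum_congr rfl fun i _ => ?_
    rw [hLs]
    congr 1
    refine Eq.symm ?_
    show L ((1 : q.ResidueField) ⊗ₜ[C] D A C (f i : C)) = (TensorProduct.AlgebraTensorModule.cancelBaseChange C (C ⧸ I) κ κ Ω[C⁄A])
      ((1 : κ) ⊗ₜ[C ⧸ I] kerCotangentToTensor A C (C ⧸ I) (Ideal.toCotangent _ (f i)))
    rw [kerCotangentToTensor_toCotangent, TensorProduct.AlgebraTensorModule.cancelBaseChange_tmul, one_smul,
      LinearMap.rTensor_tmul]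
    exact congrArg (· ⊗ₜ[C] D A C (f i : C)) (map_one ρ)
  · let R := Localization.AtPrime q
    haveI : Module.Finite C I := Module.Finite.of_fg hI
    have hle : I.map (algebraMap C R) ≤ (Ideal.span (Set.range fun i => (f i).1)).map (algebraMap C R) := by
      refine Submodule.le_of_le_smul_of_le_jacobson_bot (I := IsLocalRing.maximalIdeal R) (hI.map _)
        (IsLocalRing.jacobson_eq_maximalIdeal _ bot_ne_top).ge ?_
      rw [Ideal.map_le_iff_le_comap]
      intro x hx
      let xk : RingHom.ker (algebraMap C (C ⧸ I)) := ⟨x, hker.ge hx⟩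
      have hxs : gen xk ∈ Submodule.span κ (Set.range fun i => gen (f i)) := by
        have h : (Set.range fun i => gen (f i)) = v := by
          ext y
          refine ⟨fun ⟨i, hi⟩ => ?_, fun hy => ⟨en.symm ⟨y, hy⟩, by simp [hf]⟩⟩
          rw [← hi]
          show gen (f i) ∈ v
          rw [hf i]
          exact (en i).2
        rw [h, hvspan]
        trivial
      obtain ⟨a, ha⟩ := (Submodule.mem_span_range_iff_exists_fun κ).1 hxs
      -- clear denominators
      have hsr : ∀ z : κ, ∃ (r : C) (t : C), t ∉ q ∧ t • z = algebraMap C κ r := fun z => by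
        obtain ⟨z, rfl⟩ := hρ.2 z
        obtain ⟨r, t, ht⟩ :=
          (show ∃ r : C, ∃ t : q.primeCompl, algebraMap C q.ResidueField t * z = algebraMap C q.ResidueField r from by
            obtain ⟨w, rfl⟩ := IsLocalRing.residue_surjective z
            obtain ⟨⟨r, t⟩, hrt⟩ := IsLocalization.surj q.primeCompl w
            refine ⟨r, t, ?_⟩
            have := congrArg (IsLocalRing.residue R) hrt
            rw [map_mul] at this
            exact (mul_comm _ _).trans this)
        refine ⟨r, t, t.2, ?_⟩
        rw [Algebra.smul_def, IsScalarTower.algebraMap_apply C q.ResidueField κ,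
          IsScalarTower.algebraMap_apply C q.ResidueField κ r]
        exact (map_mul ρ _ _).symm.trans (congrArg ρ ht)
      choose r t ht hrt using fun i => hsr (a i)
      let T := ∏ i, t i
      let b : Fin c → C := fun i => r i * ∏ j ∈ Finset.univ.erase i, t j
      have hb : ∀ i, algebraMap C κ (b i) = T • a i := fun i => by
        simp only [T, b, map_mul, ← hrt, ← Finset.mul_prod_erase _ _ (Finset.mem_univ i), Algebra.smul_def, map_mul]
        ring
      let y : RingHom.ker (algebraMap C (C ⧸ I)) := T • xk - ∑ i, b i • f i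
      have hy : gen y = 0 := by
        have hg : ∀ (u : C) (z : RingHom.ker (algebraMap C (C ⧸ I))), gen (u • z) = algebraMap C κ u • gen z :=
          fun u z => by
            simp only [gen, map_smul, TensorProduct.tmul_smul]
            rw [algebraMap_smul]
        have hadd : ∀ z w, gen (z - w) = gen z - gen w := fun z w => by
          simp only [gen, map_sub, TensorProduct.tmul_sub]
        have hsum : gen (∑ i, b i • f i) = ∑ i, gen (b i • f i) := by
          simp only [gen, map_sum, TensorProduct.tmul_sum]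
        rw [hadd, hsum, hg, ← ha, Finset.smul_sum, sub_eq_zero]
        refine Finset.sum_congr rfl fun i _ => ?_
        rw [hg, hb, smul_smul, Algebra.smul_def]
      have hymem : algebraMap C R (y : C) ∈ IsLocalRing.maximalIdeal R * I.map (algebraMap C R) :=
        mem_of_tmul_eq_zero I hker q hq p hρ y hy
      have hT : IsUnit (algebraMap C R T) :=
        IsLocalization.map_units R (⟨T, Submonoid.prod_mem q.primeCompl fun i _ => ht i⟩ : q.primeCompl)
      rw [Ideal.mem_comap, ← Ideal.unit_mul_mem_iff_mem _ hT, ← map_mul,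
        show T * x = (∑ i, b i * (f i).1) + (y : C) by simp [y, xk], map_add]
      refine Submodule.add_mem _ (Submodule.mem_sup_left ?_) (Submodule.mem_sup_right hymem)
      rw [map_sum]
      exact Ideal.sum_mem _ fun i _ => Ideal.mem_map_of_mem _ (Ideal.mul_mem_left _ _ (Ideal.subset_span ⟨i, rfl⟩))
    obtain ⟨S, hS⟩ := hI
    have hx : ∀ x ∈ S, ∃ s ∉ q, s * x ∈ Ideal.span (Set.range fun i => (f i).1) := fun x hx => by
      obtain ⟨s, hs, hsx⟩ := (IsLocalization.algebraMap_mem_map_algebraMap_iff q.primeCompl R _ x).1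
        (hle (Ideal.mem_map_of_mem _ (hS ▸ Ideal.subset_span hx)))
      exact ⟨s, hs, hsx⟩
    choose! s hs hsx using hx
    refine ⟨∏ x ∈ S, s x, Submonoid.prod_mem q.primeCompl fun x hx => hs x hx, fun x hx => ?_⟩
    rw [← hS] at hx
    induction hx using Submodule.span_induction with
    | mem x hx =>
      rw [← Finset.prod_erase_mul _ _ hx, mul_assoc]
      exact Ideal.mul_mem_left _ _ (hsx x hx)
    | zero => simp
    | add a b _ _ ha hb => rw [mul_add]; exact Ideal.add_mem _ ha hb
    | smul a b _ hb => rw [smul_eq_mul, mul_left_comm]; exact Ideal.mul_mem_left _ _ hb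

attribute [local instance] MvPolynomial.algebraMvPolynomial

/-- **functions with independent differentials define a smooth map to affine space** -/
theorem formallySmooth_atPrime_of_linearIndependent [Algebra.Smooth A C] {c : ℕ} (f : Fin c → C)
    (q : Ideal C) [q.IsPrime]
    (hli : LinearIndependent q.ResidueField fun i => (1 : q.ResidueField) ⊗ₜ[C] D A C (f i))
    [Algebra (MvPolynomial (Fin c) A) C]
    (halg : algebraMap (MvPolynomial (Fin c) A) C = (MvPolynomial.aeval f).toRingHom) :
    Algebra.FormallySmooth (MvPolynomial (Fin c) A) (Localization.AtPrime q) := by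
  let P := MvPolynomial (Fin c) A
  let B := MvPolynomial (Fin c) C
  letI : Algebra B C := (MvPolynomial.eval f).toAlgebra
  haveI : IsScalarTower P B C := IsScalarTower.of_algebraMap_eq fun x => by
    rw [halg]
    show MvPolynomial.aeval f x = MvPolynomial.eval f (MvPolynomial.map (algebraMap A C) x)
    rw [MvPolynomial.eval_map, MvPolynomial.aeval_def]
  have hsurj : Function.Surjective (algebraMap B C) := fun x => ⟨MvPolynomial.C x, MvPolynomial.eval_C x⟩
  haveI : Algebra.FormallySmooth A C := inferInstance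
  haveI : Algebra.FormallySmooth P B :=
    Algebra.FormallySmooth.of_equiv (Algebra.IsPushout.equiv A P C B)
  have hkerspan : RingHom.ker (algebraMap B C) =
      Ideal.span (Set.range fun i => MvPolynomial.X i - MvPolynomial.C (f i)) := by
    refine le_antisymm (fun x hx => ?_) (Ideal.span_le.2 ?_)
    · have key : ∀ y : B, y - MvPolynomial.C (MvPolynomial.eval f y) ∈
          Ideal.span (Set.range fun i => (MvPolynomial.X i - MvPolynomial.C (f i) : B)) := by
        intro y
        induction y using MvPolynomial.induction_on with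
        | C a => simp
        | add u v hu hv =>
          rw [map_add, map_add, add_sub_add_comm]
          exact Ideal.add_mem _ hu hv
        | mul_X u i hu =>
          have e : u * MvPolynomial.X i - MvPolynomial.C (MvPolynomial.eval f (u * MvPolynomial.X i)) =
              MvPolynomial.X i * (u - MvPolynomial.C (MvPolynomial.eval f u)) +
              MvPolynomial.C (MvPolynomial.eval f u) * (MvPolynomial.X i - MvPolynomial.C (f i)) := by
            simp only [map_mul, MvPolynomial.eval_X]; ring
          rw [e]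
          exact Ideal.add_mem _ (Ideal.mul_mem_left _ _ hu) (Ideal.mul_mem_left _ _ (Ideal.subset_span ⟨i, rfl⟩))
      have := key x
      rwa [show MvPolynomial.eval f x = 0 from hx, map_zero, sub_zero] at this
    · rintro _ ⟨i, rfl⟩
      show MvPolynomial.eval f _ = 0
      simp
  haveI : Module.Finite B (RingHom.ker (algebraMap B C)) :=
    Module.Finite.of_fg (by rw [hkerspan]; exact Submodule.fg_span (Set.finite_range _))
  haveI : Module.Finite B (RingHom.ker (algebraMap B C)).Cotangent :=
    Module.Finite.of_surjective _ (Ideal.toCotangent_surjective _)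
  rw [LeftInv.formallySmooth_atPrime_iff_injective (A := P) hsurj q]
  let κ := q.ResidueField
  let g : Fin c → RingHom.ker (algebraMap B C) := fun i =>
    ⟨MvPolynomial.X i - MvPolynomial.C (f i), hkerspan.ge (Ideal.subset_span ⟨i, rfl⟩)⟩
  let N := κ ⊗[B] (RingHom.ker (algebraMap B C)).Cotangent
  let Φ : N →ₗ[κ] κ ⊗[B] (C ⊗[B] Ω[B⁄P]) := LinearMap.baseChange κ (kerCotangentToTensor P B C)
  show Function.Injective Φ
  let te := KaehlerDifferential.tensorKaehlerEquiv A P C B
  haveI := TensorProduct.CompatibleSMul.of_algebraMap_surjective (R := B) (A := C) κ (C ⊗[B] Ω[B⁄P]) hsurj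
  haveI : IsScalarTower C B C := IsScalarTower.of_algebraMap_eq fun x => (MvPolynomial.eval_C x).symm
  haveI : IsScalarTower C B κ := IsScalarTower.of_algebraMap_eq fun x => by
    rw [IsScalarTower.algebraMap_apply C C κ x, IsScalarTower.algebraMap_apply B C κ,
      ← IsScalarTower.algebraMap_apply C B C x]
  let E : κ ⊗[B] (C ⊗[B] Ω[B⁄P]) ≃ₗ[κ] κ ⊗[C] Ω[C⁄A] :=
    TensorProduct.equivOfCompatibleSMul C B κ κ (C ⊗[B] Ω[B⁄P]) ≪≫ₗ
      TensorProduct.AlgebraTensorModule.cancelBaseChange B C κ κ Ω[B⁄P] ≪≫ₗ
      TensorProduct.AlgebraTensorModule.congr (LinearEquiv.refl κ κ) te.symm ≪≫ₗ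
      TensorProduct.AlgebraTensorModule.cancelBaseChange C B κ κ Ω[C⁄A]
  have hspan : ⊤ ≤ Submodule.span κ (Set.range fun i => ((1 : κ) ⊗ₜ[B] Ideal.toCotangent _ (g i) : N)) := by
    intro x _
    induction x using TensorProduct.induction_on with
    | zero => exact Submodule.zero_mem _
    | add a b ha hb => exact Submodule.add_mem _ (ha trivial) (hb trivial)
    | tmul a b =>
      obtain ⟨⟨b, hb⟩, rfl⟩ := Ideal.toCotangent_surjective _ b
      obtain ⟨w, hw⟩ := Ideal.mem_span_range_iff_exists_fun.1 (hkerspan.le hb)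
      have e : (⟨b, hb⟩ : RingHom.ker (algebraMap B C)) = ∑ i, w i • g i := by
        apply Subtype.ext
        simpa [g] using hw.symm
      rw [e, map_sum, TensorProduct.tmul_sum]
      refine Submodule.sum_mem _ fun i _ => ?_
      rw [map_smul, TensorProduct.tmul_smul, TensorProduct.smul_tmul',
        show (w i • a) ⊗ₜ[B] Ideal.toCotangent _ (g i) = (w i • a) • ((1 : κ) ⊗ₜ[B] Ideal.toCotangent _ (g i)) from
          ((TensorProduct.smul_tmul' _ _ _).trans (by rw [smul_eq_mul, mul_one])).symm]
      exact Submodule.smul_mem _ _ (Submodule.subset_span ⟨i, rfl⟩)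
  have hval : ∀ i, E (Φ ((1 : κ) ⊗ₜ[B] Ideal.toCotangent _ (g i))) = - ((1 : κ) ⊗ₜ[C] D A C (f i)) := fun i => by
    have hX : D P B (MvPolynomial.X i : B) = 0 := by
      rw [show (MvPolynomial.X i : B) = algebraMap P B (MvPolynomial.X i) from (MvPolynomial.map_X _ i).symm]
      exact Derivation.map_algebraMap _ _
    have hC : te.symm (D P B (MvPolynomial.C (f i) : B)) = (1 : B) ⊗ₜ[C] D A C (f i) := by
      rw [LinearEquiv.symm_apply_eq]
      rw [KaehlerDifferential.tensorKaehlerEquiv_tmul_D, one_smul]
      rfl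
    show (TensorProduct.AlgebraTensorModule.cancelBaseChange C B κ κ Ω[C⁄A])
      ((TensorProduct.AlgebraTensorModule.congr (LinearEquiv.refl κ κ) te.symm)
        ((TensorProduct.AlgebraTensorModule.cancelBaseChange B C κ κ Ω[B⁄P])
          ((1 : κ) ⊗ₜ[C] kerCotangentToTensor P B C (Ideal.toCotangent _ (g i))))) = _
    rw [kerCotangentToTensor_toCotangent, TensorProduct.AlgebraTensorModule.cancelBaseChange_tmul, one_smul,
      TensorProduct.AlgebraTensorModule.congr_tmul, LinearEquiv.refl_apply]
    have hg : te.symm (D P B (g i : B)) = - ((1 : B) ⊗ₜ[C] D A C (f i)) := by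
      show te.symm (D P B (MvPolynomial.X i - MvPolynomial.C (f i))) = _
      rw [map_sub, map_sub, hX, hC, map_zero, zero_sub]
    rw [hg, TensorProduct.tmul_neg, map_neg, TensorProduct.AlgebraTensorModule.cancelBaseChange_tmul, one_smul]
  intro x y hxy
  obtain ⟨a, rfl⟩ := (Submodule.mem_span_range_iff_exists_fun κ).1 (hspan (Submodule.mem_top (x := x)))
  obtain ⟨b, rfl⟩ := (Submodule.mem_span_range_iff_exists_fun κ).1 (hspan (Submodule.mem_top (x := y)))
  have h := congrArg E hxy
  simp only [map_sum, map_smul, hval, smul_neg, Finset.sum_neg_distrib, neg_inj] at h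
  rw [← sub_eq_zero, ← Finset.sum_sub_distrib] at h
  simp only [← sub_smul] at h
  refine Finset.sum_congr rfl fun i _ => ?_
  rw [sub_eq_zero.1 (Fintype.linearIndependent_iff.1 hli (fun i => a i - b i) h i)]

end Groth.Agent.EtPur
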