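import Groth.Agent.EtPur.Chart
import Groth.Agent.EtPur.Univ
import Groth.Agent.Hensel.FiniteEtale
import Mathlib

/-!
# Charts of smooth pairs
-/

set_option autoImplicit false
set_option backward.isDefEq.respectTransparency false
set_option backward.isDefEq.respectTransparency.types false
set_option linter.style.haveILetI false
set_option linter.unusedSectionVars false
set_option maxHeartbeats 1000000
set_option synthInstance.maxHeartbeats 400000

universe u

open CategoryTheory CategoryTheory.Limits AlgebraicGeometry Opposite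

noncomputable section

namespace Groth.Agent.EtPur

/-- adjoining an `n`-th root of unity to a ring in which `n` is invertible -/
theorem exists_zeta (A : Type u) [CommRing A] {n : ℕ} (h0 : 0 < n) (hu : IsUnit (n : A)) :
    ∃ (A' : Type u) (_ : CommRing A') (_ : Algebra A A') (ζ : A'),
      Etale (Spec.map (CommRingCat.ofHom (algebraMap A A'))) ∧
        Function.Surjective (Spec.map (CommRingCat.ofHom (algebraMap A A'))) ∧
        Polynomial.aeval ζ (Polynomial.cyclotomic n ℤ) = 0 := by
  let F := Polynomial.cyclotomic n A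
  have hF : F.Monic := Polynomial.cyclotomic.monic n A
  have hsep : ((Polynomial.X : Polynomial A) ^ n - 1).Separable := by
    obtain ⟨u, hu'⟩ := hu
    have := Polynomial.separable_X_pow_sub_C_unit (1 : Aˣ) (hu' ▸ u.isUnit : IsUnit (n : A))
    simpa using this
  have hFs : F.Separable := hsep.of_dvd (Polynomial.cyclotomic.dvd_X_pow_sub_one n A)
  haveI : Algebra.Etale A (AdjoinRoot F) := Hensel.etale_adjoinRoot hF hFs
  refine ⟨AdjoinRoot F, inferInstance, inferInstance, AdjoinRoot.root F,
    (HasRingHomProperty.Spec_iff (P := @Etale)).2 (RingHom.etale_algebraMap.2 inferInstance), fun p => ?_, ?_⟩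
  · haveI : Nontrivial A := (p : PrimeSpectrum A).nontrivial
    haveI := hF.finite_adjoinRoot
    have hinj : Function.Injective (algebraMap A (AdjoinRoot F)) := by
      rw [injective_iff_map_eq_zero]
      intro a ha
      by_contra h0'
      refine hF.not_dvd_of_degree_lt (Polynomial.C_ne_zero.2 h0') ?_ (AdjoinRoot.mk_eq_zero.1 ha)
      refine lt_of_le_of_lt Polynomial.degree_C_le ?_
      rw [Polynomial.degree_cyclotomic n A]
      exact_mod_cast Nat.totient_pos.2 h0
    haveI : FaithfulSMul A (AdjoinRoot F) := (faithfulSMul_iff_algebraMap_injective _ _).mpr hinj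
    exact Algebra.IsIntegral.comap_surjective _ _ p
  · rw [← Polynomial.aeval_map_algebraMap A, Polynomial.map_cyclotomic, AdjoinRoot.aeval_eq]
    exact AdjoinRoot.mk_self

/-- **charts of smooth pairs**: locally a smooth pair is pulled back from the origin of affine space -/
theorem exists_chart {A : Type u} [CommRing A] {X Y : Scheme.{u}} (f : X ⟶ Spec (CommRingCat.of A))
    (h : Y ⟶ Spec (CommRingCat.of A)) (i : Y ⟶ X) (m c : ℕ) [SmoothOfRelativeDimension (m + c) f]
    [SmoothOfRelativeDimension m h] [IsClosedImmersion i] (w : i ≫ f = h) (y : Y) :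
    ∃ (W : Scheme.{u}) (e : W ⟶ X) (_ : IsOpenImmersion e)
      (g : W ⟶ Spec (CommRingCat.of (MvPolynomial (Fin c) A))) (_ : Smooth g),
      i.base y ∈ Set.range e.base ∧ e.base ⁻¹' Set.range i.base = g.base ⁻¹' Set.range (origin c A).base := by
  classical
  obtain ⟨_, ⟨W₀, hW₀, rfl⟩, hy, -⟩ :=
    X.isBasis_affineOpens.exists_subset_of_mem_open (Set.mem_univ (i.base y)) isOpen_univ
  let V₀ : Y.Opens := i ⁻¹ᵁ W₀
  have hV₀ : IsAffineOpen V₀ := hW₀.preimage i
  let C := Γ(X, W₀)
  let D := Γ(Y, V₀)
  let φ : A →+* C := ((Scheme.ΓSpecIso (CommRingCat.of A)).inv ≫ f.appLE ⊤ W₀ le_top).hom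
  letI : Algebra A C := φ.toAlgebra
  let π : C →+* D := (i.app W₀).hom
  have hπ : Function.Surjective π := i.app_surjective W₀ hW₀
  let I : Ideal C := RingHom.ker π
  let e : (C ⧸ I) ≃+* D := RingHom.quotientKerEquivOfSurjective hπ
  have hresp : RingHom.RespectsIso (RingHom.Locally (RingHom.IsStandardSmoothOfRelativeDimension (m + c))) :=
    RingHom.locally_respectsIso RingHom.isStandardSmoothOfRelativeDimension_respectsIso
  have hresp' : RingHom.RespectsIso (RingHom.Locally (RingHom.IsStandardSmoothOfRelativeDimension m)) :=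
    RingHom.locally_respectsIso RingHom.isStandardSmoothOfRelativeDimension_respectsIso
  have hfC : (algebraMap A C).Locally (RingHom.IsStandardSmoothOfRelativeDimension (m + c)) := by
    have := hresp.2 (f.appLE ⊤ W₀ le_top).hom (Scheme.ΓSpecIso (CommRingCat.of A)).symm.commRingCatIsoToRingEquiv
      (HasRingHomProperty.appLE (P := @SmoothOfRelativeDimension (m + c)) f inferInstance ⟨⊤, isAffineOpen_top _⟩ ⟨W₀, hW₀⟩ _)
    exact this
  have hfD : (algebraMap A (C ⧸ I)).Locally (RingHom.IsStandardSmoothOfRelativeDimension m) := by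
    have h1 : (π.comp φ).Locally (RingHom.IsStandardSmoothOfRelativeDimension m) := by
      have h2 := hresp'.2 (h.appLE ⊤ V₀ le_top).hom
        (Scheme.ΓSpecIso (CommRingCat.of A)).symm.commRingCatIsoToRingEquiv
        (HasRingHomProperty.appLE (P := @SmoothOfRelativeDimension m) h inferInstance ⟨⊤, isAffineOpen_top _⟩ ⟨V₀, hV₀⟩ _)
      have h3 : f.appLE ⊤ W₀ le_top ≫ i.app W₀ = h.appLE ⊤ V₀ le_top := by
        subst w
        rw [i.app_eq_appLE, Scheme.Hom.appLE_comp_appLE]
      rw [← h3] at h2
      exact h2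
    have h4 := hresp'.1 _ e.symm h1
    convert h4 using 1
    refine RingHom.ext fun a => ?_
    exact (e.symm_apply_apply _).symm.trans (congrArg e.symm (RingHom.quotientKerEquivOfSurjective_apply_mk hπ _))
  haveI : Algebra.Smooth A C := RingHom.smooth_algebraMap.1
    (RingHom.smooth_iff_locally_isStandardSmooth.2 (let ⟨s, hs, hs'⟩ := hfC
      ⟨s, hs, fun t ht => RingHom.IsStandardSmoothOfRelativeDimension.isStandardSmooth _ _ (hs' t ht)⟩))
  haveI : Algebra.Smooth A (C ⧸ I) := RingHom.smooth_algebraMap.1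
    (RingHom.smooth_iff_locally_isStandardSmooth.2 (let ⟨s, hs, hs'⟩ := hfD
      ⟨s, hs, fun t ht => RingHom.IsStandardSmoothOfRelativeDimension.isStandardSmooth _ _ (hs' t ht)⟩))
  -- the image of `i` in the chart
  have hsq : Spec.map (i.app W₀) ≫ hW₀.fromSpec = hV₀.fromSpec ≫ i := by
    rw [i.app_eq_appLE]
    exact IsAffineOpen.SpecMap_appLE_fromSpec i hW₀ hV₀ _
  have hrange : hW₀.fromSpec.base ⁻¹' Set.range i.base = PrimeSpectrum.zeroLocus (I : Set C) := by
    have h1 : Set.range (Spec.map (i.app W₀)).base = PrimeSpectrum.zeroLocus (I : Set C) :=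
      range_comap_of_surjective _ π hπ
    rw [← h1]
    ext x
    constructor
    · rintro ⟨z, hz⟩
      have hzV : z ∈ Set.range hV₀.fromSpec.base := by
        rw [hV₀.range_fromSpec]
        show i.base z ∈ W₀
        rw [hz]
        exact hW₀.range_fromSpec.le ⟨x, rfl⟩
      obtain ⟨z', rfl⟩ := hzV
      refine ⟨z', hW₀.fromSpec.isOpenEmbedding.injective ?_⟩
      exact (congrArg (fun k => k.base z') hsq).trans hz
    · rintro ⟨z, rfl⟩
      exact ⟨hV₀.fromSpec.base z, (congrArg (fun k => k.base z) hsq).symm⟩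
  obtain ⟨x, hx⟩ : i.base y ∈ Set.range hW₀.fromSpec.base := by rw [hW₀.range_fromSpec]; exact hy
  let q : Ideal C := x.asIdeal
  have hq : I ≤ q := by
    have : x ∈ hW₀.fromSpec.base ⁻¹' Set.range i.base := ⟨y, hx.symm⟩
    rw [hrange] at this
    exact this
  obtain ⟨fs, hfsI, hli, s, hs, hsI⟩ := exists_equations I (m := m) (c := c)
    (fun q _ => finrank_kaehler_residueField hfC q) (fun p _ => finrank_kaehler_residueField hfD p) q hq
  let P := MvPolynomial (Fin c) A
  letI : Algebra P C := (MvPolynomial.aeval fs).toRingHom.toAlgebra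
  haveI : IsScalarTower A P C := IsScalarTower.of_algebraMap_eq fun a => ((MvPolynomial.aeval fs).commutes a).symm
  haveI : Algebra.FinitePresentation P C := Algebra.FinitePresentation.of_restrict_scalars_finitePresentation A P C
  haveI hFS : Algebra.FormallySmooth P (Localization.AtPrime q) :=
    formallySmooth_atPrime_of_linearIndependent fs q hli rfl
  obtain ⟨t, ht, hts⟩ : ∃ t ∉ q, (PrimeSpectrum.basicOpen t : Set (PrimeSpectrum C)) ⊆ Algebra.smoothLocus P C := by
    obtain ⟨_, ⟨_, ⟨t, rfl⟩, rfl⟩, hxt, hts⟩ :=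
      PrimeSpectrum.isBasis_basic_opens.exists_subset_of_mem_open
        (show (x : PrimeSpectrum C) ∈ Algebra.smoothLocus P C from hFS) Algebra.isOpen_smoothLocus
    exact ⟨t, hxt, hts⟩
  let R := Localization.Away (s * t)
  haveI hsm : Algebra.Smooth P R := Algebra.basicOpen_subset_smoothLocus_iff_smooth.1
    (subset_trans (PrimeSpectrum.basicOpen_mul_le_right s t) hts)
  let ι : Spec (CommRingCat.of R) ⟶ Spec C := Spec.map (CommRingCat.ofHom (algebraMap C R))
  haveI : IsOpenImmersion ι := IsOpenImmersion.of_isLocalization (s * t)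
  let g : Spec (CommRingCat.of R) ⟶ Spec (CommRingCat.of P) := Spec.map (CommRingCat.ofHom (algebraMap P R))
  haveI hg : Smooth g := (HasRingHomProperty.Spec_iff (P := @Smooth)).2 (RingHom.smooth_algebraMap.2 hsm)
  refine ⟨_, ι ≫ hW₀.fromSpec, inferInstance, g, hg, ?_, ?_⟩
  · obtain ⟨z, hz⟩ : (x : PrimeSpectrum C) ∈ Set.range (PrimeSpectrum.comap (algebraMap C R)) := by
      rw [PrimeSpectrum.localization_away_comap_range R (s * t)]
      exact fun hmem => ((x.isPrime).mem_or_mem hmem).elim hs ht
    exact ⟨z, (congrArg hW₀.fromSpec.base hz).trans hx⟩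
  · rw [range_origin]
    rw [Scheme.Hom.comp_base, TopCat.coe_comp, Set.preimage_comp]
    rw [hrange]
    ext z
    let z' : PrimeSpectrum R := z
    show (I : Set C) ⊆ (z'.asIdeal.comap (algebraMap C R) : Set C) ↔
      Set.range (MvPolynomial.X : Fin c → P) ⊆ (z'.asIdeal.comap (algebraMap P R) : Set P)
    have hX : ∀ k, algebraMap P R (MvPolynomial.X k) = algebraMap C R (fs k) := fun k => by
      rw [IsScalarTower.algebraMap_apply P C R]
      exact congrArg _ (MvPolynomial.aeval_X fs k)
    constructor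
    · rintro hI _ ⟨k, rfl⟩
      show algebraMap P R (MvPolynomial.X k) ∈ z'.asIdeal
      rw [hX]
      exact hI (hfsI k)
    · intro hk a ha
      have h1 : s * a ∈ z'.asIdeal.comap (algebraMap C R) := by
        refine (Ideal.span_le.2 ?_) (hsI a ha)
        rintro _ ⟨k, rfl⟩
        show algebraMap C R (fs k) ∈ z'.asIdeal
        rw [← hX]
        exact hk ⟨k, rfl⟩
      refine ((inferInstance : (z'.asIdeal.comap (algebraMap C R)).IsPrime).mem_or_mem h1).resolve_left fun hsz => ?_
      refine z'.isPrime.ne_top (Ideal.eq_top_of_isUnit_mem _ hsz ?_)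
      exact isUnit_of_mul_isUnit_left (y := algebraMap C R t)
        (by rw [← map_mul]; exact IsLocalization.Away.algebraMap_isUnit (s * t))

end Groth.Agent.EtPur
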