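import Groth.Agent.EtPur.Univ
import Groth.Agent.EtDepthX.Const
import Mathlib

/-!
# Purity for finite constant coefficients
-/

set_option autoImplicit false
set_option backward.isDefEq.respectTransparency false
set_option backward.isDefEq.respectTransparency.types false
set_option linter.style.haveILetI false
set_option linter.unusedSectionVars false
set_option maxHeartbeats 1000000
set_option synthInstance.maxHeartbeats 400000

universe u

open CategoryTheory CategoryTheory.Limits AlgebraicGeometry Opposite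

noncomputable section

namespace Groth.Agent.EtPur

/-- powers of roots of unity -/
theorem aeval_cyclotomic_pow {R : Type u} [CommRing R] {k d : ℕ} (hk : 0 < k) (hd : 0 < d) (ζ : R)
    (h : Polynomial.aeval ζ (Polynomial.cyclotomic (k * d) ℤ) = 0) :
    Polynomial.aeval (ζ ^ k) (Polynomial.cyclotomic d ℤ) = 0 := by
  have hne : k * d ≠ 0 := (Nat.mul_pos hk hd).ne'
  let μ : ℂ := Complex.exp (2 * Real.pi * Complex.I / ((k * d : ℕ) : ℂ))
  have hμ : IsPrimitiveRoot μ (k * d) := Complex.isPrimitiveRoot_exp _ hne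
  have h0 : Polynomial.aeval μ ((Polynomial.cyclotomic d ℤ).comp (Polynomial.X ^ k)) = 0 := by
    rw [Polynomial.aeval_comp, map_pow, Polynomial.aeval_X, Polynomial.aeval_def, ← Polynomial.eval_map,
      Polynomial.map_cyclotomic]
    haveI : NeZero (d : ℂ) := ⟨Nat.cast_ne_zero.2 hd.ne'⟩
    exact Polynomial.isRoot_cyclotomic_iff.2 (hμ.pow (Nat.mul_pos hk hd) rfl)
  have hdvd : Polynomial.cyclotomic (k * d) ℤ ∣ (Polynomial.cyclotomic d ℤ).comp (Polynomial.X ^ k) := by
    rw [Polynomial.cyclotomic_eq_minpoly hμ (Nat.mul_pos hk hd)]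
    exact minpoly.isIntegrallyClosed_dvd (hμ.isIntegral (Nat.mul_pos hk hd)) h0
  obtain ⟨q, hq⟩ := hdvd
  have := congrArg (Polynomial.aeval ζ) hq
  rwa [Polynomial.aeval_comp, map_pow, Polynomial.aeval_X, map_mul, h, zero_mul] at this

variable {X Y U : Scheme.{u}} {i : Y ⟶ X} {j : U ⟶ X} [IsClosedImmersion i] [IsOpenImmersion j]
  [EtCoh.BCCont i] [EtCoh.BCCont j] {c : ℕ}

theorem Purity.of_iso {F G : EtCoh.Ab X} (h : Purity i j c F) (e : F ≅ G) : Purity i j c G := by
  refine ⟨fun q hq => (h.1 q hq).of_iso ((EtDual.locCoh j q).mapIso e.symm), ?_⟩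
  obtain ⟨a⟩ := h.2
  exact ⟨(EtDual.locCoh j (2 * c)).mapIso e.symm ≪≫ a ≪≫ (EtCoh.push i).mapIso ((EtCoh.pull i).mapIso e)⟩

/-- purity passes to finite direct sums -/
theorem Purity.biproduct {ι : Type} [Finite ι] (G : ι → EtCoh.Ab X) (h : ∀ a, Purity i j c (G a)) :
    Purity i j c (⨁ G) := by
  haveI : ∀ q, (EtDual.locCoh j q).Additive := fun q =>
    inferInstanceAs (((EtDual.secSupp j).rightDerived q).Additive)
  haveI : (EtCoh.pull i).Additive := (EtCoh.pullPushAdj i).left_adjoint_additive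
  haveI : (EtCoh.push i).Additive := (EtCoh.pullPushAdj i).right_adjoint_additive
  classical
  refine ⟨fun q hq => ?_, ?_⟩
  · refine IsZero.of_iso ?_ ((EtDual.locCoh j q).mapBiproduct G)
    rw [IsZero.iff_id_eq_zero]
    exact biproduct.hom_ext' _ _ fun a => ((h a).1 q hq).eq_of_src _ _
  · let e := fun a => (h a).2.some
    exact ⟨(EtDual.locCoh j (2 * c)).mapBiproduct G ≪≫ biproduct.mapIso (fun a => e a) ≪≫
      ((EtCoh.pull i ⋙ EtCoh.push i).mapBiproduct G).symm⟩

/-- finite coefficient groups killed by `n` from cyclic ones -/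
theorem purity_const {n : ℕ} (h0 : 0 < n) (hc : ∀ d, 0 < d → d ∣ n → Purity i j c (EtCoh.const X (ZMod d)))
    (M : Type) [AddCommGroup M] [Finite M] (hM : ∀ m : M, n • m = 0) : Purity i j c (EtCoh.const X M) := by
  classical
  obtain ⟨ι, fι, p, hp, e, ⟨σ⟩⟩ := AddCommGroup.equiv_directSum_zmod_of_finite M
  let Φ := constantSheaf X.smallEtaleTopology AddCommGrpCat.{u + 1}
  haveI : Φ.Additive := Functor.additive_of_preserves_binary_products _
  let g : ι → AddCommGrpCat.{u + 1} := fun a => AddCommGrpCat.of (ULift.{u + 1} (ZMod (p a ^ e a)))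
  let pr : ∀ a, AddCommGrpCat.of (ULift.{u + 1} M) ⟶ g a := fun a =>
    AddCommGrpCat.ofHom (AddEquiv.ulift.symm.toAddMonoidHom.comp
      ((DFinsupp.evalAddMonoidHom (β := fun a => ZMod (p a ^ e a)) a).comp
        (σ.toAddMonoidHom.comp AddEquiv.ulift.toAddMonoidHom)))
  let inc : ∀ a, g a ⟶ AddCommGrpCat.of (ULift.{u + 1} M) := fun a =>
    AddCommGrpCat.ofHom (AddEquiv.ulift.symm.toAddMonoidHom.comp
      (σ.symm.toAddMonoidHom.comp ((DirectSum.of (fun a => ZMod (p a ^ e a)) a).comp
        AddEquiv.ulift.toAddMonoidHom)))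
  let e' : AddCommGrpCat.of (ULift.{u + 1} M) ≅ ⨁ g :=
    { hom := biproduct.lift pr
      inv := biproduct.desc inc
      hom_inv_id := by
        rw [biproduct.lift_desc]
        apply AddCommGrpCat.hom_ext
        refine AddMonoidHom.ext fun x => ?_
        rw [show (∑ a, pr a ≫ inc a).hom = ∑ a, (pr a ≫ inc a).hom from map_sum AddCommGrpCat.homAddEquiv _ _,
          AddMonoidHom.finsetSum_apply]
        show ∑ a, ULift.up (σ.symm (DirectSum.of (fun a => ZMod (p a ^ e a)) a ((σ x.down) a))) = x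
        apply ULift.ext
        refine ((map_sum (AddEquiv.ulift : ULift.{u + 1} M ≃+ M).toAddMonoidHom _ _).trans ?_)
        show ∑ a, σ.symm (DirectSum.of (fun a => ZMod (p a ^ e a)) a _) = _
        rw [← map_sum]
        exact (congrArg σ.symm (DirectSum.sum_univ_of (σ x.down))).trans (σ.symm_apply_apply _)
      inv_hom_id := by
        refine biproduct.hom_ext _ _ fun b => biproduct.hom_ext' _ _ fun a => ?_
        rw [Category.assoc, biproduct.lift_π, biproduct.ι_desc_assoc, Category.id_comp]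
        apply AddCommGrpCat.hom_ext
        refine AddMonoidHom.ext fun x => ?_
        show ULift.up ((σ (σ.symm (DirectSum.of (fun a => ZMod (p a ^ e a)) a x.down))) b) = _
        rw [σ.apply_symm_apply]
        by_cases hab : a = b
        · subst hab
          rw [biproduct.ι_π_self, DirectSum.of_eq_same]
          rfl
        · rw [biproduct.ι_π_ne _ hab, DirectSum.of_eq_of_ne _ _ _ (Ne.symm hab)]
          rfl }
  refine (Purity.biproduct (fun a => Φ.obj (g a)) fun a => hc _ (pow_pos (hp a).pos _) ?_).of_iso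
    ((Φ.mapBiproduct g).symm ≪≫ Φ.mapIso e'.symm)
  rw [← ZMod.natCast_eq_zero_iff]
  have h1 := congrArg (fun m => σ m a) (hM (σ.symm (DirectSum.of (fun a => ZMod (p a ^ e a)) a 1)))
  simp only [map_nsmul, map_zero, σ.apply_symm_apply] at h1
  rw [DFinsupp.smul_apply, DirectSum.of_eq_same, nsmul_one] at h1
  exact h1

/-- purity for the origin of affine space and finite coefficients -/
theorem purity_univ_const {n : ℕ} (h0 : 0 < n) (c : ℕ) (A : Type u) [CommRing A] (hn : IsUnit (n : A)) (ζ : A)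
    (hζ : Polynomial.aeval ζ (Polynomial.cyclotomic n ℤ) = 0) (hc : 0 < c)
    (M : Type) [AddCommGroup M] [Finite M] (hM : ∀ m : M, n • m = 0) :
    Purity (origin c A) (offOrigin c A).ι c (EtCoh.const _ M) := by
  refine purity_const h0 (fun d hd hdn => ?_) M hM
  obtain ⟨k, rfl⟩ := hdn
  have hk : 0 < k := Nat.pos_of_ne_zero fun hk => by simp [hk] at h0
  refine purity_univ hd c A ?_ (ζ ^ k) (aeval_cyclotomic_pow hk hd ζ (Nat.mul_comm k d ▸ hζ)) hc
  exact isUnit_of_mul_isUnit_left (y := (k : A)) (by rw [← Nat.cast_mul]; exact hn)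

end Groth.Agent.EtPur
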