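import Groth.Agent.EtPur.Kills
import Groth.Agent.RDerLib.LES
import Groth.Agent.EtPushStalk.UnivInj
import Mathlib

/-!
# Composition of supports
-/

set_option autoImplicit false
set_option backward.isDefEq.respectTransparency false
set_option backward.isDefEq.respectTransparency.types false
set_option linter.style.haveILetI false
set_option linter.unusedSectionVars false
set_option maxHeartbeats 1000000
set_option synthInstance.maxHeartbeats 400000

universe u

open CategoryTheory CategoryTheory.Limits AlgebraicGeometry Opposite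

noncomputable section

namespace Groth.Agent.EtPur

variable {X UY UZ : Scheme.{u}} (jY : UY ⟶ X) (jZ : UZ ⟶ X) [IsOpenImmersion jY] [IsOpenImmersion jZ]
  [EtCoh.BCCont jY] [EtCoh.BCCont jZ] (h : Set.range jZ.base ⊆ Set.range jY.base)

include h in
/-- sheaves extended from a smaller open have no sections with support off a bigger one -/
theorem isZero_secSupp_push (M : EtCoh.Ab UZ) : IsZero ((EtDual.secSupp jY).obj ((EtCoh.push jZ).obj M)) := by
  haveI : Mono (EtDual.unitApp jY ((EtCoh.push jZ).obj M)) := by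
    refine Preadditive.mono_of_kernel_zero ?_
    refine Sheaf.hom_ext (NatTrans.ext (funext fun T => ?_))
    ext x
    have h0 : (EtDual.unitApp jY ((EtCoh.push jZ).obj M)).hom.app T
        ((kernel.ι (EtDual.unitApp jY ((EtCoh.push jZ).obj M))).hom.app T x) = 0 :=
      congr($(kernel.condition (EtDual.unitApp jY ((EtCoh.push jZ).obj M))).hom.app T x)
    have hr : Set.range (𝟙 UZ : UZ ⟶ UZ).base = jZ.base ⁻¹' Set.range jY.base := by
      rw [Set.preimage_eq_univ_iff.2 h]
      simp
    have h1 := (unit_push_eq_zero_iff jY jZ (𝟙 UZ) hr M T.unop _).1 h0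
    rw [unit_app_eq_zero_iff] at h1
    haveI := EtMV.isOpenImmersion_counit (𝟙 UZ) ((EtCoh.bc jZ).obj T.unop)
    obtain ⟨g, hg⟩ := exists_fac (𝟙 ((EtCoh.bc jZ).obj T.unop))
      ((EtPushStalk.compBcAdj (𝟙 UZ)).counit.app ((EtCoh.bc jZ).obj T.unop)) (by
        erw [range_counit]; intro z _; exact ⟨((EtCoh.bc jZ).obj T.unop).hom.base z, rfl⟩)
    have h2 := congrArg (M.obj.map g.op) h1
    rw [map_zero, ← ConcreteCategory.comp_apply] at h2
    erw [← Functor.map_comp, ← op_comp, hg, M.obj.map_id] at h2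
    exact h2
  exact isZero_kernel_of_mono _

include h in
/-- sections with support off a bigger open vanish if those off a smaller one do -/
theorem isZero_secSupp_of_le (F : EtCoh.Ab X) (hF : IsZero ((EtDual.secSupp jZ).obj F)) :
    IsZero ((EtDual.secSupp jY).obj F) := by
  let κ := kernel.ι (EtDual.unitApp jY F)
  have hk : κ ≫ EtDual.unitApp jZ F = 0 := by
    rw [EtMV.comp_unit_eq_zero_iff]
    intro T s
    have h0 := (EtMV.comp_unit_eq_zero_iff jY κ).1 (kernel.condition _) T s
    haveI := EtMV.isOpenImmersion_counit jY T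
    obtain ⟨g, hg⟩ := exists_fac ((EtPushStalk.compBcAdj jZ).counit.app T)
      ((EtPushStalk.compBcAdj jY).counit.app T) (by
        rw [range_counit, range_counit]; exact Set.preimage_mono h)
    rw [← hg, op_comp, Functor.map_comp]
    refine (ConcreteCategory.comp_apply _ _ _).trans ?_
    erw [h0]
    exact map_zero _
  have hκ : κ = 0 := by
    rw [← kernel.lift_ι (EtDual.unitApp jZ F) κ hk,
      hF.eq_of_tgt (kernel.lift (EtDual.unitApp jZ F) κ hk) 0, zero_comp]
  rw [IsZero.iff_id_eq_zero, ← cancel_mono κ, zero_comp, Category.id_comp]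
  exact hκ

/-- acyclic sequences stay exact after direct image -/
theorem shortExact_map_push {S : ShortComplex (EtCoh.Ab UZ)} (hS : S.ShortExact)
    (h1 : IsZero ((EtCoh.Rpush jZ 1).obj S.X₁)) : (S.map (EtCoh.push jZ)).ShortExact := by
  haveI := hS.mono_f
  haveI : Mono (S.map (EtCoh.push jZ)).f := inferInstanceAs (Mono ((EtCoh.push jZ).map S.f))
  have hex : (S.map (EtCoh.push jZ)).Exact :=
    have hlim : PreservesFiniteLimits (EtCoh.push jZ) := inferInstance
    ((((EtCoh.push jZ).preservesFiniteLimits_tfae.out 3 1 :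
      PreservesFiniteLimits (EtCoh.push jZ) ↔ ∀ (T : ShortComplex (EtCoh.Ab UZ)),
        T.Exact ∧ Mono T.f → (T.map (EtCoh.push jZ)).Exact ∧ Mono ((EtCoh.push jZ).map T.f))).1 hlim
      S ⟨hS.exact, hS.mono_f⟩).1
  let L := RDerLib.derivedLES (EtCoh.push jZ)
  haveI : Epi ((EtCoh.Rpush jZ 0).map S.g) :=
    (L.exact₃ S hS 0 1 rfl).epi_f (h1.eq_of_tgt _ _)
  haveI : Epi (S.map (EtCoh.push jZ)).g := by
    have e := (EtCoh.push jZ).rightDerivedZeroIsoSelf.hom.naturality S.g
    have : (EtCoh.push jZ).map S.g = (EtCoh.push jZ).rightDerivedZeroIsoSelf.inv.app S.X₂ ≫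
        (EtCoh.Rpush jZ 0).map S.g ≫ (EtCoh.push jZ).rightDerivedZeroIsoSelf.hom.app S.X₃ := by
      rw [e, Iso.inv_hom_id_app_assoc]
    show Epi ((EtCoh.push jZ).map S.g)
    rw [this]
    infer_instance
  exact { exact := hex }

include h in
/-- no local cohomology off the bigger open for acyclic direct images -/
theorem isZero_locCoh_push : ∀ (p : ℕ) (M : EtCoh.Ab UZ), (∀ q, IsZero ((EtCoh.Rpush jZ (q + 1)).obj M)) →
    IsZero ((EtDual.locCoh jY p).obj ((EtCoh.push jZ).obj M)) := by
  haveI := EtMV.preservesFiniteLimits_secSupp jY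
  intro p
  induction p with
  | zero =>
    intro M _
    exact (isZero_secSupp_push jY jZ h M).of_iso ((EtDual.secSupp jY).rightDerivedZeroIsoSelf.app _)
  | succ p ih =>
    intro M hM
    let S : ShortComplex (EtCoh.Ab UZ) :=
      ShortComplex.mk (Injective.ι M) (cokernel.π _) (cokernel.condition _)
    have hS : S.ShortExact := { exact := ShortComplex.exact_of_g_is_cokernel _ (cokernelIsCokernel _) }
    have hQ : ∀ q, IsZero ((EtCoh.Rpush jZ (q + 1)).obj S.X₃) := fun q =>
      ((RDerLib.derivedLES (EtCoh.push jZ)).exact₃ S hS (q + 1) (q + 2) rfl).isZero_X₂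
        ((Functor.isZero_rightDerived_obj_injective_succ _ q (Injective.under M)).eq_of_src _ _)
        ((hM (q + 1)).eq_of_tgt _ _)
    have hS' := shortExact_map_push jZ hS (hM 0)
    haveI : Injective (S.map (EtCoh.push jZ)).X₂ := EtPullExact.push_injective jZ (Injective.under M)
    obtain ⟨e⟩ := EtMV.nonempty_shift_iso (EtDual.secSupp jY) _ hS'
      (isZero_secSupp_push jY jZ h _) p
    exact (ih S.X₃ hQ).of_iso e.symm

include h in
/-- **composition of supports** when the inner local cohomology is in one degree -/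
theorem composite : ∀ (r : ℕ) (F : EtCoh.Ab X), (∀ q, q ≠ r → IsZero ((EtDual.locCoh jZ q).obj F)) →
    (∀ p < r, IsZero ((EtDual.locCoh jY p).obj F)) ∧
      ∀ p, Nonempty ((EtDual.locCoh jY p).obj ((EtDual.locCoh jZ r).obj F) ≅
        (EtDual.locCoh jY (p + r)).obj F) := by
  haveI := EtMV.preservesFiniteLimits_secSupp jY
  haveI := EtMV.preservesFiniteLimits_secSupp jZ
  intro r
  induction r with
  | zero =>
    intro F hF
    refine ⟨fun p hp => absurd hp (Nat.not_lt_zero _), fun p => ?_⟩
    obtain ⟨e1⟩ := EtMV.nonempty_locCoh_one jZ F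
    haveI : Epi (EtDual.unitApp jZ F) := Preadditive.epi_of_cokernel_zero
      (((hF 1 one_ne_zero).of_iso e1).eq_of_tgt _ _)
    haveI := EtMV.mono_lcι jZ F
    let S : ShortComplex (EtCoh.Ab X) := ShortComplex.mk ((EtMV.lcι jZ).app F) ((EtMV.lcη jZ).app F)
      (by rw [← NatTrans.comp_app, EtMV.lcι_lcη]; rfl)
    have hS : S.ShortExact := { exact := EtMV.exact_lc jZ F }
    have hM : ∀ q, IsZero ((EtCoh.Rpush jZ (q + 1)).obj ((EtCoh.pull jZ).obj F)) := fun q => by
      obtain ⟨e⟩ := EtMV.nonempty_locCoh_succ jZ F (q + 1) (by omega)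
      exact (hF (q + 2) (by omega)).of_iso e
    have h3 : ∀ q, IsZero ((EtDual.locCoh jY q).obj S.X₃) := fun q => isZero_locCoh_push jY jZ h q _ hM
    let L := RDerLib.derivedLES (EtDual.secSupp jY)
    haveI : IsIso ((EtDual.locCoh jY p).map S.f) := by
      haveI : Epi ((EtDual.locCoh jY p).map S.f) := (L.exact₂ S hS p).epi_f ((h3 p).eq_of_tgt _ _)
      haveI : Mono ((EtDual.locCoh jY p).map S.f) := by
        cases p with
        | zero =>
          have := (EtDual.secSupp jY).rightDerivedZeroIsoSelf.hom.naturality S.f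
          have e : (EtDual.locCoh jY 0).map S.f = (EtDual.secSupp jY).rightDerivedZeroIsoSelf.hom.app S.X₁ ≫
              (EtDual.secSupp jY).map S.f ≫ (EtDual.secSupp jY).rightDerivedZeroIsoSelf.inv.app S.X₂ := by
            rw [← reassoc_of% this]; simp [EtDual.locCoh]
          haveI : Mono S.f := hS.mono_f
          rw [e]; infer_instance
        | succ p => exact (L.exact₁ S hS p (p + 1) rfl).mono_g ((h3 p).eq_of_src _ _)
      exact isIso_of_mono_of_epi _
    exact ⟨(EtDual.locCoh jY p).mapIso ((EtDual.secSupp jZ).rightDerivedZeroIsoSelf.app F) ≪≫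
      asIso ((EtDual.locCoh jY p).map S.f)⟩
  | succ r ih =>
    intro F hF
    have h0 : IsZero ((EtDual.secSupp jZ).obj F) :=
      (hF 0 (by omega)).of_iso ((EtDual.secSupp jZ).rightDerivedZeroIsoSelf.app F).symm
    haveI : Mono (EtDual.unitApp jZ F) := Preadditive.mono_of_kernel_zero (h0.eq_of_src _ _)
    let J := Injective.under ((EtCoh.pull jZ).obj F)
    let I := (EtCoh.push jZ).obj J
    haveI : Injective I := EtPullExact.push_injective jZ J
    let f : F ⟶ I := EtDual.unitApp jZ F ≫ (EtCoh.push jZ).map (Injective.ι _)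
    let S : ShortComplex (EtCoh.Ab X) := ShortComplex.mk f (cokernel.π f) (cokernel.condition f)
    have hS : S.ShortExact := { exact := ShortComplex.exact_of_g_is_cokernel _ (cokernelIsCokernel f) }
    haveI : Injective S.X₂ := ‹Injective I›
    have hIZ : IsZero ((EtDual.secSupp jZ).obj I) := isZero_secSupp_push jZ jZ subset_rfl J
    have hIY : IsZero ((EtDual.secSupp jY).obj I) := isZero_secSupp_push jY jZ h J
    have hQ : ∀ q, q ≠ r → IsZero ((EtDual.locCoh jZ q).obj S.X₃) := fun q hq => by
      obtain ⟨e⟩ := EtMV.nonempty_shift_iso (EtDual.secSupp jZ) S hS hIZ q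
      exact (hF (q + 1) (by omega)).of_iso e
    obtain ⟨i1, i2⟩ := ih S.X₃ hQ
    refine ⟨fun p hp => ?_, fun p => ?_⟩
    · cases p with
      | zero => exact (isZero_secSupp_of_le jY jZ h F h0).of_iso ((EtDual.secSupp jY).rightDerivedZeroIsoSelf.app F)
      | succ p =>
        obtain ⟨e⟩ := EtMV.nonempty_shift_iso (EtDual.secSupp jY) S hS hIY p
        exact (i1 p (by omega)).of_iso e.symm
    · obtain ⟨eZ⟩ := EtMV.nonempty_shift_iso (EtDual.secSupp jZ) S hS hIZ r
      obtain ⟨eY⟩ := EtMV.nonempty_shift_iso (EtDual.secSupp jY) S hS hIY (p + r)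
      obtain ⟨e⟩ := i2 p
      exact ⟨(EtDual.locCoh jY p).mapIso eZ.symm ≪≫ e ≪≫ eY⟩

/-- direct image along closed immersions is exact -/
theorem preservesFiniteColimits_push_closed {Z : Scheme.{u}} (s : Z ⟶ X) [IsClosedImmersion s] :
    PreservesFiniteColimits (EtCoh.push s) := by
  haveI : PreservesFiniteLimits (EtCoh.push s) :=
    haveI : (EtCoh.push s).IsRightAdjoint := (EtCoh.pullPushAdj s).isRightAdjoint
    inferInstance
  have := EtPushStalk.push_epi s
  have := (EtCoh.push s).preservesHomology_of_preservesEpis_and_kernels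
  exact Functor.preservesFiniteColimits_of_preservesHomology _

variable {Z U' : Scheme.{u}} (s : Z ⟶ X) [IsClosedImmersion s] (j' : U' ⟶ Z) [IsOpenImmersion j']
  [EtCoh.BCCont j'] [EtCoh.BCCont s] (hr : Set.range j'.base = s.base ⁻¹' Set.range jY.base)

include hr in
/-- local cohomology of sheaves on a closed subscheme -/
theorem nonempty_locCoh_closed (M : EtCoh.Ab Z) (p : ℕ) :
    Nonempty ((EtCoh.push s).obj ((EtDual.locCoh j' p).obj M) ≅
      (EtDual.locCoh jY p).obj ((EtCoh.push s).obj M)) := by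
  haveI : PreservesFiniteColimits (EtCoh.push s) := preservesFiniteColimits_push_closed s
  haveI : PreservesFiniteLimits (EtCoh.push s) :=
    haveI : (EtCoh.push s).IsRightAdjoint := (EtCoh.pullPushAdj s).isRightAdjoint
    inferInstance
  haveI := EtMV.preservesFiniteLimits_secSupp jY
  obtain ⟨a⟩ := GrothSS.nonempty_rightDerived_comp_exact (EtDual.secSupp j') (EtCoh.push s) p M
  obtain ⟨b⟩ := GrothSS.nonempty_rightDerived_comp_acyclic_nat (EtCoh.push s) (EtDual.secSupp jY)
    (fun Q hQ q => by
      haveI := hQ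
      haveI : Injective ((EtCoh.push s).obj Q) := EtPullExact.push_injective s Q
      exact Functor.isZero_rightDerived_obj_injective_succ _ q _) p
  exact ⟨a.symm ≪≫ (GrothSS.rightDerivedMapIso (suppPushIso jY s j' hr) p).app M ≪≫ b.app M⟩

end Groth.Agent.EtPur
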