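import Groth.Agent.EtPur.Kills
import Groth.Agent.EtDepthX.Fibre
import Groth.Agent.EtStrictLoc.Main
import Groth.Agent.EtStalk.Pullback
import Groth.Agent.LAcyc.ConstRpush
import Mathlib

/-!
# Local cohomology along a strictly local closed subscheme
-/

set_option autoImplicit false
set_option backward.isDefEq.respectTransparency false
set_option backward.isDefEq.respectTransparency.types false
set_option linter.style.haveILetI false
set_option linter.unusedSectionVars false
set_option maxHeartbeats 1000000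
set_option synthInstance.maxHeartbeats 400000

universe u

open CategoryTheory CategoryTheory.Limits AlgebraicGeometry Opposite IsLocalRing

noncomputable section

namespace Groth.Agent.EtPur

open EtStrictLoc (Γtop)

attribute [local instance 100000] EtCoh.H._proof_1 Groth.Agent.EtMV.hext
attribute [local instance 200000] Groth.Agent.EtMV.hextAb

variable {X U : Scheme.{u}} (j : U ⟶ X) [IsOpenImmersion j] [EtCoh.BCCont j]

/-- sections with support vanish on the open -/
theorem zeroAt_secSupp (F : EtCoh.Ab X) {x : X} (hx : x ∈ Set.range j.base) :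
    EtPBC.ZeroAt ((EtDual.secSupp j).obj F) x := by
  intro V s v hv
  refine (EtSect.mem_iff _ s v).2 ⟨_, (EtPushStalk.compBcAdj j).counit.app V, ?_, ?_⟩
  · erw [range_counit]
    show V.hom.base v ∈ Set.range j.base
    rw [show V.hom.base v = x from hv]
    exact hx
  · have h0 := (EtMV.comp_unit_eq_zero_iff j (kernel.ι (EtDual.unitApp j F))).1 (kernel.condition _) V s
    haveI : Mono ((kernel.ι (EtDual.unitApp j F)).hom.app
        (op ((EtShriek.compEtale j).obj ((EtCoh.bc j).obj V)))) := by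
      haveI : Mono ((sheafToPresheaf X.smallEtaleTopology AddCommGrpCat.{u + 1}).map
        (kernel.ι (EtDual.unitApp j F))) := inferInstance
      exact (NatTrans.mono_iff_mono_app _).1 this _
    refine (AddCommGrpCat.mono_iff_injective
      ((kernel.ι (EtDual.unitApp j F)).hom.app _)).1 this ?_
    rw [map_zero]
    refine Eq.trans ?_ h0
    exact ConcreteCategory.congr_hom
      ((kernel.ι (EtDual.unitApp j F)).hom.naturality ((EtPushStalk.compBcAdj j).counit.app V).op) s

/-- global sections of a direct image -/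
def topPushIso {Y : Scheme.{u}} (f : Y ⟶ X) [EtCoh.BCCont f] : EtCoh.push f ⋙ Γtop X ≅ Γtop Y :=
  NatIso.ofComponents (fun F => F.obj.mapIso (EtCore.bcTopIso f).op.symm) (fun {F G} φ => by
    simp only [Functor.comp_map, Functor.mapIso_hom, Iso.symm_hom]
    exact (φ.hom.naturality _).symm)

variable (R : Type u) [CommRing R] [HenselianLocalRing R] [IsSepClosed (ResidueField R)]

/-- global sections over a strictly henselian local ring are the stalk at the closed point -/
def topStalkIso : Γtop (Spec (CommRingCat.of R)) ≅ EtCoh.stalk (EtHens.pt R) :=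
  NatIso.ofComponents
    (fun F => (AddEquiv.ofBijective
      ((Scheme.pointSmallEtale (EtHens.pt R)).toPresheafFiber (EtCoh.top _) (EtHens.pt₀ R) F.obj).hom
      (EtHens.bijective_germ R F)).toAddCommGrpIso)
    (fun {F G} φ => by
      ext x
      exact (GrothendieckTopology.Point.toPresheafFiber_naturality_apply _ φ.hom _ _ x).symm)

variable (y : Spec (CommRingCat.of R) ⟶ X) [IsClosedImmersion y] [EtCoh.BCCont y]
  (hy : (Set.range y.base)ᶜ ⊆ Set.range j.base)

/-- the stalk at the closed point of the subscheme -/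
abbrev stalkY : EtCoh.Ab X ⥤ AddCommGrpCat.{u + 1} := EtCoh.stalk (EtHens.pt R ≫ y)

/-- sections over `X` of sheaves on `Spec R` are stalks -/
def topPullIso : EtCoh.pull y ⋙ EtCoh.push y ⋙ Γtop X ≅ stalkY R y :=
  Functor.isoWhiskerLeft (EtCoh.pull y) (topPushIso y ≪≫ topStalkIso R) ≪≫
    (EtStalk.stalkPullIso y (EtHens.pt R)).symm

include hy in
/-- global sections with supports in a strictly local subscheme are a stalk -/
theorem nonempty_suppTopIso : Nonempty (EtDual.secSupp j ⋙ Γtop X ≅ EtDual.secSupp j ⋙ stalkY R y) := by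
  let α : EtDual.secSupp j ⋙ Γtop X ⟶ EtDual.secSupp j ⋙ EtCoh.pull y ⋙ EtCoh.push y ⋙ Γtop X :=
    Functor.whiskerLeft (EtDual.secSupp j) (Functor.whiskerRight (EtCoh.pullPushAdj y).unit (Γtop X))
  haveI : IsIso α := by
    haveI : ∀ F, IsIso (α.app F) := fun F => by
      haveI : IsIso ((EtCoh.pullPushAdj y).unit.app ((EtDual.secSupp j).obj F)) :=
        EtDepthX.isIso_unit_of_support y _ fun x hx => zeroAt_secSupp j F (hy hx)
      exact inferInstanceAs (IsIso ((Γtop X).map ((EtCoh.pullPushAdj y).unit.app ((EtDual.secSupp j).obj F))))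
    exact NatIso.isIso_of_isIso_app _
  exact ⟨asIso α ≪≫ Functor.isoWhiskerLeft (EtDual.secSupp j) (topPullIso R y)⟩

include hy in
/-- derived sections with supports -/
theorem nonempty_suppTop_derived [(EtDual.secSupp j ⋙ Γtop X).Additive] (q : ℕ) (F : EtCoh.Ab X) :
    Nonempty (((EtDual.secSupp j ⋙ Γtop X).rightDerived q).obj F ≅
      (stalkY R y).obj ((EtDual.locCoh j q).obj F)) := by
  obtain ⟨e⟩ := nonempty_suppTopIso j R y hy
  haveI : (stalkY R y).Additive := Functor.additive_of_preserves_binary_products _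
  obtain ⟨a⟩ := GrothSS.nonempty_rightDerived_comp_exact (EtDual.secSupp j) (stalkY R y) q F
  exact ⟨(GrothSS.rightDerivedMapIso e q).app F ≪≫ a⟩

omit [IsClosedImmersion y] in
/-- cohomology with supports between the scheme and the open -/
theorem nonempty_suppTop_H (q : ℕ) (F : EtCoh.Ab X)
    (h0 : Subsingleton (EtCoh.H U ((EtCoh.pull j).obj F) (q + 1)))
    (h1 : Subsingleton (EtCoh.H U ((EtCoh.pull j).obj F) (q + 2))) :
    Nonempty ((((EtDual.secSupp j ⋙ Γtop X)).rightDerived (q + 2)).obj F ≅ (EtCoh.HF X (q + 2)).obj F) := by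
  let α : EtDual.secSupp j ⋙ Γtop X ⟶ 𝟭 (EtCoh.Ab X) ⋙ Γtop X := Functor.whiskerRight (EtMV.lcι j) (Γtop X)
  let γ : 𝟭 (EtCoh.Ab X) ⋙ Γtop X ⟶ EtMV.pp j ⋙ Γtop X := Functor.whiskerRight (EtMV.lcη j) (Γtop X)
  have w : α ≫ γ = 0 := by
    ext F : 2
    show (Γtop X).map _ ≫ (Γtop X).map _ = 0
    rw [← Functor.map_comp, ← NatTrans.comp_app, EtMV.lcι_lcη]
    exact (Γtop X).map_zero _ _
  haveI : PreservesFiniteLimits (Γtop X) := preservesFiniteLimits_of_natIso (EtStrictLoc.secIso X)
  have hs : ∀ I : EtCoh.Ab X, Injective I → (ShortComplex.mk (α.app I) (γ.app I)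
      (by rw [← NatTrans.comp_app, w]; rfl)).ShortExact := fun I hI => by
    haveI := hI
    have h := EtMV.shortExact_lc j I hI
    haveI := h.mono_f
    haveI : Mono (α.app I) := inferInstanceAs (Mono ((Γtop X).map ((EtMV.lcι j).app I)))
    haveI : Epi (γ.app I) := (AddCommGrpCat.epi_iff_surjective _).2 (EtMV.unit_surjective j I (EtCoh.top X))
    have hex := ((Γtop X).preservesFiniteLimits_tfae.out 3 1 :
      PreservesFiniteLimits (Γtop X) ↔ ∀ (T : ShortComplex (EtCoh.Ab X)),
        T.Exact ∧ Mono T.f → (T.map (Γtop X)).Exact ∧ Mono ((Γtop X).map T.f)).1 ‹_› _ ⟨h.exact, h.mono_f⟩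
    exact { exact := hex.1 }
  obtain ⟨δ, hδ⟩ := EtMV.exists_les₁ α γ w hs F
  have hE : ∀ n, Nonempty (((EtMV.pp j ⋙ Γtop X).rightDerived n).obj F ≅
      (EtCoh.HF U n).obj ((EtCoh.pull j).obj F)) := fun n => by
    haveI := EtPullExact.pull_preservesFiniteLimits j
    haveI := EtMV.pull_etale_preservesInjective j
    haveI : PreservesFiniteLimits (Γtop U) := preservesFiniteLimits_of_natIso (EtStrictLoc.secIso U)
    obtain ⟨b⟩ := GrothSS.nonempty_rightDerived_comp_acyclic_nat (EtCoh.pull j) (Γtop U)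
      (fun Q hQ q => by
        haveI := hQ
        haveI : Injective ((EtCoh.pull j).obj Q) := (EtCoh.pull j).injective_obj Q
        exact Functor.isZero_rightDerived_obj_injective_succ _ q _) n
    let e : EtMV.pp j ⋙ Γtop X ≅ EtCoh.pull j ⋙ Γtop U :=
      Functor.associator _ _ _ ≪≫ Functor.isoWhiskerLeft _ (topPushIso j)
    exact ⟨(GrothSS.rightDerivedMapIso e n).app F ≪≫ b.app F ≪≫ (EtStrictLoc.derivedSec U n).app _⟩
  obtain ⟨e1⟩ := hE (q + 1)
  obtain ⟨e2⟩ := hE (q + 2)
  haveI : Subsingleton (((EtCoh.HF U (q + 1)).obj ((EtCoh.pull j).obj F) : AddCommGrpCat.{u + 1})) := h0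
  haveI : Subsingleton (((EtCoh.HF U (q + 2)).obj ((EtCoh.pull j).obj F) : AddCommGrpCat.{u + 1})) := h1
  haveI : Mono ((NatTrans.rightDerived α (q + 2)).app F) :=
    ((hδ (q + 1)).2.2.exact 0).mono_g (((AddCommGrpCat.isZero_of_subsingleton _).of_iso e1).eq_of_src _ _)
  haveI : Epi ((NatTrans.rightDerived α (q + 2)).app F) :=
    ((hδ (q + 2)).1.exact 0).epi_f (((AddCommGrpCat.isZero_of_subsingleton _).of_iso e2).eq_of_tgt _ _)
  haveI : IsIso ((NatTrans.rightDerived α (q + 2)).app F) := isIso_of_mono_of_epi _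
  exact ⟨asIso ((NatTrans.rightDerived α (q + 2)).app F) ≪≫
    (GrothSS.rightDerivedMapIso (Functor.leftUnitor (Γtop X)) (q + 2)).app F ≪≫
      (EtStrictLoc.derivedSec X (q + 2)).app F⟩

include hy in
/-- **local cohomology at the closed point is the cohomology of the ambient scheme** when the open has none -/
theorem nonempty_stalk_locCoh (q : ℕ) (F : EtCoh.Ab X)
    (h0 : Subsingleton (EtCoh.H U ((EtCoh.pull j).obj F) (q + 1)))
    (h1 : Subsingleton (EtCoh.H U ((EtCoh.pull j).obj F) (q + 2))) :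
    Nonempty ((stalkY R y).obj ((EtDual.locCoh j (q + 2)).obj F) ≅ (EtCoh.HF X (q + 2)).obj F) := by
  obtain ⟨a⟩ := nonempty_suppTop_derived j R y hy (q + 2) F
  obtain ⟨b⟩ := nonempty_suppTop_H j q F h0 h1
  exact ⟨a.symm ≪≫ b⟩

end Groth.Agent.EtPur
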