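import Groth.Agent.EtPur.P1Chart
import Groth.Agent.EtPur.Supp
import Groth.Agent.EtDepthX.BaseChange
import Groth.Agent.EtPBC.AffineLef
import Groth.Agent.S0754
import Mathlib

/-!
# Higher direct images from the line into the projective line
-/

set_option autoImplicit false
set_option backward.isDefEq.respectTransparency false
set_option backward.isDefEq.respectTransparency.types false
set_option linter.style.haveILetI false
set_option linter.unusedSectionVars false
set_option maxHeartbeats 1000000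
set_option synthInstance.maxHeartbeats 400000

universe u

open CategoryTheory CategoryTheory.Limits AlgebraicGeometry Opposite IsLocalRing

noncomputable section

namespace Groth.Agent.EtPur

attribute [local instance 100000] EtCoh.H._proof_1 Groth.Agent.EtMV.hext
attribute [local instance 200000] Groth.Agent.EtMV.hextAb

instance quasiCompact_lineC (A : Type u) [CommRing A] (i : Fin (1 + 1)) : QuasiCompact (lineC A i) := by
  haveI : QuasiCompact (lineC A i ≫ CohB1.ProjSpaceOver.toBase 1 (Spec (CommRingCat.of A))) := by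
    rw [lineC_toBase]; infer_instance
  exact QuasiCompact.of_comp (lineC A i) (CohB1.ProjSpaceOver.toBase 1 (Spec (CommRingCat.of A)))

section Strict

variable (R : Type u) [CommRing R] [HenselianLocalRing R] [IsSepClosed (ResidueField R)] {n : ℕ}

/-- **stalks of the direct images at infinity over a strictly henselian ring** -/
theorem stalk_rpush_inf (h0 : 0 < n) (hn : IsUnit (n : R)) (q : ℕ) :
    Nonempty ((stalkY R (infSect R)).obj ((EtCoh.Rpush (lineC R 0) (q + 1)).obj (EtCoh.const _ (ZMod n))) ≅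
      (EtCoh.HF (P1X R) (q + 2)).obj (EtCoh.const _ (ZMod n))) := by
  have hy : (Set.range (infSect R).base)ᶜ ⊆ Set.range (lineC R 0).base := by
    rw [range_infSect, compl_compl]
  have hs : ∀ p, Subsingleton (EtCoh.H (Spec (CommRingCat.of (Polynomial R)))
      ((EtCoh.pull (lineC R 0)).obj (EtCoh.const (P1X R) (ZMod n))) (p + 1)) := fun p =>
    EtPBC.subsingleton_H_of_iso (EtCore.pullConst (lineC R 0) (ZMod n)).symm _ (subsingleton_H_line R h0 hn p)
  obtain ⟨e⟩ := nonempty_stalk_locCoh (lineC R 0) R (infSect R) hy q (EtCoh.const (P1X R) (ZMod n)) (hs q) (hs (q + 1))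
  obtain ⟨a⟩ := EtMV.nonempty_locCoh_succ (lineC R 0) (EtCoh.const (P1X R) (ZMod n)) (q + 1) (by omega)
  exact ⟨(stalkY R (infSect R)).mapIso ((EtCoh.Rpush (lineC R 0) (q + 1)).mapIso
    (EtCore.pullConst (lineC R 0) (ZMod n)).symm ≪≫ a) ≪≫ e⟩

end Strict

variable (A : Type u) [CommRing A] {n : ℕ}

theorem toP1_fst' {S T : Scheme.{u}} (g : S ⟶ T) :
    P1.toP1 g ≫ pullback.fst (CohB1.ProjSpace.toSpec 1 (ULift.{u} ℤ)) (specULiftZIsTerminal.from T) =
      pullback.fst _ _ := (pullback.lift_fst _ _ _).trans (Category.comp_id _)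

/-- **stalks of the direct images at infinity** -/
theorem exists_stalk_rpush_inf (h0 : 0 < n) (hn : IsUnit (n : A)) (a : Spec (CommRingCat.of A)) (q : ℕ) :
    ∃ (Ω : Type u) (_ : Field Ω) (_ : IsSepClosed Ω) (ξ : Spec (CommRingCat.of Ω) ⟶ P1X A),
      ξ.base (default : Spec (CommRingCat.of Ω)) = (infSect A).base a ∧
      ∃ (R : Type u) (_ : CommRing R) (_ : HenselianLocalRing R) (_ : IsSepClosed (ResidueField R)),
        IsUnit (n : R) ∧
        Nonempty ((EtCoh.stalk ξ).obj ((EtCoh.Rpush (lineC A 0) (q + 1)).obj (EtCoh.const _ (ZMod n))) ≅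
          (EtCoh.HF (P1X R) (q + 2)).obj (EtCoh.const _ (ZMod n))) := by
  obtain ⟨R, _, _, _, _, hR⟩ := EtBCQ.exists_sh ((Spec (CommRingCat.of A)).presheaf.stalk a)
  haveI : HenselianLocalRing R := hR.henselian
  haveI : IsSepClosed (ResidueField R) := hR.isSepClosure.1
  let g := Hens2.specOf (Spec (CommRingCat.of A)) a R
  haveI : WeaklyEtale g := S0754.result (Spec (CommRingCat.of A)) a R
  let φ : P1X R ⟶ P1X A := P1.toP1 g
  haveI : WeaklyEtale φ :=
    MorphismProperty.of_isPullback (P := @WeaklyEtale) (P1FinClopen.toP1_pullbackSquare g).flip ‹_›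
  have hnR : IsUnit (n : R) := by
    have h := hn.map (Spec.preimage g).hom
    rwa [map_natCast] at h
  have hpre : φ.base ⁻¹' Set.range (lineC A 0).base = Set.range (lineC R 0).base := by
    rw [range_lineC, range_lineC, ← Set.preimage_comp, ← TopCat.coe_comp, ← Scheme.Hom.comp_base]
    exact congrArg (fun f : P1X R ⟶ _ => f.base ⁻¹' _) (toP1_fst' g)
  let eU := IsOpenImmersion.lift (lineC A 0) (lineC R 0 ≫ φ) (by
    rintro _ ⟨z, rfl⟩
    exact hpre.ge ⟨z, rfl⟩)
  have hfac : eU ≫ lineC A 0 = lineC R 0 ≫ φ := IsOpenImmersion.lift_fac _ _ _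
  have sq : IsPullback eU (lineC R 0) (lineC A 0) φ :=
    IsOpenImmersion.isPullback eU (lineC R 0) (lineC A 0) φ hfac.symm (TopologicalSpace.Opens.ext hpre)
  haveI := EtPullExact.pull_preservesFiniteLimits eU
  haveI := EtDepthX.isIso_bcQ_weaklyEtale φ (lineC A 0) (lineC R 0) eU sq
    (EtCoh.const (Spec (CommRingCat.of (Polynomial A))) (ZMod n)) (q + 1)
  let bc := asIso (EtBC.bcQ (lineC A 0) φ (lineC R 0) eU sq.w (q + 1)
    (EtCoh.const (Spec (CommRingCat.of (Polynomial A))) (ZMod n)))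
  obtain ⟨e⟩ := stalk_rpush_inf R h0 hnR q
  refine ⟨ResidueField R, inferInstance, inferInstance, (EtHens.pt R ≫ infSect R) ≫ φ, ?_,
    R, inferInstance, inferInstance, inferInstance, hnR,
    ⟨(EtStalk.stalkPullIso φ (EtHens.pt R ≫ infSect R)).app _ ≪≫
      (stalkY R (infSect R)).mapIso (bc ≪≫ (EtCoh.Rpush (lineC R 0) (q + 1)).mapIso
        (EtCore.pullConst eU (ZMod n))) ≪≫ e⟩⟩
  let c := closedPoint R
  show φ.base ((infSect R).base ((EtHens.pt R).base default)) = _
  rw [show (EtHens.pt R).base default = c from LAcyc.pt_default R]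
  have hout : φ.base ((infSect R).base c) ∉ Set.range (lineC A 0).base := fun h =>
    (range_infSect R).le ⟨c, rfl⟩ (hpre.le h)
  obtain ⟨a', ha'⟩ := (range_infSect A).ge hout
  have hp : (CohB1.ProjSpaceOver.toBase 1 (Spec (CommRingCat.of A))).base (φ.base ((infSect R).base c)) = a := by
    rw [← Scheme.Hom.comp_apply, ← Scheme.Hom.comp_apply, (P1FinClopen.toP1_pullbackSquare g).w,
      reassoc_of% (infSect_toBase R)]
    exact EtPBC.specOf_closedPoint a R
  rw [← ha'] at hp ⊢
  rw [← Scheme.Hom.comp_apply, infSect_toBase] at hp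
  exact congrArg (infSect A).base hp

/-- **no higher direct images from degree two on** -/
theorem isZero_rpush_lineC (h0 : 0 < n) (hn : IsUnit (n : A)) (q : ℕ) :
    IsZero ((EtCoh.Rpush (lineC A 0) (q + 2)).obj (EtCoh.const _ (ZMod n))) := by
  refine EtPBC.isZero_of_zeroAt _ fun z => ?_
  by_cases hz : z ∈ Set.range (lineC A 0).base
  · exact EtPBC.zeroAt_Rpush_openImmersion (lineC A 0) _ (q + 1) hz
  obtain ⟨a, rfl⟩ := (range_infSect A).ge hz
  obtain ⟨Ω, _, _, ξ, hξ, R, _, _, _, hnR, ⟨e⟩⟩ := exists_stalk_rpush_inf A h0 hn a (q + 1)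
  refine (EtPBC.isZero_stalk_iff_zeroAt hξ _).1 ?_
  exact (@AddCommGrpCat.isZero_of_subsingleton _ (subsingleton_H_P1 R h0 q)).of_iso e

/-- **the stalks of the first direct image at infinity have order `n`** -/
theorem exists_stalk_rpush_one (h0 : 0 < n) (hn : IsUnit (n : A)) (a : Spec (CommRingCat.of A)) :
    ∃ (Ω : Type u) (_ : Field Ω) (_ : IsSepClosed Ω) (ξ : Spec (CommRingCat.of Ω) ⟶ P1X A),
      ξ.base (default : Spec (CommRingCat.of Ω)) = (infSect A).base a ∧
      Nonempty (((EtCoh.stalk ξ).obj ((EtCoh.Rpush (lineC A 0) 1).obj (EtCoh.const _ (ZMod n))) :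
        AddCommGrpCat.{u + 1}) ≃+ ZMod n) := by
  obtain ⟨Ω, _, _, ξ, hξ, R, _, _, _, hnR, ⟨e⟩⟩ := exists_stalk_rpush_inf A h0 hn a 0
  obtain ⟨e'⟩ := nonempty_H2_P1 R h0 hnR
  exact ⟨Ω, inferInstance, inferInstance, ξ, hξ, ⟨e.addCommGroupIsoToAddEquiv.trans e'⟩⟩

end Groth.Agent.EtPur
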