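import Groth.Agent.EtPur.Chart
import Groth.Agent.EtPur.ChartScheme
import Groth.Agent.EtPur.EqClass
import Groth.Agent.Hensel.Smooth
import Groth.Agent.TauTriv.Power
import Mathlib

/-!
# Local equations of smooth divisors
-/

set_option autoImplicit false
set_option backward.isDefEq.respectTransparency false
set_option backward.isDefEq.respectTransparency.types false
set_option linter.style.haveILetI false
set_option linter.unusedSectionVars false
set_option maxHeartbeats 1000000
set_option synthInstance.maxHeartbeats 400000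

universe u

open CategoryTheory CategoryTheory.Limits AlgebraicGeometry Opposite TensorProduct
open Groth.Agent.QC (resO)

noncomputable section

namespace Groth.Agent.EtPur

/-- the closed point of the spectrum of power series over a field, as a point -/
abbrev psPt (Ω : Type u) [Field Ω] : Spec (CommRingCat.of Ω) ⟶ Spec (CommRingCat.of (PowerSeries Ω)) :=
  Spec.map (CommRingCat.ofHom (PowerSeries.constantCoeff (R := Ω)))

/-- a local equation of a closed subscheme -/
structure LocEq {X Y : Scheme.{u}} (i : Y ⟶ X) (W : X.Opens) (t : Γ(X, W)) : Prop where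
  vanish : i.app W t = 0
  off : ∀ z ∈ W, z ∉ Set.range i.base → z ∈ X.basicOpen t
  ker : ∀ (y : Y) (hy : i.base y ∈ W),
    RingHom.ker (i.stalkMap y).hom ≤ Ideal.span {X.presheaf.germ W (i.base y) hy t}
  arc : ∀ (Ω : Type u) [Field Ω] (ξ : Spec (CommRingCat.of Ω) ⟶ X),
    ξ.base (default : Spec (CommRingCat.of Ω)) ∈ W → ξ.base (default : Spec (CommRingCat.of Ω)) ∈ Set.range i.base →
    ∃ v : Spec (CommRingCat.of (PowerSeries Ω)) ⟶ W.toScheme, psPt Ω ≫ v ≫ W.ι = ξ ∧
      v.appTop (W.topIso.inv t) = (Scheme.ΓSpecIso (CommRingCat.of (PowerSeries Ω))).inv PowerSeries.X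

variable {X Y S : Scheme.{u}}

/-- local equations exist for smooth divisors -/
theorem exists_locEq (f : X ⟶ S) (h : Y ⟶ S) (i : Y ⟶ X) (m : ℕ) [SmoothOfRelativeDimension (m + 1) f]
    [SmoothOfRelativeDimension m h] [IsClosedImmersion i] (w : i ≫ f = h) (y₀ : Y) :
    ∃ (W : X.Opens) (t : Γ(X, W)), i.base y₀ ∈ W ∧ LocEq i W t := by
  classical
  obtain ⟨_, ⟨U₀, hU₀, rfl⟩, hsU, -⟩ :=
    S.isBasis_affineOpens.exists_subset_of_mem_open (Set.mem_univ (f.base (i.base y₀))) isOpen_univ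
  obtain ⟨_, ⟨W₀, hW₀, rfl⟩, hy, hle⟩ :=
    X.isBasis_affineOpens.exists_subset_of_mem_open (show i.base y₀ ∈ f ⁻¹ᵁ U₀ from hsU) (f ⁻¹ᵁ U₀).isOpen
  let V₀ : Y.Opens := i ⁻¹ᵁ W₀
  have hV₀ : IsAffineOpen V₀ := hW₀.preimage i
  let A := Γ(S, U₀)
  let C := Γ(X, W₀)
  let D := Γ(Y, V₀)
  have hle' : W₀ ≤ f ⁻¹ᵁ U₀ := hle
  let φ : A →+* C := (f.appLE U₀ W₀ hle').hom
  letI : Algebra A C := φ.toAlgebra
  let π : C →+* D := (i.app W₀).hom
  have hπ : Function.Surjective π := i.app_surjective W₀ hW₀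
  let I : Ideal C := RingHom.ker π
  let e : (C ⧸ I) ≃+* D := RingHom.quotientKerEquivOfSurjective hπ
  have hresp : RingHom.RespectsIso (RingHom.Locally (RingHom.IsStandardSmoothOfRelativeDimension m)) :=
    RingHom.locally_respectsIso RingHom.isStandardSmoothOfRelativeDimension_respectsIso
  have hfC : (algebraMap A C).Locally (RingHom.IsStandardSmoothOfRelativeDimension (m + 1)) :=
    HasRingHomProperty.appLE (P := @SmoothOfRelativeDimension (m + 1)) f inferInstance ⟨U₀, hU₀⟩ ⟨W₀, hW₀⟩ hle'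
  have hfD : (algebraMap A (C ⧸ I)).Locally (RingHom.IsStandardSmoothOfRelativeDimension m) := by
    have h1 : (π.comp φ).Locally (RingHom.IsStandardSmoothOfRelativeDimension m) := by
      have hVU : V₀ ≤ h ⁻¹ᵁ U₀ := by
        rw [← w]
        exact fun z hz => hle' hz
      have h2 := HasRingHomProperty.appLE (P := @SmoothOfRelativeDimension m) h inferInstance ⟨U₀, hU₀⟩ ⟨V₀, hV₀⟩ hVU
      have h3 : f.appLE U₀ W₀ hle' ≫ i.app W₀ = h.appLE U₀ V₀ hVU := by
        subst w
        rw [i.app_eq_appLE, Scheme.Hom.appLE_comp_appLE]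
      rw [← h3] at h2
      exact h2
    have h4 := hresp.1 _ e.symm h1
    convert h4 using 1
    refine RingHom.ext fun a => ?_
    exact (e.symm_apply_apply _).symm.trans (congrArg e.symm (RingHom.quotientKerEquivOfSurjective_apply_mk hπ _))
  haveI : Algebra.Smooth A C := RingHom.smooth_algebraMap.1
    (RingHom.smooth_iff_locally_isStandardSmooth.2 (let ⟨s, hs, hs'⟩ := hfC
      ⟨s, hs, fun t ht => RingHom.IsStandardSmoothOfRelativeDimension.isStandardSmooth _ _ (hs' t ht)⟩))
  haveI : Algebra.Smooth A (C ⧸ I) := RingHom.smooth_algebraMap.1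
    (RingHom.smooth_iff_locally_isStandardSmooth.2 (let ⟨s, hs, hs'⟩ := hfD
      ⟨s, hs, fun t ht => RingHom.IsStandardSmoothOfRelativeDimension.isStandardSmooth _ _ (hs' t ht)⟩))
  let x₀ : PrimeSpectrum C := hW₀.primeIdealOf ⟨i.base y₀, hy⟩
  let q : Ideal C := x₀.asIdeal
  have hunit : ∀ (z : X) (hz : z ∈ W₀) (a : C),
      IsUnit (X.presheaf.germ W₀ z hz a) ↔ a ∉ (hW₀.primeIdealOf ⟨z, hz⟩).asIdeal := fun z hz a => by
    rw [← Scheme.mem_basicOpen X a z hz, ← hW₀.fromSpec_image_basicOpen]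
    constructor
    · rintro ⟨p, hp, hpz⟩
      have : p = hW₀.primeIdealOf ⟨z, hz⟩ :=
        hW₀.fromSpec.isOpenEmbedding.injective (hpz.trans (hW₀.fromSpec_primeIdealOf ⟨z, hz⟩).symm)
      rw [← this]
      exact hp
    · exact fun ha => ⟨_, ha, hW₀.fromSpec_primeIdealOf ⟨z, hz⟩⟩
  have hIq : ∀ (y : Y) (hy' : i.base y ∈ W₀), I ≤ (hW₀.primeIdealOf ⟨i.base y, hy'⟩).asIdeal := fun y hy' a ha => by
    by_contra hc
    have h1 := ((hunit _ hy' a).2 hc).map (i.stalkMap y).hom
    rw [Scheme.Hom.germ_stalkMap_apply] at h1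
    rw [show (i.app W₀).hom a = 0 from ha, map_zero] at h1
    exact not_isUnit_zero h1
  obtain ⟨fs, hfsI, hli, s, hs, hsI⟩ := exists_equations I (m := m) (c := 1)
    (fun q _ => finrank_kaehler_residueField hfC q) (fun p _ => finrank_kaehler_residueField hfD p) q (hIq y₀ hy)
  let P := MvPolynomial (Fin 1) A
  letI : Algebra P C := (MvPolynomial.aeval fs).toRingHom.toAlgebra
  haveI : IsScalarTower A P C := IsScalarTower.of_algebraMap_eq fun a => ((MvPolynomial.aeval fs).commutes a).symm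
  haveI : Algebra.FinitePresentation P C := Algebra.FinitePresentation.of_restrict_scalars_finitePresentation A P C
  haveI hFS : Algebra.FormallySmooth P (Localization.AtPrime q) :=
    formallySmooth_atPrime_of_linearIndependent fs q hli rfl
  obtain ⟨t₀, ht₀, hts⟩ : ∃ t ∉ q, (PrimeSpectrum.basicOpen t : Set (PrimeSpectrum C)) ⊆ Algebra.smoothLocus P C := by
    obtain ⟨_, ⟨_, ⟨t, rfl⟩, rfl⟩, hxt, hts⟩ :=
      PrimeSpectrum.isBasis_basic_opens.exists_subset_of_mem_open
        (show x₀ ∈ Algebra.smoothLocus P C from hFS) Algebra.isOpen_smoothLocus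
    exact ⟨t, hxt, hts⟩
  let R := Localization.Away (s * t₀)
  haveI hsm : Algebra.Smooth P R := Algebra.basicOpen_subset_smoothLocus_iff_smooth.1
    (subset_trans (PrimeSpectrum.basicOpen_mul_le_right s t₀) hts)
  let W : X.Opens := X.basicOpen (s * t₀ : C)
  have hWW₀ : W ≤ W₀ := X.basicOpen_le _
  let t : Γ(X, W) := resO X hWW₀ (fs 0)
  have hst : ∀ (z : X) (hz : z ∈ W), IsUnit (X.presheaf.germ W₀ z (hWW₀ hz) s) := fun z hz => by
    have h1 := (Scheme.mem_basicOpen X (s * t₀ : C) z (hWW₀ hz)).1 hz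
    rw [map_mul] at h1
    exact isUnit_of_mul_isUnit_left h1
  have hgerm : ∀ (z : X) (hz : z ∈ W), X.presheaf.germ W z hz t = X.presheaf.germ W₀ z (hWW₀ hz) (fs 0) :=
    fun z hz => TopCat.Presheaf.germ_res_apply X.presheaf (homOfLE hWW₀) z hz _
  have hspan : ∀ a ∈ I, ∃ r : C, s * a = r * fs 0 := fun a ha => by
    have h1 := hsI a ha
    rw [Set.range_unique, Ideal.mem_span_singleton'] at h1
    obtain ⟨r, hr⟩ := h1
    exact ⟨r, hr.symm⟩
  refine ⟨W, t, (Scheme.mem_basicOpen X _ _ hy).2 ?_, ⟨?_, ?_, ?_, ?_⟩⟩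
  · exact (hunit _ hy _).2 fun hmem => (x₀.isPrime.mem_or_mem hmem).elim hs ht₀
  · show (i.app W).hom ((X.presheaf.map (homOfLE hWW₀).op).hom (fs 0)) = 0
    refine (ConcreteCategory.congr_hom (i.naturality (homOfLE hWW₀).op) (fs 0)).trans ?_
    show (Y.presheaf.map _).hom ((i.app W₀).hom (fs 0)) = 0
    rw [show (i.app W₀).hom (fs 0) = 0 from hfsI 0, map_zero]
  · intro z hz hzi
    have hzW₀ := hWW₀ hz
    obtain ⟨a, haI, ha⟩ : ∃ a ∈ I, IsUnit (X.presheaf.germ W₀ z hzW₀ a) := by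
      by_contra! hc
      refine hzi ?_
      have hI : (I : Set C) ⊆ (hW₀.primeIdealOf ⟨z, hzW₀⟩).asIdeal := fun a ha =>
        not_not.1 fun h' => hc a ha ((hunit z hzW₀ a).2 h')
      obtain ⟨p, hp⟩ : (hW₀.primeIdealOf ⟨z, hzW₀⟩) ∈ Set.range (PrimeSpectrum.comap π) := by
        rw [range_comap_of_surjective _ π hπ]
        exact hI
      refine ⟨hV₀.fromSpec.base p, ?_⟩
      have hsq : Spec.map (i.app W₀) ≫ hW₀.fromSpec = hV₀.fromSpec ≫ i := by
        rw [i.app_eq_appLE]
        exact IsAffineOpen.SpecMap_appLE_fromSpec i hW₀ hV₀ _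
      refine (congrArg (fun k => k.base p) hsq).symm.trans ?_
      exact (congrArg hW₀.fromSpec.base hp).trans (hW₀.fromSpec_primeIdealOf ⟨z, hzW₀⟩)
    obtain ⟨r, hr⟩ := hspan a haI
    refine (Scheme.mem_basicOpen X t z hz).2 ?_
    rw [hgerm]
    have h1 : IsUnit (X.presheaf.germ W₀ z hzW₀ (s * a)) := by rw [map_mul]; exact (hst z hz).mul ha
    rw [hr, map_mul] at h1
    exact isUnit_of_mul_isUnit_right h1
  · intro y hy' g hg
    have hyW₀ : i.base y ∈ W₀ := hWW₀ hy'
    rw [hgerm]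
    letI := X.presheaf.algebra_section_stalk (⟨i.base y, hyW₀⟩ : W₀)
    letI := Y.presheaf.algebra_section_stalk (⟨y, hyW₀⟩ : V₀)
    haveI := hW₀.isLocalization_stalk ⟨i.base y, hyW₀⟩
    haveI := hV₀.isLocalization_stalk ⟨y, hyW₀⟩
    obtain ⟨⟨a, b⟩, hab⟩ := IsLocalization.surj (hW₀.primeIdealOf ⟨i.base y, hyW₀⟩).asIdeal.primeCompl g
    replace hab : g * X.presheaf.germ W₀ (i.base y) hyW₀ (b : C) = X.presheaf.germ W₀ (i.base y) hyW₀ a := hab
    have hb : IsUnit (X.presheaf.germ W₀ (i.base y) hyW₀ (b : C)) := (hunit _ hyW₀ _).2 b.2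
    have hπa : Y.presheaf.germ V₀ y hyW₀ (π a) = 0 := by
      have h1 := congrArg (i.stalkMap y).hom hab
      rw [map_mul, show (i.stalkMap y).hom g = 0 from hg, zero_mul, Scheme.Hom.germ_stalkMap_apply] at h1
      exact h1.symm
    obtain ⟨⟨d, hd⟩, hda⟩ := (IsLocalization.map_eq_zero_iff (hV₀.primeIdealOf ⟨y, hyW₀⟩).asIdeal.primeCompl
      (Y.presheaf.stalk y) (π a)).1 hπa
    obtain ⟨c, rfl⟩ := hπ d
    have hc : IsUnit (X.presheaf.germ W₀ (i.base y) hyW₀ c) := by
      refine IsUnit.of_map (i.stalkMap y).hom _ ?_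
      rw [Scheme.Hom.germ_stalkMap_apply]
      exact IsLocalization.map_units (Y.presheaf.stalk y) (⟨π c, hd⟩ : (hV₀.primeIdealOf ⟨y, hyW₀⟩).asIdeal.primeCompl)
    obtain ⟨r, hr⟩ := hspan (c * a) (show π (c * a) = 0 by rw [map_mul]; exact hda)
    refine Ideal.mem_span_singleton.2 ?_
    have hu : IsUnit (X.presheaf.germ W₀ (i.base y) hyW₀ (s * c * (b : C))) := by
      rw [map_mul, map_mul]
      exact ((hst _ hy').mul hc).mul hb
    rw [← hu.dvd_mul_left, mul_comm _ g]
    refine ⟨X.presheaf.germ W₀ (i.base y) hyW₀ r, ?_⟩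
    rw [map_mul, map_mul, mul_comm (X.presheaf.germ W₀ (i.base y) hyW₀ (fs 0)), ← map_mul _ r (fs 0), ← hr,
      map_mul, map_mul, ← hab]
    ring
  · intro Ω _ ξ hξW hξi
    have hr : Set.range ξ.base ⊆ Set.range hW₀.fromSpec.base := by
      rw [hW₀.range_fromSpec]
      rintro _ ⟨p, rfl⟩
      rw [Unique.eq_default p]
      exact hWW₀ hξW
    let ξ₁ := IsOpenImmersion.lift hW₀.fromSpec ξ hr
    obtain ⟨θ', hθ'⟩ := Spec.map_surjective ξ₁
    let θ : C →+* Ω := θ'.hom
    have hθ : Spec.map θ' ≫ hW₀.fromSpec = ξ := by rw [hθ']; exact IsOpenImmersion.lift_fac _ _ hr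
    have hker : (hW₀.primeIdealOf ⟨_, hWW₀ hξW⟩).asIdeal = RingHom.ker θ := by
      have h1 : hW₀.primeIdealOf ⟨_, hWW₀ hξW⟩ = (Spec.map θ').base default :=
        hW₀.fromSpec.isOpenEmbedding.injective
          ((hW₀.fromSpec_primeIdealOf ⟨_, hWW₀ hξW⟩).trans (congrArg (fun k => k.base default) hθ).symm)
      rw [h1]
      let p : PrimeSpectrum Ω := (default : Spec (CommRingCat.of Ω))
      show p.asIdeal.comap θ'.hom = _
      rw [show p.asIdeal = ⊥ from
        (Ideal.eq_bot_or_top _).resolve_right p.isPrime.ne_top, ← RingHom.ker_eq_comap_bot]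
    have hθu : IsUnit (θ (s * t₀)) := by
      have h1 := (hunit _ (hWW₀ hξW) _).1 ((Scheme.mem_basicOpen X _ _ (hWW₀ hξW)).1 hξW)
      rw [hker, RingHom.mem_ker] at h1
      exact (show θ (s * t₀) ≠ 0 from h1).isUnit
    have hθf : θ (fs 0) = 0 := by
      obtain ⟨y', hy'⟩ := hξi
      have h1 := hfsI 0
      have hy'W : i.base y' ∈ W₀ := hy'.symm ▸ hWW₀ hξW
      have h2 := hIq y' hy'W h1
      rw [show (hW₀.primeIdealOf ⟨i.base y', hy'W⟩) = hW₀.primeIdealOf ⟨_, hWW₀ hξW⟩ from
        congrArg _ (Subtype.ext hy'), hker] at h2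
      exact h2
    let θR : R →+* Ω := IsLocalization.Away.lift (s * t₀) hθu
    have hθR : ∀ a, θR (algebraMap C R a) = θ a := fun a => IsLocalization.Away.lift_eq _ _ a
    let D' := PowerSeries Ω
    let Xs : D' := PowerSeries.X
    let cA : A →+* D' := (PowerSeries.C (R := Ω)).comp (θ.comp φ)
    letI : Algebra A D' := cA.toAlgebra
    letI : Algebra P D' := (MvPolynomial.aeval (fun _ => Xs)).toRingHom.toAlgebra
    let J : Ideal D' := Ideal.span {PowerSeries.X}
    haveI : HenselianRing D' J := inferInstanceAs (HenselianRing (PowerSeries Ω) (Ideal.span {PowerSeries.X}))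
    let ψ : R →ₐ[P] D' ⧸ J :=
      { ((Ideal.Quotient.mk J).comp ((PowerSeries.C (R := Ω)).comp θR)) with
        commutes' := fun p => by
          show ((Ideal.Quotient.mk J).comp ((PowerSeries.C (R := Ω)).comp θR)).comp (algebraMap P R) p =
            ((Ideal.Quotient.mk J).comp (algebraMap P D')) p
          refine DFunLike.congr_fun (MvPolynomial.ringHom_ext (fun a => ?_) fun k => ?_) p
          · show Ideal.Quotient.mk J (PowerSeries.C (θR (algebraMap C R (algebraMap P C (MvPolynomial.C a))))) =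
              Ideal.Quotient.mk J (algebraMap P D' (MvPolynomial.C a))
            rw [hθR, show algebraMap P C (MvPolynomial.C a) = φ a from (MvPolynomial.aeval fs).commutes a,
              show algebraMap P D' (MvPolynomial.C a) = cA a from (MvPolynomial.aeval (fun _ => Xs)).commutes a]
            rfl
          · show Ideal.Quotient.mk J (PowerSeries.C (θR (algebraMap C R (algebraMap P C (MvPolynomial.X k))))) =
              Ideal.Quotient.mk J (algebraMap P D' (MvPolynomial.X k))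
            rw [hθR, show algebraMap P C (MvPolynomial.X k) = fs k from MvPolynomial.aeval_X fs k,
              show algebraMap P D' (MvPolynomial.X k) = Xs from MvPolynomial.aeval_X (fun _ => Xs) k,
              Subsingleton.elim k 0, hθf, map_zero, map_zero, eq_comm, Ideal.Quotient.eq_zero_iff_mem]
            exact Ideal.mem_span_singleton_self _ }
    let σ : D' ⊗[P] R →ₐ[D'] D' ⧸ J :=
      Algebra.TensorProduct.lift (Algebra.ofId D' (D' ⧸ J)) ψ fun _ _ => Commute.all _ _
    obtain ⟨τ, hτ⟩ := Hensel.exists_smooth_lift (A := D') (I := J) (D' ⊗[P] R) σ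
    let τR : R →+* D' := τ.toRingHom.comp (Algebra.TensorProduct.includeRight : R →ₐ[P] D' ⊗[P] R).toRingHom
    have hτc : ∀ r, PowerSeries.constantCoeff (τR r) = θR r := fun r => by
      have h1 : Ideal.Quotient.mk J (τR r) = Ideal.Quotient.mk J (PowerSeries.C (θR r)) := by
        show Ideal.Quotient.mk J (τ ((1 : D') ⊗ₜ[P] r)) = _
        rw [hτ, Algebra.TensorProduct.lift_tmul, map_one, one_mul]
        rfl
      obtain ⟨u', hu'⟩ := Ideal.mem_span_singleton.1 ((Ideal.Quotient.eq).1 h1)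
      have h2 := congrArg (PowerSeries.constantCoeff (R := Ω)) hu'
      rw [map_sub, PowerSeries.constantCoeff_C, map_mul, PowerSeries.constantCoeff_X, zero_mul, sub_eq_zero] at h2
      exact h2
    have hτf : τR (algebraMap C R (fs 0)) = Xs := by
      have e1 : algebraMap C R (fs 0) = algebraMap P R (MvPolynomial.X 0) := by
        rw [IsScalarTower.algebraMap_apply P C R]
        exact (congrArg _ (MvPolynomial.aeval_X fs 0)).symm
      show τ ((1 : D') ⊗ₜ[P] algebraMap C R (fs 0)) = Xs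
      rw [e1, Algebra.algebraMap_eq_smul_one, ← TensorProduct.smul_tmul, Algebra.smul_def, mul_one,
        show algebraMap P D' (MvPolynomial.X 0) = Xs from MvPolynomial.aeval_X (fun _ => Xs) 0]
      exact (τ.commutes Xs)
    let φD : C →+* D' := τR.comp (algebraMap C R)
    let v₀ : Spec (CommRingCat.of D') ⟶ Spec C := Spec.map (CommRingCat.ofHom φD)
    have hvW : Set.range (v₀ ≫ hW₀.fromSpec).base ⊆ Set.range W.ι.base := by
      rw [range_ι]
      rintro _ ⟨p, rfl⟩
      show hW₀.fromSpec.base (v₀.base p) ∈ (X.basicOpen (s * t₀ : C) : Set X)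
      rw [← hW₀.fromSpec_image_basicOpen]
      refine ⟨v₀.base p, ?_, rfl⟩
      let p' : PrimeSpectrum D' := p
      show (s * t₀ : C) ∉ p'.asIdeal.comap φD
      intro hmem
      exact p'.isPrime.ne_top (Ideal.eq_top_of_isUnit_mem _ hmem
        ((IsLocalization.Away.algebraMap_isUnit (s * t₀)).map τR))
    let v := IsOpenImmersion.lift W.ι (v₀ ≫ hW₀.fromSpec) hvW
    have hv : v ≫ W.ι = v₀ ≫ hW₀.fromSpec := IsOpenImmersion.lift_fac _ _ hvW
    refine ⟨v, ?_, ?_⟩
    · rw [hv, ← Category.assoc, ← hθ]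
      refine congrArg (· ≫ hW₀.fromSpec) ?_
      rw [← Spec.map_comp]
      refine congrArg Spec.map (CommRingCat.hom_ext (RingHom.ext fun a => ?_))
      exact (hτc _).trans (hθR a)
    · have hv' : v ≫ X.homOfLE hWW₀ = v₀ ≫ hW₀.isoSpec.inv := by
        rw [← cancel_mono (Scheme.Opens.ι W₀), Category.assoc, Scheme.homOfLE_ι, Category.assoc, IsAffineOpen.isoSpec_inv_ι, hv]
      show v.appTop (W.topIso.inv (resO X hWW₀ (fs 0))) = _
      rw [← topIso_inv_res hWW₀, ← CommRingCat.comp_apply, ← Scheme.Hom.comp_appTop, hv', Scheme.Hom.comp_appTop,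
        CommRingCat.comp_apply, IsAffineOpen.isoSpec_inv_appTop, CommRingCat.comp_apply]
      have e2 : (Scheme.Opens.topIso W₀).hom ((Scheme.Opens.topIso W₀).inv (fs 0)) = fs 0 :=
        ConcreteCategory.congr_hom (Scheme.Opens.topIso W₀).inv_hom_id (fs 0)
      rw [e2]
      refine (ConcreteCategory.congr_hom (Scheme.ΓSpecIso_inv_naturality (CommRingCat.ofHom φD)) (fs 0)).symm.trans ?_
      exact congrArg (Scheme.ΓSpecIso (CommRingCat.of D')).inv hτf

end Groth.Agent.EtPur
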