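import Groth.Agent.EtPur.EqClass
import Groth.Agent.EtPur.LocalEq
import Mathlib

/-!
# The Kummer class of a smooth divisor
-/

set_option autoImplicit false
set_option backward.isDefEq.respectTransparency false
set_option backward.isDefEq.respectTransparency.types false
set_option linter.auxLemma false
set_option linter.style.haveILetI false
set_option linter.unusedSectionVars false
set_option maxHeartbeats 1000000
set_option synthInstance.maxHeartbeats 400000

universe u

open CategoryTheory CategoryTheory.Limits AlgebraicGeometry Opposite IsLocalRing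
open Groth.Agent.EtFLC (res res_res res_id)
open Groth.Agent.EtMV (oo)
open Groth.Agent.EtPicLib
open Groth.Agent.QC (resO)

noncomputable section

namespace Groth.Agent.EtPur

attribute [local instance 100000] EtCoh.H._proof_1 Groth.Agent.EtMV.hext
attribute [local instance 200000] Groth.Agent.EtMV.hextAb

variable {X U : Scheme.{u}} (j : U ⟶ X) [EtCoh.BCCont j] {n : ℕ} (hm : Epi (EtCoh.powMap U n))

/-- **Kummer classes of uniformisers have exact order `n`** -/
theorem dvd_of_nsmul_germ_kumClass (hn : 0 < n) {W : X.Opens} {t : Γ(X, W)} (h : UnitOn j t) {Ω : Type u} [Field Ω]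
    [IsSepClosed Ω] (ξ : Spec (CommRingCat.of Ω) ⟶ X) (p : (Scheme.pointSmallEtale ξ).fiber.obj (oo W))
    (D : Type u) [CommRing D] [IsDomain D] [IsIntegrallyClosed D] [WfDvdMonoid D] [HenselianLocalRing D] (L : Type u) [Field L]
    [Algebra D L] [IsFractionRing D L] (v : Spec (CommRingCat.of D) ⟶ W.toScheme)
    (e : Spec (CommRingCat.of (ResidueField D)) ⟶ Spec (CommRingCat.of Ω)) (he : e ≫ ξ = EtHens.pt D ≫ v ≫ W.ι)
    (m0 : Spec (CommRingCat.of L) ⟶ U)
    (hm0 : m0 ≫ j = Spec.map (CommRingCat.ofHom (algebraMap D L)) ≫ v ≫ W.ι) (ϖ : D) (hϖ : Prime ϖ)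
    (ha : v.appTop (W.topIso.inv t) = (Scheme.ΓSpecIso (CommRingCat.of D)).inv ϖ) (d : ℕ)
    (h0 : d • (Scheme.pointSmallEtale ξ).toPresheafFiber (oo W) p
        ((EtCoh.Rpush j 1).obj (EtCoh.mu U n)).obj (kumClass j hm h) = 0) : n ∣ d := by
  let hS := EtSix.kummerShortExact (X := U) hm
  let G := (EtCoh.push j).obj (EtCoh.Gm U)
  have h2 : (EtCoh.stalk ξ).map (EtPBC.pushDelta j hS) ((Scheme.pointSmallEtale ξ).toPresheafFiber (oo W) p G.obj
      (d • gmSect j h)) = 0 := by
    refine (GrothendieckTopology.Point.toPresheafFiber_naturality_apply (Scheme.pointSmallEtale ξ)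
      (EtPBC.pushDelta j hS).hom _ p _).trans ?_
    rw [map_nsmul, map_nsmul]
    exact h0
  haveI : (EtCoh.stalk ξ).PreservesHomology := Functor.preservesHomologyOfExact _
  obtain ⟨z, hz⟩ := (ShortComplex.ab_exact_iff _).1 ((EtPBC.exact_map_g_pushDelta j hS).map (EtCoh.stalk ξ)) _ h2
  obtain ⟨W₁, v₁, y, rfl⟩ := GrothendieckTopology.Point.toPresheafFiber_jointly_surjective
    (Φ := Scheme.pointSmallEtale ξ) (P := G.obj) z
  have h1 := hz.symm.trans (GrothendieckTopology.Point.toPresheafFiber_naturality_apply (Scheme.pointSmallEtale ξ)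
    ((EtCoh.push j).map (EtCoh.powMap U n)).hom W₁ v₁ y)
  obtain ⟨W', g, g', v', hres⟩ : ∃ (W' : X.Etale) (g : W' ⟶ oo W) (g' : W' ⟶ W₁)
      (_ : (Scheme.pointSmallEtale ξ).fiber.obj W'),
      res G g (d • gmSect j h) = res G g' (((EtCoh.push j).map (EtCoh.powMap U n)).hom.app (op W₁) y) := by
    let c : (Scheme.pointSmallEtale ξ).fiber.Elements :=
      IsCofiltered.min ⟨oo W, p⟩ ⟨W₁, v₁⟩
    let a₁ : c ⟶ (⟨oo W, p⟩ : (Scheme.pointSmallEtale ξ).fiber.Elements) :=
      IsCofiltered.minToLeft _ _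
    let a₂ : c ⟶ (⟨W₁, v₁⟩ : (Scheme.pointSmallEtale ξ).fiber.Elements) := IsCofiltered.minToRight _ _
    have e₁ : (Scheme.pointSmallEtale ξ).toPresheafFiber c.1 c.2 G.obj (res G a₁.1 (d • gmSect j h)) =
        (Scheme.pointSmallEtale ξ).toPresheafFiber (oo W) p G.obj (d • gmSect j h) :=
      (GrothendieckTopology.Point.toPresheafFiber_w_apply (Scheme.pointSmallEtale ξ) a₁.1 c.2 G.obj _).trans
        (congrArg (fun t => (Scheme.pointSmallEtale ξ).toPresheafFiber _ t G.obj (d • gmSect j h)) a₁.2)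
    have e₂ : (Scheme.pointSmallEtale ξ).toPresheafFiber c.1 c.2 G.obj
        (res G a₂.1 (((EtCoh.push j).map (EtCoh.powMap U n)).hom.app (op W₁) y)) =
        (Scheme.pointSmallEtale ξ).toPresheafFiber W₁ v₁ G.obj
          (((EtCoh.push j).map (EtCoh.powMap U n)).hom.app (op W₁) y) :=
      (GrothendieckTopology.Point.toPresheafFiber_w_apply (Scheme.pointSmallEtale ξ) a₂.1 c.2 G.obj _).trans
        (congrArg (fun t => (Scheme.pointSmallEtale ξ).toPresheafFiber W₁ t G.obj _) a₂.2)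
    obtain ⟨W', g, v', -, h3⟩ := (GrothendieckTopology.Point.toPresheafFiber_eq_iff' (Scheme.pointSmallEtale ξ)
      (P := G.obj) c.1 c.2 _ _).mp (e₁.trans (h1.trans e₂.symm))
    refine ⟨W', g ≫ a₁.1, g ≫ a₂.1, v', ?_⟩
    rw [← res_res, ← res_res]
    exact h3
  let bc := EtCoh.bc j
  let U₀ := bc.obj W'
  let y' : EtCoh.sect (EtCoh.Gm U) U₀ := res G g' y
  have hres' : d • res (EtCoh.Gm U) (bc.map g) (gmSect j h) = n • y' := by
    have h4 : res G g' (((EtCoh.push j).map (EtCoh.powMap U n)).hom.app (op W₁) y) = res G g' (n • y) :=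
      congrArg (res G g') (KummerLib.powMap_app n (bc.obj W₁) y)
    rw [h4, map_nsmul, map_nsmul] at hres
    exact hres
  have hW' : (e ≫ v'.left) ≫ W'.hom = EtHens.pt D ≫ v ≫ W.ι := by
    rw [Category.assoc, ← he]
    exact congrArg (e ≫ ·) (Over.w v')
  obtain ⟨α, hα, -⟩ := EtStrictLoc.exists_lift (v ≫ W.ι) W' (e ≫ v'.left) hW'
  have hαg : α ≫ g.left = v := by
    rw [← cancel_mono W.ι, Category.assoc]
    exact (congrArg (α ≫ ·) (MorphismProperty.Over.w g)).trans hα
  let m : Spec (CommRingCat.of L) ⟶ U₀.left :=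
    pullback.lift (Spec.map (CommRingCat.ofHom (algebraMap D L)) ≫ α) m0 (by rw [Category.assoc, hα, hm0])
  let Y : (Γ(U₀.left, ⊤) : Type u)ˣ :=
    ((show ULift.{u + 1} (Additive ((Γ(U₀.left, ⊤) : Type u)ˣ)) from y').down).toMul
  let Z : (Γ(U₀.left, ⊤) : Type u)ˣ :=
    ((show ULift.{u + 1} (Additive ((Γ(U₀.left, ⊤) : Type u)ˣ)) from res (EtCoh.Gm U) (bc.map g) (gmSect j h)).down).toMul
  have hY : Z ^ d = Y ^ n :=
    congrArg (fun t : ULift.{u + 1} (Additive ((Γ(U₀.left, ⊤) : Type u)ˣ)) => t.down.toMul) hres'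
  have hZ : (Z : Γ(U₀.left, ⊤)) = (bc.map g).left.appTop ((pullback.fst W.ι j).appTop (W.topIso.inv t)) := by
    rw [← uval_gmSect j h]
    rfl
  let w : L := (Scheme.ΓSpecIso (CommRingCat.of L)).hom (m.appTop (Y : Γ(U₀.left, ⊤)))
  have hw : w ^ n = algebraMap D L (ϖ ^ d) := by
    have hY' : (Z : Γ(U₀.left, ⊤)) ^ d = (Y : Γ(U₀.left, ⊤)) ^ n := by
      have := congrArg Units.val hY
      rwa [Units.val_pow_eq_pow_val, Units.val_pow_eq_pow_val] at this
    have hmg : m ≫ (bc.map g).left ≫ pullback.fst W.ι j = Spec.map (CommRingCat.ofHom (algebraMap D L)) ≫ v := by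
      refine (congrArg (m ≫ ·) (EtCoh.isPullback_bc_map j g).w).trans ?_
      refine (pullback.lift_fst_assoc _ _ _ _).trans ?_
      rw [Category.assoc, hαg]
    have hval : (Scheme.ΓSpecIso (CommRingCat.of L)).hom (m.appTop (Z : Γ(U₀.left, ⊤))) = algebraMap D L ϖ := by
      rw [hZ]
      show (Scheme.ΓSpecIso (CommRingCat.of L)).hom
        ((m ≫ (bc.map g).left ≫ pullback.fst W.ι j).appTop (W.topIso.inv t)) = _
      rw [hmg, Scheme.Hom.comp_appTop, CommRingCat.comp_apply, ha, ← CommRingCat.comp_apply,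
        ← CommRingCat.comp_apply, ← Category.assoc, Category.assoc]
      refine (ConcreteCategory.congr_hom (congrArg ((Scheme.ΓSpecIso (CommRingCat.of D)).inv ≫ ·)
        (Scheme.ΓSpecIso_naturality (CommRingCat.ofHom (algebraMap D L)))) ϖ).trans ?_
      exact congrArg (algebraMap D L) (ConcreteCategory.congr_hom (Scheme.ΓSpecIso (CommRingCat.of D)).inv_hom_id ϖ)
    rw [map_pow (algebraMap D L), ← hval]
    simp only [w, ← map_pow]
    rw [hY']
  have hint : IsIntegral D w := IsIntegral.of_pow hn (hw ▸ isIntegral_algebraMap)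
  obtain ⟨w₀, hw₀⟩ := IsIntegrallyClosed.isIntegral_iff.1 hint
  have hz' : w₀ ^ n = ϖ ^ d := IsFractionRing.injective D L (by rw [map_pow, hw₀]; exact hw)
  have hw0 : w₀ ≠ 0 := by
    rintro rfl
    rw [zero_pow hn.ne'] at hz'
    exact pow_ne_zero _ hϖ.ne_zero hz'.symm
  obtain ⟨k, c, hc, rfl⟩ := WfDvdMonoid.max_power_factor hw0 hϖ.irreducible
  have hcn : ¬ ϖ ∣ c ^ n := fun h => hc (hϖ.dvd_of_dvd_pow h)
  rw [mul_pow, ← pow_mul] at hz'
  rcases Nat.lt_trichotomy (k * n) d with hlt | heq | hgt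
  · obtain ⟨e, rfl⟩ := Nat.exists_eq_add_of_lt hlt
    refine absurd ⟨ϖ ^ e, ?_⟩ hcn
    refine mul_left_cancel₀ (pow_ne_zero (k * n) hϖ.ne_zero) (hz'.trans ?_)
    ring
  · exact ⟨k, by rw [← heq, mul_comm]⟩
  · obtain ⟨e, he⟩ := Nat.exists_eq_add_of_lt hgt
    refine absurd ?_ hϖ.not_unit
    rw [he] at hz'
    refine IsUnit.of_mul_eq_one (ϖ ^ e * c ^ n) (mul_left_cancel₀ (pow_ne_zero d hϖ.ne_zero) ?_)
    rw [mul_one]
    exact Eq.trans (by ring) hz'

variable {Y : Scheme.{u}} (i : Y ⟶ X)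

/-- a local equation of a divisor, without transversality -/
structure LocEq₀ (i : Y ⟶ X) (W : X.Opens) (t : Γ(X, W)) : Prop where
  vanish : i.app W t = 0
  off : ∀ z ∈ W, z ∉ Set.range i.base → z ∈ X.basicOpen t
  ker : ∀ (y : Y) (hy : i.base y ∈ W),
    RingHom.ker (i.stalkMap y).hom ≤ Ideal.span {X.presheaf.germ W (i.base y) hy t}
  ne0 : ∀ (y : Y) (hy : i.base y ∈ W), X.presheaf.germ W (i.base y) hy t ≠ 0

variable (hU : Set.range j = (Set.range i)ᶜ)
include hU

/-- local equations are invertible off the divisor -/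
theorem LocEq₀.unitOn {W : X.Opens} {t : Γ(X, W)} (h : LocEq₀ i W t) : UnitOn j t := by
  refine RingedSpace.isUnit_of_isUnit_germ (pullback W.ι j : Scheme.{u}).toRingedSpace ⊤ _ fun z hz => ?_
  let z' : (pullback W.ι j : Scheme.{u}) := z
  show IsUnit ((pullback W.ι j : Scheme.{u}).presheaf.germ ⊤ z' hz _)
  rw [← Scheme.mem_basicOpen _ _ z' hz, ← Scheme.preimage_basicOpen_top]
  show (pullback.fst W.ι j).base z' ∈ W.toScheme.basicOpen (W.topIso.inv t)
  have h1 : W.ι.base ((pullback.fst W.ι j).base z') ∈ X.basicOpen t := by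
    refine h.off _ ((range_ι W).le ⟨_, rfl⟩) fun hmem => ?_
    have e : W.ι.base ((pullback.fst W.ι j).base z') = j.base ((pullback.snd W.ι j).base z') :=
      congrArg (fun k : (pullback W.ι j : Scheme.{u}) ⟶ X => k.base z') pullback.condition
    rw [e] at hmem
    exact (hU.le ⟨_, rfl⟩) hmem
  rw [← W.ι_image_basicOpen_topIso_inv t] at h1
  obtain ⟨a, ha, hae⟩ := h1
  rwa [← W.ι.isOpenEmbedding.injective hae]

/-- two local equations differ by a unit -/
theorem LocEq₀.exists_unit {W W' : X.Opens} {t : Γ(X, W)} {t' : Γ(X, W')} (h : LocEq₀ i W t) (h' : LocEq₀ i W' t')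
    (z : X) (hz : z ∈ W) (hz' : z ∈ W') :
    ∃ (O : X.Opens) (hO : O ≤ W) (hO' : O ≤ W') (c : Γ(X, O)), z ∈ O ∧ IsUnit c ∧
      resO X hO' t' = c * resO X hO t := by
  by_cases hzi : z ∈ Set.range i.base
  · obtain ⟨y, rfl⟩ := hzi
    let g := X.presheaf.germ W (i.base y) hz t
    let g' := X.presheaf.germ W' (i.base y) hz' t'
    have hker : ∀ {V : X.Opens} {s : Γ(X, V)} (hs : i.app V s = 0) (hy : i.base y ∈ V),
        X.presheaf.germ V (i.base y) hy s ∈ RingHom.ker (i.stalkMap y).hom := fun {V s} hs hy => by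
      rw [RingHom.mem_ker, Scheme.Hom.germ_stalkMap_apply, hs, map_zero]
    obtain ⟨a, ha⟩ := Ideal.mem_span_singleton'.1 (h.ker y hz (hker h'.vanish hz'))
    obtain ⟨b, hb⟩ := Ideal.mem_span_singleton'.1 (h'.ker y hz' (hker h.vanish hz))
    have hg0 : g ≠ 0 := h.ne0 y hz
    have hau : IsUnit a := by
      by_contra hau
      have h1 : IsUnit (1 - a * b) :=
        IsLocalRing.isUnit_one_sub_self_of_mem_nonunits _ (fun hu => hau (isUnit_of_mul_isUnit_left hu))
      refine hg0 (h1.mul_right_eq_zero.1 ?_)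
      show (1 - a * b) * g = 0
      rw [sub_mul, one_mul, mul_assoc, mul_comm a, mul_assoc, mul_comm g a, ha, hb, sub_self]
    obtain ⟨V, hyV, a', rfl⟩ := TopCat.Presheaf.exists_germ_eq X.presheaf a
    let O₁ : X.Opens := X.basicOpen a' ⊓ (W ⊓ W')
    have hy₁ : i.base y ∈ O₁ := ⟨(Scheme.mem_basicOpen X a' _ hyV).2 hau, hz, hz'⟩
    have hOV : O₁ ≤ V := inf_le_left.trans (X.basicOpen_le a')
    obtain ⟨O, hyO, iO, iO', e⟩ := TopCat.Presheaf.germ_eq X.presheaf (i.base y) hy₁ hy₁
      (resO X (inf_le_right.trans inf_le_right) t') (resO X hOV a' * resO X (inf_le_right.trans inf_le_left) t) (by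
        rw [map_mul]
        refine (TopCat.Presheaf.germ_res_apply _ _ _ _ _).trans (ha.symm.trans ?_)
        exact congrArg₂ (· * ·) (TopCat.Presheaf.germ_res_apply _ _ _ _ _).symm
          (TopCat.Presheaf.germ_res_apply _ _ _ _ _).symm)
    refine ⟨O, iO.le.trans (inf_le_right.trans inf_le_left), iO.le.trans (inf_le_right.trans inf_le_right),
      resO X (iO.le.trans hOV) a', hyO, ?_, ?_⟩
    · have h1 := (RingedSpace.isUnit_res_basicOpen X.toRingedSpace a').map
        (X.presheaf.map (homOfLE (iO.le.trans inf_le_left : O ≤ X.basicOpen a')).op).hom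
      convert h1 using 1
      exact (QC.resO_resO _ _ _).symm
    · rw [map_mul] at e
      rw [← QC.resO_resO (X := X) iO.le (inf_le_right.trans inf_le_right) t', ← QC.resO_resO (X := X) iO.le hOV a',
        ← QC.resO_resO (X := X) iO.le (inf_le_right.trans inf_le_left) t]
      exact e
  · refine ⟨X.basicOpen t ⊓ X.basicOpen t', inf_le_left.trans (X.basicOpen_le t),
      inf_le_right.trans (X.basicOpen_le t'), ?_⟩
    let O : X.Opens := X.basicOpen t ⊓ X.basicOpen t'
    have ht : IsUnit (resO X (inf_le_left.trans (X.basicOpen_le t) : O ≤ W) t) := by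
      have h1 := (RingedSpace.isUnit_res_basicOpen X.toRingedSpace t).map
        (X.presheaf.map (homOfLE (inf_le_left : O ≤ X.basicOpen t)).op).hom
      convert h1 using 1
      exact (QC.resO_resO _ _ _).symm
    have ht' : IsUnit (resO X (inf_le_right.trans (X.basicOpen_le t') : O ≤ W') t') := by
      have h1 := (RingedSpace.isUnit_res_basicOpen X.toRingedSpace t').map
        (X.presheaf.map (homOfLE (inf_le_right : O ≤ X.basicOpen t')).op).hom
      convert h1 using 1
      exact (QC.resO_resO _ _ _).symm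
    refine ⟨_, ⟨h.off z hz hzi, h'.off z hz' hzi⟩, ht'.mul ht.unit⁻¹.isUnit, ?_⟩
    rw [mul_assoc, IsUnit.val_inv_mul, mul_one]

omit hU in
/-- transversal local equations are non-zero along the divisor -/
theorem LocEq.toLocEq₀ {W : X.Opens} {t : Γ(X, W)} (h : LocEq i W t) : LocEq₀ i W t :=
  ⟨h.vanish, h.off, h.ker, fun y hz => by
    let g := X.presheaf.germ W (i.base y) hz t
    show g ≠ 0
    intro hg
    obtain ⟨O, hyO, iO, iO', e⟩ := TopCat.Presheaf.germ_eq X.presheaf (i.base y) hz hz t 0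
      (hg.trans (map_zero _).symm)
    rw [map_zero] at e
    obtain ⟨Ω, _, _, ξ, -, hξ⟩ := EtStalk.covers_all (X := X) (i.base y)
    obtain ⟨v, hv, hvt⟩ := h.arc Ω ξ (hξ ▸ hz) (hξ ▸ ⟨y, rfl⟩)
    have hvO : Set.range (v ≫ W.ι).base ⊆ Set.range (Scheme.Opens.ι O).base := by
      rw [range_ι]
      rintro _ ⟨p, rfl⟩
      have hp : p ⤳ (psPt Ω).base (default : Spec (CommRingCat.of Ω)) := by
        let c : PrimeSpectrum (PowerSeries Ω) := (psPt Ω).base (default : Spec (CommRingCat.of Ω))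
        let p' : PrimeSpectrum (PowerSeries Ω) := p
        show p' ⤳ c
        rw [← PrimeSpectrum.le_iff_specializes]
        intro b hb
        show PowerSeries.constantCoeff b ∈ ((default : Spec (CommRingCat.of Ω)) : PrimeSpectrum Ω).asIdeal
        by_contra hc
        refine p'.isPrime.ne_top (Ideal.eq_top_of_isUnit_mem _ hb (PowerSeries.isUnit_iff_constantCoeff.2 ?_))
        exact isUnit_iff_ne_zero.2 fun h0 => hc (h0.symm ▸ Submodule.zero_mem _)
      refine (hp.map (v ≫ W.ι).continuous).mem_open O.isOpen ?_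
      show ((psPt Ω ≫ v ≫ W.ι).base default) ∈ O
      rw [hv, hξ]
      exact hyO
    let v' := IsOpenImmersion.lift (Scheme.Opens.ι O) (v ≫ W.ι) hvO
    have hv' : v' ≫ X.homOfLE iO.le = v := by
      rw [← cancel_mono W.ι, Category.assoc, Scheme.homOfLE_ι]
      exact IsOpenImmersion.lift_fac _ _ hvO
    rw [← hv', Scheme.Hom.comp_appTop, CommRingCat.comp_apply, topIso_inv_res] at hvt
    rw [show resO X iO.le t = 0 from e, map_zero, map_zero] at hvt
    have := congrArg (Scheme.ΓSpecIso (CommRingCat.of (PowerSeries Ω))).hom hvt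
    rw [map_zero, ← CommRingCat.comp_apply, Iso.inv_hom_id] at this
    exact PowerSeries.X_ne_zero this.symm⟩

end Groth.Agent.EtPur
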