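import Groth.Agent.EtPur.GysinSplit
import Groth.Agent.EtAcycX.Edge
import Mathlib

/-!
# Cohomology along a morphism whose only higher direct image is in degree two
-/

set_option autoImplicit false
set_option backward.isDefEq.respectTransparency false
set_option backward.isDefEq.respectTransparency.types false
set_option linter.style.haveILetI false
set_option linter.unusedSectionVars false
set_option linter.overlappingInstances false
set_option linter.auxLemma false
set_option maxHeartbeats 1000000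
set_option synthInstance.maxHeartbeats 400000

universe u

open CategoryTheory CategoryTheory.Limits CategoryTheory.Abelian AlgebraicGeometry Opposite

noncomputable section

namespace Groth.Agent.EtPur

attribute [local instance 100000] EtCoh.H._proof_1 Groth.Agent.EtMV.hext
attribute [local instance 200000] Groth.Agent.EtMV.hextAb

variable {X U : Scheme.{u}} (f : U ⟶ X) [PreservesFiniteLimits (EtCoh.pull f)]

local notation "P₀" => EtCoh.const X ℤ
local notation "Q₀" => EtCoh.const U ℤ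

/-- the edge map -/
abbrev edge (G : EtCoh.Ab U) (q : ℕ) :
    Ext (EtCoh.const X ℤ) ((EtCoh.push f).obj G) q →+ Ext (EtCoh.const U ℤ) G q :=
  EtMV.U (EtCoh.pullPushAdj f) (EtMV.pc f) G q

/-- the boundary through the cokernel of the direct image -/
theorem edge_comp_extClass {S : ShortComplex (EtCoh.Ab U)} (hS : S.ShortExact) {C : EtCoh.Ab X}
    (π : (EtCoh.push f).obj S.X₂ ⟶ C) (zero : (EtCoh.push f).map S.f ≫ π = 0)
    (hA : (ShortComplex.mk _ π zero).ShortExact) (m : C ⟶ (EtCoh.push f).obj S.X₃)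
    (hm : π ≫ m = (EtCoh.push f).map S.g) {q q' : ℕ} (h : q + 1 = q') (z : Ext P₀ C q) :
    edge f S.X₁ q' (z.comp hA.extClass h) =
      (edge f S.X₃ q (z.comp (Ext.mk₀ m) (add_zero q))).comp hS.extClass h := by
  let adj := EtCoh.pullPushAdj f
  let φ : (ShortComplex.mk _ π zero).map (EtCoh.pull f) ⟶ S :=
    { τ₁ := adj.counit.app S.X₁
      τ₂ := adj.counit.app S.X₂
      τ₃ := (EtCoh.pull f).map m ≫ adj.counit.app S.X₃
      comm₁₂ := (adj.counit.naturality S.f).symm
      comm₂₃ := by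
        show adj.counit.app S.X₂ ≫ S.g = (EtCoh.pull f).map π ≫ (EtCoh.pull f).map m ≫ adj.counit.app S.X₃
        rw [← Functor.map_comp_assoc, hm]
        exact (adj.counit.naturality S.g).symm }
  have hn := ShortComplex.ShortExact.extClass_naturality (hA.map_of_exact (EtCoh.pull f)) hS φ
  rw [EtMV.U_apply, EtMV.U_apply, EtMV.T_comp, Ext.mapExactFunctor_extClass (EtCoh.pull f) hA, EtMV.T_comp_mk₀,
    Ext.comp_assoc_of_second_deg_zero (EtMV.T (EtCoh.pull f) (EtMV.pc f) _ q z), Ext.mk₀_comp_mk₀,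
    Ext.comp_assoc (a₂₃ := 1) _ _ _ h (add_zero 1) (by lia),
    Ext.comp_assoc (a₂₃ := 1) _ _ _ (add_zero q) (zero_add 1) (by lia)]
  exact congrArg (fun t => (EtMV.T (EtCoh.pull f) (EtMV.pc f) _ q z).comp t h) hn

/-- **cohomology along a morphism whose only higher direct image is in degree two** -/
theorem edge_two (G : EtCoh.Ab U) (h1 : IsZero ((EtCoh.Rpush f 1).obj G))
    (h3 : ∀ q, IsZero ((EtCoh.Rpush f (q + 3)).obj G)) :
    (∀ q, q ≤ 1 → Function.Bijective (edge f G q)) ∧ Function.Injective (edge f G 2) ∧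
    (Subsingleton (Ext P₀ ((EtCoh.push f).obj G) 3) →
      ∃ φ : Ext Q₀ G 2 →+ Ext P₀ ((EtCoh.Rpush f 2).obj G) 0,
        Function.Surjective φ ∧ φ.ker = (edge f G 2).range) ∧
    ∀ p, Subsingleton (Ext P₀ ((EtCoh.push f).obj G) (p + 3)) →
      Subsingleton (Ext P₀ ((EtCoh.Rpush f 2).obj G) (p + 1)) → Subsingleton (Ext Q₀ G (p + 3)) := by
  haveI := EtMV.push_preservesInjective f
  haveI := EtMV.isIso_pc f
  let R := EtCoh.push f
  let adj := EtCoh.pullPushAdj f
  let S := EtMV.injSeq G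
  have hS := EtMV.injSeq_shortExact G
  have hR : (S.map R).ShortExact := EtMV.shortExact_map adj hS h1
  let G' := S.X₃
  haveI : Injective S.X₂ := inferInstanceAs (Injective (Injective.under G))
  haveI : Injective (S.map R).X₂ := inferInstanceAs (Injective (R.obj S.X₂))
  obtain ⟨bd, iU⟩ := EtAcycX.U_bounded adj (EtMV.pc f) 1 G fun q hq => by
    obtain rfl : q = 0 := by omega
    exact h1
  obtain ⟨-, iU'⟩ := EtAcycX.U_bounded adj (EtMV.pc f) 0 G' fun q hq => absurd hq (Nat.not_lt_zero q)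
  have b0' : Function.Bijective (edge f G' 0) := EtAcycX.U_zero_bijective adj (EtMV.pc f) G'
  have hR' : ∀ q, IsZero ((EtCoh.Rpush f (q + 2)).obj G') := fun q =>
    EtMV.isZero_rightDerived_X₃ (R := R) hS (q + 1) (h3 q)
  -- the second step
  let S' := EtMV.injSeq G'
  have hS' := EtMV.injSeq_shortExact G'
  haveI := hS'.mono_f
  haveI : Injective S'.X₂ := inferInstanceAs (Injective (Injective.under G'))
  haveI : Injective (R.obj S'.X₂) := R.injective_obj _
  let T := S'.X₃
  haveI : Mono (R.map S'.f) := inferInstance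
  let π := cokernel.π (R.map S'.f)
  let m : cokernel (R.map S'.f) ⟶ R.obj T :=
    cokernel.desc _ (R.map S'.g) (by rw [← R.map_comp, S'.zero, R.map_zero])
  haveI : Mono m := EtPBC.mono_desc_map R hS' _
  have hm : π ≫ m = R.map S'.g := cokernel.π_desc _ _ _
  have hA : (ShortComplex.mk (R.map S'.f) π (cokernel.condition _)).ShortExact :=
    { exact := ShortComplex.exact_of_g_is_cokernel _ (cokernelIsCokernel _) }
  have hB : (ShortComplex.mk m (cokernel.π m) (cokernel.condition m)).ShortExact :=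
    { exact := ShortComplex.exact_of_g_is_cokernel _ (cokernelIsCokernel _) }
  have hT : ∀ q, IsZero ((EtCoh.Rpush f (q + 1)).obj T) := fun q =>
    EtMV.isZero_rightDerived_X₃ (R := R) hS' q (hR' q)
  have bT : ∀ q, Function.Bijective (edge f T q) := EtMV.U_push_bijective f (EtMV.pc f) T hT
  obtain ⟨eC⟩ : Nonempty (cokernel m ≅ (EtCoh.Rpush f 2).obj G) := by
    obtain ⟨c⟩ := FiveTerm.nonempty_cokernel_one R hS'
    let r := RDerLib.res hS
    haveI : Mono (r.delta R 1 2 rfl) := (RDerLib.exact₃ R r 1 2 rfl).mono_g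
      ((R.isZero_rightDerived_obj_injective_succ 0 S.X₂).eq_of_src _ _)
    haveI : Epi (r.delta R 1 2 rfl) := (RDerLib.exact₁ R r 1 2 rfl).epi_f
      ((R.isZero_rightDerived_obj_injective_succ 1 S.X₂).eq_of_tgt _ _)
    haveI : IsIso (r.delta R 1 2 rfl) := isIso_of_mono_of_epi _
    exact ⟨((cokernelIsoOfEq hm.symm ≪≫ cokernelEpiComp _ _).symm ≪≫ c) ≪≫ asIso (r.delta R 1 2 rfl)⟩
  let dS : ∀ q, Ext Q₀ G' q →+ Ext Q₀ G (q + 1) := fun q =>
    AddMonoidHom.mk' (fun z => z.comp hS.extClass rfl) fun a b => Ext.add_comp _ _ _ _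
  let dR : ∀ q, Ext P₀ (R.obj G') q →+ Ext P₀ (R.obj G) (q + 1) := fun q =>
    AddMonoidHom.mk' (fun z => z.comp hR.extClass rfl) fun a b => Ext.add_comp _ _ _ _
  have hdS : ∀ q, Function.Bijective (dS (q + 1)) := fun q =>
    ⟨(injective_iff_map_eq_zero _).2 fun z hz => by
      obtain ⟨w, hw⟩ := Ext.covariant_sequence_exact₃ Q₀ hS z (rfl : q + 1 + 1 = q + 1 + 1) hz
      rw [← hw, Ext.eq_zero_of_injective w, Ext.zero_comp],
    fun x => Ext.covariant_sequence_exact₁ Q₀ hS x (Ext.eq_zero_of_injective _) rfl⟩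
  have hdR : ∀ q, Function.Bijective (dR (q + 1)) := fun q =>
    ⟨(injective_iff_map_eq_zero _).2 fun z hz => by
      obtain ⟨w, hw⟩ := Ext.covariant_sequence_exact₃ P₀ hR z (rfl : q + 1 + 1 = q + 1 + 1) hz
      rw [← hw, Ext.eq_zero_of_injective w, Ext.zero_comp],
    fun x => Ext.covariant_sequence_exact₁ P₀ hR x (Ext.eq_zero_of_injective _) rfl⟩
  have hC : ∀ p, Subsingleton (Ext P₀ (R.obj G) (p + 3)) → Subsingleton (Ext P₀ (cokernel (R.map S'.f)) (p + 1)) :=
    fun p hp => subsingleton_of_forall_eq 0 fun c => by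
      have h2 : c.comp hA.extClass (rfl : p + 1 + 1 = p + 2) = 0 :=
        (hdR (p + 1)).1 (@Subsingleton.elim _ hp _ _)
      obtain ⟨w, hw⟩ := Ext.covariant_sequence_exact₃ P₀ hA c (rfl : p + 1 + 1 = p + 2) h2
      rw [← hw, Ext.eq_zero_of_injective w, Ext.zero_comp]
  refine ⟨fun q hq => bd q hq, iU, fun hX3 => ?_, fun p hX3 hY => ?_⟩
  · let d : Ext Q₀ T 0 →+ Ext Q₀ G' 1 :=
      AddMonoidHom.mk' (fun z => z.comp hS'.extClass rfl) fun a b => Ext.add_comp _ _ _ _
    have hd : Function.Surjective d := fun x =>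
      Ext.covariant_sequence_exact₁ Q₀ hS' x (Ext.eq_zero_of_injective _) rfl
    let e0 : Ext P₀ (R.obj T) 0 ≃+ Ext Q₀ T 0 := AddEquiv.ofBijective _ (bT 0)
    let pm : Ext P₀ (R.obj T) 0 →+ Ext P₀ (cokernel m) 0 :=
      (Ext.mk₀ (cokernel.π m)).postcomp P₀ (add_zero 0)
    let ψ := pm.comp e0.symm.toAddMonoidHom
    have hψ : d.ker ≤ ψ.ker := fun z hz => by
      obtain ⟨w₀, hw₀⟩ := Ext.covariant_sequence_exact₃ Q₀ hS' z (rfl : 0 + 1 = 1) hz
      obtain ⟨w, rfl⟩ := (EtAcycX.U_zero_bijective adj (EtMV.pc f) S'.X₂).2 w₀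
      have : e0.symm z = w.comp (Ext.mk₀ (R.map S'.g)) (add_zero 0) := by
        rw [AddEquiv.symm_apply_eq]
        exact ((EtMV.U_comp_mk₀ adj (EtMV.pc f) 0 w S'.g).trans hw₀).symm
      show Ext.comp (e0.symm z) (Ext.mk₀ (cokernel.π m)) (add_zero 0) = 0
      rw [this, Ext.comp_assoc_of_second_deg_zero, Ext.mk₀_comp_mk₀, ← hm, Category.assoc, cokernel.condition,
        comp_zero, Ext.mk₀_zero, Ext.comp_zero]
    let φ₁ : Ext Q₀ G' 1 →+ Ext P₀ (cokernel m) 0 := d.liftOfSurjective hd ⟨ψ, hψ⟩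
    have hφ₁ : ∀ z, φ₁ (d z) = ψ z := fun z => AddMonoidHom.liftOfRightInverse_comp_apply _ _ _ _ z
    have hφs : Function.Surjective φ₁ := fun y => by
      haveI := hC 0 hX3
      obtain ⟨v, hv⟩ := Ext.covariant_sequence_exact₃ P₀ hB y (rfl : 0 + 1 = 1)
        (@Subsingleton.elim (Ext P₀ (cokernel (R.map S'.f)) 1) _ _ _)
      refine ⟨d (e0 v), (hφ₁ _).trans ?_⟩
      show Ext.comp (e0.symm (e0 v)) (Ext.mk₀ (cokernel.π m)) (add_zero 0) = y
      rw [e0.symm_apply_apply]
      exact hv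
    have hker : ∀ x, φ₁ x = 0 ↔ ∃ w, edge f G' 1 w = x := fun x => by
      obtain ⟨z, rfl⟩ := hd x
      rw [hφ₁]
      constructor
      · intro h
        obtain ⟨c, hc⟩ := Ext.covariant_sequence_exact₂ P₀ hB (e0.symm z) h
        refine ⟨c.comp hA.extClass rfl, ?_⟩
        refine (edge_comp_extClass f hS' π _ hA m hm rfl c).trans ?_
        rw [hc]
        exact congrArg d (e0.apply_symm_apply z)
      · rintro ⟨w, hw⟩
        obtain ⟨c, rfl⟩ := Ext.covariant_sequence_exact₁ P₀ hA w (Ext.eq_zero_of_injective _) (n₀ := 0) rfl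
        replace hw := (edge_comp_extClass f hS' π _ hA m hm rfl c).symm.trans hw
        have h0 : ψ (e0 (c.comp (Ext.mk₀ m) (add_zero 0))) = 0 := by
          show Ext.comp (e0.symm (e0 _)) (Ext.mk₀ (cokernel.π m)) (add_zero 0) = 0
          rw [e0.symm_apply_apply, Ext.comp_assoc_of_second_deg_zero, Ext.mk₀_comp_mk₀, cokernel.condition,
            Ext.mk₀_zero, Ext.comp_zero]
        rw [← hφ₁] at h0 ⊢
        exact (congrArg φ₁ hw.symm).trans h0
    let eS := AddEquiv.ofBijective _ (hdS 0)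
    let eR := (Ext.mk₀ eC.hom).postcomp P₀ (add_zero 0)
    have heR : Function.Bijective eR := EtAcycX.bijective_comp_iso eC.hom 0
    refine ⟨eR.comp (φ₁.comp eS.symm.toAddMonoidHom), heR.2.comp (hφs.comp eS.symm.surjective), ?_⟩
    ext x
    show eR (φ₁ (eS.symm x)) = 0 ↔ ∃ w, edge f G 2 w = x
    rw [map_eq_zero_iff eR heR.1, hker]
    constructor
    · rintro ⟨w, hw⟩
      refine ⟨dR 1 w, ?_⟩
      show edge f G 2 (w.comp hR.extClass rfl) = x
      refine (EtMV.U_comp_extClass adj (EtMV.pc f) hS hR rfl w).trans ?_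
      exact (congrArg eS hw).trans (eS.apply_symm_apply x)
    · rintro ⟨w, rfl⟩
      obtain ⟨w', rfl⟩ := (hdR 0).2 w
      refine ⟨w', ?_⟩
      rw [AddEquiv.eq_symm_apply]
      exact (EtMV.U_comp_extClass adj (EtMV.pc f) hS hR rfl w').symm
  · haveI := hC p hX3
    have h0 : Subsingleton (Ext P₀ (R.obj T) (p + 1)) := subsingleton_of_forall_eq 0 fun v => by
      have hv : v.comp (Ext.mk₀ (cokernel.π m)) (add_zero (p + 1)) = 0 :=
        (EtAcycX.bijective_comp_iso eC.hom (p + 1)).1 (@Subsingleton.elim _ hY _ _)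
      obtain ⟨c, hc⟩ := Ext.covariant_sequence_exact₂ P₀ hB v hv
      rw [← hc, @Subsingleton.elim (Ext P₀ (cokernel (R.map S'.f)) (p + 1)) _ c 0, Ext.zero_comp]
    refine subsingleton_of_forall_eq 0 fun x => ?_
    obtain ⟨y, rfl⟩ := (hdS (p + 1)).2 x
    obtain ⟨t, rfl⟩ := Ext.covariant_sequence_exact₁ Q₀ hS' y (Ext.eq_zero_of_injective _) (n₀ := p + 1) rfl
    obtain ⟨v, rfl⟩ := (bT (p + 1)).2 t
    rw [@Subsingleton.elim _ h0 v 0, map_zero, Ext.zero_comp, map_zero]

end Groth.Agent.EtPur
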