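import Groth.Agent.EtMV.LocRestr
import Mathlib

/-!
# Sections with supports and direct images
-/

set_option autoImplicit false
set_option backward.isDefEq.respectTransparency false
set_option backward.isDefEq.respectTransparency.types false
set_option linter.style.haveILetI false
set_option linter.unusedSectionVars false
set_option maxHeartbeats 1000000
set_option synthInstance.maxHeartbeats 400000

universe u

open CategoryTheory CategoryTheory.Limits AlgebraicGeometry Opposite

noncomputable section

namespace Groth.Agent.EtPur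

variable {X : Scheme.{u}}

/-- factorisation of open immersions of étale schemes -/
theorem exists_fac {A B T : X.Etale} (a : A ⟶ T) (b : B ⟶ T) [IsOpenImmersion b.left]
    (h : Set.range a.left.base ⊆ Set.range b.left.base) : ∃ g : A ⟶ B, g ≫ b = a := by
  have hf := IsOpenImmersion.lift_fac b.left a.left h
  refine ⟨MorphismProperty.Over.homMk (IsOpenImmersion.lift b.left a.left h) ?_, ?_⟩
  · rw [← MorphismProperty.Over.w b, ← Category.assoc, hf, MorphismProperty.Over.w a]
  · exact MorphismProperty.Over.Hom.ext hf

/-- vanishing of restrictions only depends on the open -/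
theorem map_eq_zero_iff_of_range (M : EtCoh.Ab X) {A B T : X.Etale} (a : A ⟶ T) (b : B ⟶ T)
    [IsOpenImmersion a.left] [IsOpenImmersion b.left] (h : Set.range a.left.base = Set.range b.left.base)
    (s : M.obj.obj (op T)) : M.obj.map a.op s = 0 ↔ M.obj.map b.op s = 0 := by
  obtain ⟨g, hg⟩ := exists_fac a b h.le
  obtain ⟨g', hg'⟩ := exists_fac b a h.ge
  constructor
  · intro h0
    rw [← hg', op_comp, Functor.map_comp]
    refine (ConcreteCategory.comp_apply _ _ _).trans ?_
    rw [h0]; exact map_zero _
  · intro h0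
    rw [← hg, op_comp, Functor.map_comp]
    refine (ConcreteCategory.comp_apply _ _ _).trans ?_
    rw [h0]; exact map_zero _

variable {U : Scheme.{u}} (j : U ⟶ X) [IsOpenImmersion j] [EtCoh.BCCont j]

/-- the sections killed by the unit -/
theorem unit_app_eq_zero_iff (G : EtCoh.Ab X) (T : X.Etale) (s : G.obj.obj (op T)) :
    (EtDual.unitApp j G).hom.app (op T) s = 0 ↔
      G.obj.map ((EtPushStalk.compBcAdj j).counit.app T).op s = 0 := by
  haveI := EtMV.jcont_etale j
  let A := EtPushStalk.restrPushAdj j
  let B := EtCoh.pullPushAdj j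
  let i := EtPushStalk.restrPullIso j
  have hu : B.unit.app G = A.unit.app G ≫ (EtCoh.push j).map (i.hom.app G) :=
    (Adjunction.unit_leftAdjointUniq_hom_app A B G).symm
  have hA : (A.unit.app G).hom.app (op T) = G.obj.map ((EtPushStalk.compBcAdj j).counit.app T).op := by
    have := congr_app (Adjunction.map_restrictFullyFaithful_unit_app
      ((EtPushStalk.compBcAdj j).op.whiskerLeft AddCommGrpCat.{u + 1})
      (fullyFaithfulSheafToPresheaf X.smallEtaleTopology AddCommGrpCat.{u + 1})
      (fullyFaithfulSheafToPresheaf _ _)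
      (L := EtShriek.restrAlong j) (R := EtCoh.push j) (Iso.refl _) (Iso.refl _) G) (op T)
    simp at this
    exact this
  rw [show EtDual.unitApp j G = _ from hu]
  show (i.hom.app G).hom.app (op ((EtCoh.bc j).obj T)) ((A.unit.app G).hom.app (op T) s) = 0 ↔ _
  rw [hA]
  have hb := ConcreteCategory.bijective_of_isIso ((i.hom.app G).hom.app (op ((EtCoh.bc j).obj T)))
  constructor
  · intro h
    exact hb.1 (h.trans (map_zero _).symm)
  · intro h
    erw [h]
    exact map_zero _

/-- the range of the counit -/
theorem range_counit (T : X.Etale) :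
    Set.range ((EtPushStalk.compBcAdj j).counit.app T).left.base = T.hom.base ⁻¹' Set.range j.base := by
  have h : ((EtPushStalk.compBcAdj j).counit.app T).left = pullback.fst T.hom j := by
    simp [EtPushStalk.compBcAdj, MorphismProperty.Over.mapPullbackAdj]
  erw [h]
  exact Scheme.Pullback.range_fst T.hom j

/-- base change of a morphism of étale schemes -/
theorem range_bc_map {Z : Scheme.{u}} (s : Z ⟶ X) {A T : X.Etale} (a : A ⟶ T) :
    Set.range ((EtCoh.bc s).map a).left.base =
      (pullback.fst T.hom s : ((EtCoh.bc s).obj T).left ⟶ T.left).base ⁻¹' Set.range a.left.base := by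
  have sq := EtCoh.isPullback_bc_map s a
  rw [← sq.isoPullback_hom_fst]
  simp only [Scheme.Hom.comp_base, TopCat.coe_comp]
  rw [Set.range_comp, Set.range_eq_univ.2 sq.isoPullback.hom.surjective, Set.image_univ]
  exact Scheme.Pullback.range_fst _ _

variable {Z U' : Scheme.{u}} (s : Z ⟶ X) (j' : U' ⟶ Z) [IsOpenImmersion j'] [EtCoh.BCCont j'] [EtCoh.BCCont s]
  (hr : Set.range j'.base = s.base ⁻¹' Set.range j.base)

include hr in
/-- sections with supports of a direct image -/
theorem unit_push_eq_zero_iff (M : EtCoh.Ab Z) (T : X.Etale) (x : M.obj.obj (op ((EtCoh.bc s).obj T))) :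
    (EtDual.unitApp j ((EtCoh.push s).obj M)).hom.app (op T) x = 0 ↔
      (EtDual.unitApp j' M).hom.app (op ((EtCoh.bc s).obj T)) x = 0 := by
  rw [unit_app_eq_zero_iff j, unit_app_eq_zero_iff j' M]
  haveI : IsOpenImmersion ((EtPushStalk.compBcAdj j).counit.app T).left := EtMV.isOpenImmersion_counit j T
  haveI : IsOpenImmersion ((EtPushStalk.compBcAdj j').counit.app ((EtCoh.bc s).obj T)).left :=
    EtMV.isOpenImmersion_counit j' _
  haveI : IsOpenImmersion ((EtCoh.bc s).map ((EtPushStalk.compBcAdj j).counit.app T)).left :=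
    MorphismProperty.of_isPullback (P := @IsOpenImmersion)
      (EtCoh.isPullback_bc_map s ((EtPushStalk.compBcAdj j).counit.app T)).flip inferInstance
  refine map_eq_zero_iff_of_range M ((EtCoh.bc s).map ((EtPushStalk.compBcAdj j).counit.app T))
    ((EtPushStalk.compBcAdj j').counit.app ((EtCoh.bc s).obj T)) ?_ x
  rw [range_bc_map, range_counit]
  erw [range_counit, hr]
  rw [← Set.preimage_comp, ← Set.preimage_comp]
  have hc : (pullback.fst T.hom s : ((EtCoh.bc s).obj T).left ⟶ T.left) ≫ T.hom =
      ((EtCoh.bc s).obj T).hom ≫ s := pullback.condition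
  have := congrArg (fun f : ((EtCoh.bc s).obj T).left ⟶ X => (f.base : _ → _)) hc
  simp only [Scheme.Hom.comp_base, TopCat.coe_comp] at this
  exact congrArg (fun f => f ⁻¹' Set.range j.base) this

/-- direct image and sections with supports -/
def suppPushHom : EtDual.secSupp j' ⋙ EtCoh.push s ⟶ EtCoh.push s ⋙ EtDual.secSupp j where
  app M := kernel.lift _ ((EtCoh.push s).map (kernel.ι (EtDual.unitApp j' M))) (by
    refine Sheaf.hom_ext (NatTrans.ext (funext fun T => ?_))
    ext x
    show (EtDual.unitApp j ((EtCoh.push s).obj M)).hom.app T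
      ((kernel.ι (EtDual.unitApp j' M)).hom.app (op ((EtCoh.bc s).obj T.unop)) x) = 0
    refine (unit_push_eq_zero_iff j s j' hr M T.unop _).2 ?_
    exact congr($(kernel.condition (EtDual.unitApp j' M)).hom.app (op ((EtCoh.bc s).obj T.unop)) x))
  naturality M M' f := by
    refine (cancel_mono (kernel.ι (EtDual.unitApp j ((EtCoh.push s).obj M')))).1 ?_
    simp only [Functor.comp_map, Category.assoc, kernel.lift_ι]
    rw [kernel.lift_ι_assoc, ← Functor.map_comp, ← Functor.map_comp, kernel.lift_ι]

instance isIso_suppPushHom (M : EtCoh.Ab Z) : IsIso ((suppPushHom j s j' hr).app M) := by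
  haveI : PreservesFiniteLimits (EtCoh.push s) :=
    haveI : (EtCoh.push s).IsRightAdjoint := (EtCoh.pullPushAdj s).isRightAdjoint
    inferInstance
  let κ := kernel.ι (EtDual.unitApp j ((EtCoh.push s).obj M))
  have hz : κ ≫ (EtCoh.push s).map (EtDual.unitApp j' M) = 0 := by
    refine Sheaf.hom_ext (NatTrans.ext (funext fun T => ?_))
    ext x
    show (EtDual.unitApp j' M).hom.app (op ((EtCoh.bc s).obj T.unop)) (κ.hom.app T x) = 0
    refine (unit_push_eq_zero_iff j s j' hr M T.unop _).1 ?_
    exact congr($(kernel.condition (EtDual.unitApp j ((EtCoh.push s).obj M))).hom.app T x)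
  obtain ⟨l, hl⟩ := KernelFork.IsLimit.lift'
    (KernelFork.mapIsLimit _ (kernelIsKernel (EtDual.unitApp j' M)) (EtCoh.push s)) κ hz
  have hl' : l ≫ (EtCoh.push s).map (kernel.ι (EtDual.unitApp j' M)) = κ := hl
  have hi : (suppPushHom j s j' hr).app M ≫ κ = (EtCoh.push s).map (kernel.ι (EtDual.unitApp j' M)) :=
    kernel.lift_ι _ _ _
  refine ⟨l, ?_, ?_⟩
  · rw [← cancel_mono ((EtCoh.push s).map (kernel.ι (EtDual.unitApp j' M))), Category.assoc, hl', hi,
      Category.id_comp]
  · apply (cancel_mono κ).1
    rw [Category.assoc, hi, hl', Category.id_comp]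

/-- direct image commutes with sections with supports -/
def suppPushIso : EtDual.secSupp j' ⋙ EtCoh.push s ≅ EtCoh.push s ⋙ EtDual.secSupp j :=
  haveI : IsIso (suppPushHom j s j' hr) := NatIso.isIso_of_isIso_app _
  asIso (suppPushHom j s j' hr)

end Groth.Agent.EtPur
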