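import Groth.Agent.REqP1.Chart
import Groth.Agent.P1FinClopen
import Groth.Agent.ProjOverIso.Basic
import Groth.Agent.EtPBC.CurveH2Proper
import Groth.Agent.EtPBC.FieldExt
import Groth.Agent.EtPBC.CdProper
import Groth.Agent.EtPBC.Acyclic
import Groth.Agent.EtPBC.LocSheaf
import Groth.Agent.LAcyc.AffineSpace
import Groth.Agent.AVLine.P1
import Groth.Agent.S3095
import Groth.Agent.S10829
import Mathlib

/-!
# Cohomology of the line and the projective line over a strictly henselian ring
-/

set_option autoImplicit false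
set_option backward.isDefEq.respectTransparency false
set_option backward.isDefEq.respectTransparency.types false
set_option linter.style.haveILetI false
set_option linter.unusedSectionVars false
set_option maxHeartbeats 1000000
set_option synthInstance.maxHeartbeats 400000

universe u

open CategoryTheory CategoryTheory.Limits AlgebraicGeometry Opposite IsLocalRing

noncomputable section

namespace Groth.Agent.EtPur

attribute [local instance 100000] EtCoh.H._proof_1 Groth.Agent.EtMV.hext
attribute [local instance 200000] Groth.Agent.EtMV.hextAb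

/-- every ring is an algebra over `ℤ` in the universe `u` -/
abbrev intAlg (A : Type u) [CommRing A] : Algebra P1.R0.{u} A :=
  ((Int.castRingHom A).comp ULift.ringEquiv.toRingHom).toAlgebra

/-- the projective line -/
abbrev P1X (A : Type u) [CommRing A] : Scheme.{u} := CohB1.ProjSpaceOver 1 (Spec (CommRingCat.of A))

/-- the standard charts of the projective line -/
def lineC (A : Type u) [CommRing A] (i : Fin (1 + 1)) : Spec (CommRingCat.of (Polynomial A)) ⟶ P1X A :=
  letI := intAlg A
  Spec.map (RingEquiv.toCommRingCatIso (R := REqP1.ChartOver A) (S := Polynomial A) (REqP1.chartOverEquiv A)).hom ≫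
    REqP1.chartOver A i

instance isOpenImmersion_lineC (A : Type u) [CommRing A] (i : Fin (1 + 1)) : IsOpenImmersion (lineC A i) := by
  unfold lineC
  infer_instance

theorem isLTorsion_const_of_isUnit (W : Scheme.{u}) {A : Type u} [CommRing A] {n : ℕ} (h0 : 0 < n)
    (hn : IsUnit (n : A)) : EtAcyc.IsLTorsion {ℓ | ℓ.Prime ∧ IsUnit (ℓ : A)} (EtCoh.const W (ZMod n)) := by
  intro U s x
  obtain ⟨V, g, m, hv, hm, h⟩ := EtAcycX.isLTorsion_const_zmod (W := W) h0 U s x
  refine ⟨V, g, m, hv, ⟨hm.1, fun p hp hpm => ⟨hp, ?_⟩⟩, h⟩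
  obtain ⟨b, hb⟩ := (hm.2 p hp hpm).2
  rw [hb, Nat.cast_mul] at hn
  exact isUnit_of_mul_isUnit_left hn

variable (R : Type u) [CommRing R] [HenselianLocalRing R] [IsSepClosed (ResidueField R)] {n : ℕ}

/-- **the line has no higher cohomology** -/
theorem subsingleton_H_line (h0 : 0 < n) (hn : IsUnit (n : R)) (q : ℕ) :
    Subsingleton (EtCoh.H (Spec (CommRingCat.of (Polynomial R))) (EtCoh.const _ (ZMod n)) (q + 1)) := by
  haveI := EtPullExact.pull_preservesFiniteLimits (LAcyc.lineStr R)
  have hb := (LAcyc.compN_line R (L := {ℓ | ℓ.Prime ∧ IsUnit (ℓ : R)}) (fun ℓ h => h) (q + 1) _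
    (isLTorsion_const_of_isUnit _ h0 hn)).1 (q + 1) le_rfl
  haveI := EtPBC.subsingleton_H_strictLocal R (EtCoh.const (Spec (CommRingCat.of R)) (ZMod n)) (q + 1) q.succ_pos
  haveI : Subsingleton (EtCoh.H (Spec (CommRingCat.of (Polynomial R)))
      ((EtCoh.pull (LAcyc.lineStr R)).obj (EtCoh.const _ (ZMod n))) (q + 1)) := hb.2.subsingleton
  exact EtPBC.subsingleton_H_of_iso (EtCore.pullConst (LAcyc.lineStr R) (ZMod n)) _ ‹_›

/-- the cohomology of the projective line is that of its closed fibre -/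
theorem nonempty_H_P1_closed (h0 : 0 < n) (q : ℕ) :
    Nonempty (EtCoh.H (P1X R) (EtCoh.const _ (ZMod n)) q ≃+
      EtCoh.H (P1X (ResidueField R)) (EtCoh.const _ (ZMod n)) q) := by
  let p := CohB1.ProjSpaceOver.toBase 1 (Spec (CommRingCat.of R))
  let r := Spec.map (CommRingCat.ofHom (residue R))
  haveI : IsProper p := inferInstance
  haveI := EtPullExact.pull_preservesFiniteLimits (pullback.fst p r)
  let e := (P1FinClopen.toP1_pullbackSquare r).isoPullback
  haveI := EtPullExact.pull_preservesFiniteLimits e.hom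
  have h1 := S3095.result R (P1X R) p (EtCoh.const _ (ZMod n)) (LAcyc.isTorsion_const _ h0) q
  have h2 := EtPBC.bijective_Hpull_of_isIso e.hom
    ((EtCoh.pull (pullback.fst p r)).obj (EtCoh.const _ (ZMod n))) q
  let c : (EtCoh.pull e.hom).obj ((EtCoh.pull (pullback.fst p r)).obj (EtCoh.const (P1X R) (ZMod n))) ≅
      EtCoh.const (P1X (ResidueField R)) (ZMod n) :=
    (EtCoh.pull e.hom).mapIso (EtCore.pullConst _ (ZMod n)) ≪≫ EtCore.pullConst e.hom (ZMod n)
  exact ⟨(AddEquiv.ofBijective _ h1).trans ((AddEquiv.ofBijective _ h2).trans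
    ((EtCoh.HF _ q).mapIso c).addCommGroupIsoToAddEquiv)⟩

theorem topologicalKrullDim_P1 (k : Type u) [Field k] : topologicalKrullDim (P1X k) = 1 := by
  obtain ⟨e, -⟩ := ProjOverIso.exists_iso 1 k
  rw [IsHomeomorph.topologicalKrullDim_eq _ (TopCat.homeoOfIso (asIso e.hom.base)).isHomeomorph]
  exact_mod_cast S10829.result k 1

/-- **no cohomology of the projective line above degree two** -/
theorem subsingleton_H_P1 (h0 : 0 < n) (q : ℕ) : Subsingleton (EtCoh.H (P1X R) (EtCoh.const _ (ZMod n)) (q + 3)) := by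
  obtain ⟨e⟩ := nonempty_H_P1_closed R h0 (q + 3)
  haveI := EtPBC.subsingleton_H_proper (CohB1.ProjSpaceOver.toBase 1 (Spec (CommRingCat.of (ResidueField R)))) 1
    (topologicalKrullDim_P1 _).le (EtCoh.const _ (ZMod n))
    (EtPBC.isLTorsion_univ_of_isTorsion (LAcyc.isTorsion_const _ h0)) (q + 3) (by omega)
  exact e.injective.subsingleton

/-- **second cohomology of the projective line** -/
theorem nonempty_H2_P1 (h0 : 0 < n) (hn : IsUnit (n : R)) :
    Nonempty (EtCoh.H (P1X R) (EtCoh.const _ (ZMod n)) 2 ≃+ ZMod n) := by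
  obtain ⟨e⟩ := nonempty_H_P1_closed R h0 2
  let k := ResidueField R
  let K := AlgebraicClosure k
  let φ := algebraMap k K
  haveI := EtPullExact.pull_preservesFiniteLimits (P1.toP1 (Spec.map (CommRingCat.ofHom φ)))
  have hb := EtPBC.bijective_Hpull_sepClosed φ (CohB1.ProjSpaceOver.toBase 1 (Spec (CommRingCat.of k))) _ _
    (P1FinClopen.toP1_pullbackSquare (Spec.map (CommRingCat.ofHom φ))) (EtCoh.const _ (ZMod n))
    (EtPBC.isLTorsion_univ_of_isTorsion (LAcyc.isTorsion_const _ h0)) 2
  letI : (P1X K).Over (Spec (CommRingCat.of K)) := ⟨CohB1.ProjSpaceOver.toBase 1 _⟩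
  letI := intAlg K
  have hC : Curve.IsSmoothProperCurve K (P1X K) (P1X K ↘ Spec (CommRingCat.of K)) :=
    ⟨inferInstanceAs (IsProper (CohB1.ProjSpaceOver.toBase 1 (Spec (CommRingCat.of K)))),
      AVLine.smooth_toBase K, REqP1.isIntegral_over K, topologicalKrullDim_P1 K⟩
  have hnK : (n : K) ≠ 0 := by
    have h := ((hn.map (residue R)).map φ).ne_zero
    rwa [map_natCast, map_natCast] at h
  obtain ⟨e'⟩ := EtPBC.nonempty_H2_zmod_proper hC h0 hnK
  exact ⟨e.trans ((AddEquiv.ofBijective _ hb).trans (((EtCoh.HF _ 2).mapIso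
    (EtCore.pullConst _ (ZMod n))).addCommGroupIsoToAddEquiv.trans e'))⟩

end Groth.Agent.EtPur
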