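import Groth.Agent.EtPur.ChartScheme
import Groth.Agent.EtPur.Coeff
import Groth.Agent.EtPur.Transport
import Groth.Agent.EtPur.Kills
import Groth.Agent.EtPur.Supp
import Groth.Agent.EtMV.LocRestr
import Groth.Agent.EtMV.Tate
import Groth.Agent.EtMV.TateConst
import Groth.Agent.EtCons.PullFLC
import Mathlib

/-!
# Purity for smooth pairs, étale locally
-/

set_option autoImplicit false
set_option backward.isDefEq.respectTransparency false
set_option backward.isDefEq.respectTransparency.types false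
set_option linter.style.haveILetI false
set_option linter.unusedSectionVars false
set_option maxHeartbeats 1000000
set_option synthInstance.maxHeartbeats 400000

universe u

open CategoryTheory CategoryTheory.Limits AlgebraicGeometry Opposite

noncomputable section

namespace Groth.Agent.EtPur

/-- sections supported outside everything vanish -/
theorem isZero_secSupp_of_range_univ {U X : Scheme.{u}} (k : U ⟶ X) [IsOpenImmersion k] [EtCoh.BCCont k]
    (hk : Set.range k.base = Set.univ) (G : EtCoh.Ab X) : IsZero ((EtDual.secSupp k).obj G) := by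
  refine @isZero_kernel_of_mono _ _ _ _ _ (EtDual.unitApp k G) ?_ _
  refine Preadditive.mono_of_kernel_zero ?_
  refine Sheaf.hom_ext (NatTrans.ext (funext fun T => ?_))
  ext s
  have h := (EtMV.comp_unit_eq_zero_iff k (kernel.ι (EtDual.unitApp k G))).1 (kernel.condition _) T.unop s
  haveI := EtMV.isOpenImmersion_counit k T.unop
  obtain ⟨g, hg⟩ := exists_fac (𝟙 T.unop) ((EtPushStalk.compBcAdj k).counit.app T.unop) (by
    erw [range_counit]
    rw [hk, Set.preimage_univ]
    exact Set.subset_univ _)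
  show (kernel.ι (EtDual.unitApp k G)).hom.app T s = 0
  refine Eq.trans ?_ ((congrArg (G.obj.map g.op) h).trans (map_zero _))
  rw [← ConcreteCategory.comp_apply (G.obj.map _) (G.obj.map g.op), ← G.obj.map_comp, ← op_comp, hg, op_id]
  exact (ConcreteCategory.congr_hom (CategoryTheory.Functor.map_id G.obj (op T.unop)) _).symm

/-- local cohomology with empty support vanishes -/
theorem isZero_locCoh_of_range_univ {U X : Scheme.{u}} (k : U ⟶ X) [IsOpenImmersion k] [EtCoh.BCCont k]
    (hk : Set.range k.base = Set.univ) (q : ℕ) (G : EtCoh.Ab X) : IsZero ((EtDual.locCoh k q).obj G) := by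
  let P := InjectiveResolution.of G
  refine IsZero.of_iso ?_ (P.isoRightDerivedObj (EtDual.secSupp k) q)
  refine (HomologicalComplex.homologyFunctor _ _ q).map_isZero ?_
  rw [IsZero.iff_id_eq_zero]
  ext p : 1
  exact (isZero_secSupp_of_range_univ k hk _).eq_of_src _ _

/-- purity off the support -/
theorem purity_of_range_univ {U X Y : Scheme.{u}} (k : U ⟶ X) [IsOpenImmersion k] [EtCoh.BCCont k]
    (hk : Set.range k.base = Set.univ) (i : Y ⟶ X) [EtCoh.BCCont i] [IsEmpty Y] (c : ℕ) (F : EtCoh.Ab X) :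
    Purity i k c F := by
  haveI : (EtCoh.push i).Additive := (EtCoh.pullPushAdj i).right_adjoint_additive
  exact ⟨fun q _ => isZero_locCoh_of_range_univ k hk q F,
    ⟨(isZero_locCoh_of_range_univ k hk _ F).iso ((EtCoh.push i).map_isZero (EtMV.isZero_of_isEmpty _))⟩⟩

/-- a value group of a sheaf killed by `n` is killed by `n` -/
theorem nsmul_eq_zero_of_killedBy {W : Scheme.{u}} {M : Type} [AddCommGroup M] {n : ℕ} (w : W)
    (h : EtCoh.KilledBy n (EtCoh.const W M)) (m : M) : n • m = 0 := by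
  refine EtMV.cst_inj (W := EtCoh.top W) w ?_
  rw [← EtMV.cstHom_apply, ← EtMV.cstHom_apply, map_nsmul, map_zero]
  exact h _ _

/-- **purity of smooth pairs, étale locally** -/
theorem exists_purity_nhd {X Y U S : Scheme.{u}} (f : X ⟶ S) (h : Y ⟶ S) (i : Y ⟶ X) (m c : ℕ) (hc : 0 < c)
    [SmoothOfRelativeDimension (m + c) f] [SmoothOfRelativeDimension m h] [IsClosedImmersion i] (w : i ≫ f = h)
    (j : U ⟶ X) [IsOpenImmersion j] (hU : Set.range j = (Set.range i)ᶜ) (n : ℕ) (hn : IsUnit (n : Γ(X, ⊤)))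
    (F : EtCoh.Ab X) (hF : EtCoh.IsFiniteLocallyConstant F) (hFn : EtCoh.KilledBy n F) (x : X) :
    ∃ (W : Scheme.{u}) (g : W ⟶ X) (_ : Etale g), x ∈ Set.range g.base ∧
      Purity (pullback.snd i g) (pullback.snd j g) c ((EtCoh.pull g).obj F) := by
  by_cases hxj : x ∈ Set.range j.base
  · have hr : Set.range (pullback.snd j j).base = Set.univ := by
      rw [Scheme.Pullback.range_snd]
      exact Set.eq_univ_of_forall fun u => ⟨u, rfl⟩
    haveI : IsEmpty (pullback i j : Scheme.{u}) := ⟨fun z => by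
      have : (pullback.snd i j).base z ∈ j.base ⁻¹' Set.range i.base :=
        (Scheme.Pullback.range_snd i j).le ⟨z, rfl⟩
      exact (hU.le ⟨_, rfl⟩) this⟩
    exact ⟨U, j, inferInstance, hxj, purity_of_range_univ _ hr _ _ _⟩
  obtain ⟨y, hy⟩ : x ∈ Set.range i.base := not_not.1 fun hx => hxj (hU.ge hx)
  -- the base, with a root of unity
  let s : S := h.base y
  have hsn : s ∈ S.basicOpen (n : Γ(S, ⊤)) := by
    have h1 : f ⁻¹ᵁ S.basicOpen (n : Γ(S, ⊤)) = ⊤ := by
      rw [Scheme.preimage_basicOpen_top, map_natCast]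
      exact X.basicOpen_of_isUnit hn
    have h2 : i.base y ∈ f ⁻¹ᵁ S.basicOpen (n : Γ(S, ⊤)) := h1.symm ▸ trivial
    show h.base y ∈ S.basicOpen _
    rw [← w]
    exact h2
  obtain ⟨_, ⟨U₀, hU₀, rfl⟩, hsU, hU₀n⟩ :=
    S.isBasis_affineOpens.exists_subset_of_mem_open hsn (S.basicOpen (n : Γ(S, ⊤))).isOpen
  let A := Γ(S, U₀)
  have hnA : IsUnit (n : A) := by
    have h1 := (RingedSpace.isUnit_res_basicOpen S.toRingedSpace (n : Γ(S, ⊤))).map
      (S.presheaf.map (homOfLE (show U₀ ≤ S.basicOpen (n : Γ(S, ⊤)) from hU₀n)).op).hom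
    rw [map_natCast, map_natCast] at h1
    exact h1
  haveI : Nontrivial A := by
    obtain ⟨p, -⟩ : s ∈ Set.range hU₀.fromSpec.base := by rw [hU₀.range_fromSpec]; exact hsU
    exact (p : PrimeSpectrum A).nontrivial
  have h0 : 0 < n := by
    rcases Nat.eq_zero_or_pos n with hn0 | hn0
    · rw [hn0, Nat.cast_zero] at hnA
      exact absurd hnA not_isUnit_zero
    · exact hn0
  obtain ⟨A', iA', _, ζ, hσe, hσs, hζ⟩ := exists_zeta A h0 hnA
  haveI := hσe
  let σ : Spec (CommRingCat.of A') ⟶ S := Spec.map (CommRingCat.ofHom (algebraMap A A')) ≫ hU₀.fromSpec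
  haveI : Etale σ := inferInstanceAs (Etale (Spec.map (CommRingCat.ofHom (algebraMap A A')) ≫ hU₀.fromSpec))
  obtain ⟨a, ha⟩ : ∃ a, σ.base a = s := by
    obtain ⟨p, hp⟩ : s ∈ Set.range hU₀.fromSpec.base := by rw [hU₀.range_fromSpec]; exact hsU
    obtain ⟨a, ha⟩ := hσs p
    exact ⟨a, (congrArg hU₀.fromSpec.base ha).trans hp⟩
  -- the pair over the new base
  let e₁ : pullback f σ ⟶ X := pullback.fst f σ
  let f₁ : pullback f σ ⟶ Spec (CommRingCat.of A') := pullback.snd f σ
  haveI : SmoothOfRelativeDimension (m + c) f₁ :=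
    (smoothOfRelativeDimension_isStableUnderBaseChange (m + c)).of_isPullback
      (IsPullback.of_hasPullback f σ) inferInstance
  let i₁ : pullback i e₁ ⟶ pullback f σ := pullback.snd i e₁
  let h₁ : pullback i e₁ ⟶ Spec (CommRingCat.of A') := i₁ ≫ f₁
  haveI : SmoothOfRelativeDimension m h₁ := by
    have sq : IsPullback (pullback.fst i e₁) h₁ h σ := by
      rw [← w]
      exact (IsPullback.of_hasPullback i e₁).paste_vert (IsPullback.of_hasPullback f σ)
    exact (smoothOfRelativeDimension_isStableUnderBaseChange m).of_isPullback sq inferInstance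
  haveI : IsClosedImmersion i₁ := MorphismProperty.pullback_snd _ _ inferInstance
  obtain ⟨x₁, hx₁, -⟩ := Scheme.Pullback.exists_preimage_pullback (f := f) (g := σ) x a (by
    rw [ha]; show f.base x = h.base y; rw [← hy, ← w]; rfl)
  obtain ⟨y₁, -, hy₁⟩ := Scheme.Pullback.exists_preimage_pullback (f := i) (g := e₁) y x₁ (hy.trans hx₁.symm)
  obtain ⟨W₁, e, he, g₀, hg₀, ⟨w₁, hw₁⟩, hrange⟩ := exists_chart f₁ h₁ i₁ m c rfl y₁
  -- trivialise the coefficients
  obtain ⟨WF, gF, hgF, wF, M, iM, fM, hwF, ⟨φ⟩⟩ := (EtCons.isFLC_iff_local F).1 hF x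
  haveI := hgF
  let e₂ : W₁ ⟶ X := e ≫ e₁
  haveI : Etale e₂ := inferInstanceAs (Etale (e ≫ e₁))
  have hex : e₂.base w₁ = x := by
    show e₁.base (e.base w₁) = x
    rw [hw₁]
    show e₁.base (i₁.base y₁) = x
    rw [show i₁.base y₁ = x₁ from hy₁]
    exact hx₁
  obtain ⟨z, hz, -⟩ := Scheme.Pullback.exists_preimage_pullback (f := e₂) (g := gF) w₁ wF (hex.trans hwF.symm)
  let p₁ : pullback e₂ gF ⟶ W₁ := pullback.fst e₂ gF
  let p₂ : pullback e₂ gF ⟶ WF := pullback.snd e₂ gF
  let g : pullback e₂ gF ⟶ X := p₁ ≫ e₂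
  haveI : Etale g := inferInstanceAs (Etale (pullback.fst e₂ gF ≫ e₂))
  let G : pullback e₂ gF ⟶ Spec (CommRingCat.of (MvPolynomial (Fin c) A')) := p₁ ≫ g₀
  haveI : Etale p₁ := inferInstanceAs (Etale (pullback.fst e₂ gF))
  haveI : Smooth G := inferInstanceAs (Smooth (p₁ ≫ g₀))
  have hgx : g.base z = x := by
    show e₂.base (p₁.base z) = x
    rw [show p₁.base z = w₁ from hz]
    exact hex
  refine ⟨_, g, inferInstance, ⟨z, hgx⟩, ?_⟩
  -- coefficients on the chart
  have φ' : (EtCoh.pull g).obj F ≅ EtCoh.const _ M :=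
    (EtCore.pullCongr (pullback.condition : p₁ ≫ e₂ = p₂ ≫ gF)).app F ≪≫ (EtCore.pullComp p₂ gF).app F ≪≫
      (EtCoh.pull p₂).mapIso φ ≪≫ EtCore.pullConst p₂ M
  have hM : ∀ b : M, n • b = 0 := by
    refine nsmul_eq_zero_of_killedBy wF ?_
    have h1 := killedBy_pull gF hFn
    haveI : (EtCoh.pull gF).Additive := (EtCoh.pullPushAdj gF).left_adjoint_additive
    exact EtCons.killedBy_of_mono φ.inv h1
  have hnA' : IsUnit (n : A') := by
    have := hnA.map (algebraMap A A')
    rwa [map_natCast] at this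
  have hu := purity_univ_const h0 c A' hnA' ζ hζ hc M hM
  have hnP : IsUnit (n : Γ(Spec (CommRingCat.of (MvPolynomial (Fin c) A')), ⊤)) := by
    have h1 := hnA'.map ((Scheme.ΓSpecIso (CommRingCat.of (MvPolynomial (Fin c) A'))).inv.hom.comp
      (MvPolynomial.C : A' →+* MvPolynomial (Fin c) A'))
    rwa [map_natCast] at h1
  have hkill : EtCoh.KilledBy n (EtCoh.const (Spec (CommRingCat.of (MvPolynomial (Fin c) A'))) M) := fun T s => by
    have h1 : (n • 𝟙 (AddCommGrpCat.of (ULift.{u + 1} M))) = 0 := by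
      apply AddCommGrpCat.hom_ext
      refine AddMonoidHom.ext fun b => ?_
      rw [AddCommGrpCat.hom_nsmul]
      exact ULift.ext _ _ (hM b.down)
    revert s
    revert T
    show EtCoh.KilledBy n _
    rw [EtBCQ.killedBy_iff]
    let Φ := constantSheaf (Spec (CommRingCat.of (MvPolynomial (Fin c) A'))).smallEtaleTopology AddCommGrpCat.{u + 1}
    haveI : Φ.Additive := Functor.additive_of_preserves_binary_products _
    have h2 := congrArg Φ.map h1
    rw [Functor.map_nsmul, Φ.map_id, Functor.map_zero] at h2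
    exact h2
  have hp := purity_pull G (pullback.snd (origin c A') G) (pullback.snd (offOrigin c A').ι G)
    (pullback.fst (origin c A') G) pullback.condition (Scheme.Pullback.range_snd _ _)
    (Scheme.Pullback.range_snd _ _) hc hnP hkill hu
  have hpre : g.base ⁻¹' Set.range i.base = G.base ⁻¹' Set.range (origin c A').base := by
    simp only [g, G, e₂, Scheme.Hom.comp_base, TopCat.coe_comp, Set.preimage_comp]
    rw [← hrange, show Set.range i₁.base = e₁.base ⁻¹' Set.range i.base from Scheme.Pullback.range_snd i e₁]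
  refine (purity_congr _ _ _ _ ?_ ?_ (hp.of_iso (EtCore.pullConst G M ≪≫ φ'.symm)))
  · rw [Scheme.Pullback.range_snd, Scheme.Pullback.range_snd, hpre]
  · rw [Scheme.Pullback.range_snd, Scheme.Pullback.range_snd,
      show Set.range j.base = (Set.range i.base)ᶜ from hU, range_ι, Set.preimage_compl, hpre]
    exact Set.preimage_compl.symm

end Groth.Agent.EtPur
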