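import Groth.Agent.EtPur.GysinSplit
import Groth.Agent.EtPur.ProjBundleH
import Groth.Agent.EtPBC.IsoAt
import Groth.Agent.EtPBC.GeomPt
import Groth.Agent.EtPBC.CdFibre
import Groth.Agent.Unibranch.Chains
import Groth.Agent.S1585
import Mathlib

/-!
# Cohomology in degree two and isomorphisms away from closed points
-/

set_option autoImplicit false
set_option backward.isDefEq.respectTransparency false
set_option backward.isDefEq.respectTransparency.types false
set_option linter.style.haveILetI false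
set_option linter.unusedSectionVars false
set_option linter.overlappingInstances false
set_option linter.auxLemma false
set_option maxHeartbeats 1000000
set_option synthInstance.maxHeartbeats 400000

universe u

open CategoryTheory CategoryTheory.Limits CategoryTheory.Abelian AlgebraicGeometry Opposite

noncomputable section

namespace Groth.Agent.EtPur

open EtPBC (IsoAt SuppClosed zeroAt_of_epi isoAt_iff exists_geomPt)

attribute [local instance 100000] EtCoh.H._proof_1 Groth.Agent.EtMV.hext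
attribute [local instance 200000] Groth.Agent.EtMV.hextAb

/-- cohomology from degree two on does not see the closed points -/
theorem bijective_H_map_of_isoAt {X : Scheme.{u}} [IsNoetherian X]
    (hsep : ∀ x : X, IsClosed ({x} : Set X) → IsSepClosed (X.residueField x)) {F G : EtCoh.Ab X} (f : F ⟶ G)
    (hf : ∀ x : X, ¬ IsClosed ({x} : Set X) → IsoAt f x) (q : ℕ) :
    Function.Bijective ((Ext.mk₀ f).postcomp (EtCoh.const X ℤ) (add_zero (q + 2))) := by
  let p : F ⟶ cokernel (kernel.ι f) := cokernel.π (kernel.ι f)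
  let v : cokernel (kernel.ι f) ⟶ G := cokernel.desc _ f (kernel.condition f)
  have hpv : p ≫ v = f := cokernel.π_desc _ _ _
  haveI : Mono v := (ShortComplex.exact_iff_mono_cokernel_desc
    (ShortComplex.mk (kernel.ι f) f (kernel.condition f))).1
    (ShortComplex.exact_of_f_is_kernel _ (kernelIsKernel f))
  have hA : (ShortComplex.mk (kernel.ι f) p (cokernel.condition _)).ShortExact :=
    { exact := ShortComplex.exact_of_g_is_cokernel _ (cokernelIsCokernel _) }
  have hB : (ShortComplex.mk v (cokernel.π v) (cokernel.condition v)).ShortExact :=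
    { exact := ShortComplex.exact_of_g_is_cokernel _ (cokernelIsCokernel _) }
  have hw : f ≫ cokernel.π v = 0 := by
    exact (congrArg (· ≫ cokernel.π v) hpv.symm).trans
      ((Category.assoc _ _ _).trans ((congrArg (p ≫ ·) (cokernel.condition v)).trans comp_zero))
  have hK : SuppClosed (kernel f) := fun x hx => (hf x hx).1
  have hC : SuppClosed (cokernel v) := fun x hx => by
    haveI : Epi (cokernel.desc f (cokernel.π v) hw) := epi_of_epi_fac (cokernel.π_desc f (cokernel.π v) hw)
    exact zeroAt_of_epi (cokernel.desc f (cokernel.π v) hw) (hf x hx).2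
  have hK' : ∀ r, Subsingleton (Ext (EtCoh.const X ℤ) (kernel f) (r + 1)) := fun r =>
    EtPBC.subsingleton_H_of_suppClosed hsep _ hK (r + 1) r.succ_pos
  have hC' : ∀ r, Subsingleton (Ext (EtCoh.const X ℤ) (cokernel v) (r + 1)) := fun r =>
    EtPBC.subsingleton_H_of_suppClosed hsep _ hC (r + 1) r.succ_pos
  have hp : Function.Bijective ((Ext.mk₀ p).postcomp (EtCoh.const X ℤ) (add_zero (q + 2))) :=
    ⟨(injective_iff_map_eq_zero _).2 fun z hz => by
      obtain ⟨w, hw'⟩ := Ext.covariant_sequence_exact₂ (EtCoh.const X ℤ) hA z hz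
      haveI := hK' (q + 1)
      rw [← hw', Subsingleton.elim w 0, Ext.zero_comp],
    fun y => Ext.covariant_sequence_exact₃ (EtCoh.const X ℤ) hA y (rfl : q + 2 + 1 = q + 3)
      (@Subsingleton.elim _ (hK' (q + 2)) _ _)⟩
  have hv : Function.Bijective ((Ext.mk₀ v).postcomp (EtCoh.const X ℤ) (add_zero (q + 2))) :=
    ⟨(injective_iff_map_eq_zero _).2 fun z hz => by
      obtain ⟨w, hw'⟩ := Ext.covariant_sequence_exact₁ (EtCoh.const X ℤ) hB z hz (rfl : q + 1 + 1 = q + 2)
      haveI := hC' q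
      rw [← hw', Subsingleton.elim w 0, Ext.zero_comp],
    fun y => Ext.covariant_sequence_exact₂ (EtCoh.const X ℤ) hB y (@Subsingleton.elim _ (hC' (q + 1)) _ _)⟩
  refine (funext fun z => ?_ : ⇑((Ext.mk₀ f).postcomp (EtCoh.const X ℤ) (add_zero (q + 2))) =
    ⇑((Ext.mk₀ v).postcomp (EtCoh.const X ℤ) (add_zero (q + 2))) ∘
      ⇑((Ext.mk₀ p).postcomp (EtCoh.const X ℤ) (add_zero (q + 2)))) ▸ hv.comp hp
  show Ext.comp z (Ext.mk₀ f) (add_zero _) = Ext.comp (Ext.comp z (Ext.mk₀ p) (add_zero _)) (Ext.mk₀ v) (add_zero _)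
  rw [Ext.comp_assoc_of_second_deg_zero, Ext.mk₀_comp_mk₀, hpv]

/-- the unit of a finite morphism which is an isomorphism over an open set is bijective there -/
theorem isoAt_unit_of_isIso_restrict {X Y : Scheme.{u}} (ν : Y ⟶ X) [IsFinite ν] (D : X.Opens) [IsIso (ν ∣_ D)]
    (n : ℕ) [NeZero n] {x : X} (hx : x ∈ D) :
    IsoAt ((EtCoh.pullPushAdj ν).unit.app (EtCoh.const X (ZMod n))) x := by
  let u := (EtCoh.pullPushAdj ν).unit.app (EtCoh.const X (ZMod n))
  obtain ⟨y, hy⟩ := (ν ∣_ D).surjective ⟨x, hx⟩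
  have hyx : ν y.1 = x := (morphismRestrict_base_coe ν D y).symm.trans (congrArg Subtype.val hy)
  obtain ⟨Ω, _, _, ζ, hζ⟩ := exists_geomPt y.1
  let ξ := ζ ≫ ν
  have hξ : ξ (default : ↥(Spec (CommRingCat.of Ω))) = x := by rw [Scheme.Hom.comp_apply, hζ, hyx]
  refine (isoAt_iff hξ u).2 ?_
  have hinj : Function.Injective ((EtCoh.stalk ξ).map u) := by
    have e := EtPushStalk.stalkPullIso_hom_eq ν ζ (EtCoh.const X (ZMod n))
    have h1' : Function.Injective ((EtCoh.stalk ξ).map u ≫
        EtPushStalk.stalkPushHom ν ζ ((EtCoh.pull ν).obj (EtCoh.const X (ZMod n)))) := by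
      rw [← e]
      exact ((ConcreteCategory.isIso_iff_bijective _).1 inferInstance).1
    have h1 : Function.Injective (⇑(EtPushStalk.stalkPushHom ν ζ ((EtCoh.pull ν).obj (EtCoh.const X (ZMod n)))) ∘
        ⇑((EtCoh.stalk ξ).map u)) := h1'
    exact h1.of_comp
  haveI : IsIso (pullback.snd ν ξ) := by
    let l := IsOpenImmersion.lift D.ι ξ (by
      rw [Scheme.Opens.range_ι]; rintro _ ⟨z, rfl⟩; rw [Subsingleton.elim z default, hξ]; exact hx)
    have hl : l ≫ D.ι = ξ := IsOpenImmersion.lift_fac _ _ _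
    haveI : IsIso (pullback.snd ν D.ι) := by
      rw [← pullbackRestrictIsoRestrict_hom_morphismRestrict ν D]
      infer_instance
    have e : pullback.snd ν (l ≫ D.ι) =
        (pullbackLeftPullbackSndIso ν D.ι l).inv ≫ pullback.snd (pullback.snd ν D.ι) l := by
      rw [Iso.eq_inv_comp, pullbackLeftPullbackSndIso_hom_snd]
    rw [← hl, e]
    infer_instance
  obtain ⟨e⟩ := EtPBC.nonempty_stalk_Rpush_iso ν ξ (EtCoh.const Y (ZMod n))
    (EtPBC.isLTorsion_univ_of_killedBy (NeZero.pos n) (killedBy_const (ZMod n) fun c => by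
      rw [nsmul_eq_mul, ZMod.natCast_self, zero_mul])) 0
  obtain ⟨c⟩ := nonempty_H_const_congr (inv (pullback.snd ν ξ)) (ZMod n) 0
  haveI : ConnectedSpace ↥(Spec (CommRingCat.of Ω)) := by
    haveI : IrreducibleSpace ↥(Spec (CommRingCat.of Ω)) := inferInstanceAs (IrreducibleSpace (PrimeSpectrum Ω))
    infer_instance
  obtain ⟨d⟩ := nonempty_H_zero_const (Spec (CommRingCat.of Ω)) (ZMod n)
  let a := (((e ≪≫ (EtCoh.HF (pullback ν ξ) 0).mapIso
    (EtCore.pullConst (pullback.fst ν ξ) (ZMod n))).addCommGroupIsoToAddEquiv).trans c).trans d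
  let eT := ((EtCoh.stalk ξ).mapIso (EtPBC.pushZeroIso ν (EtCoh.const Y (ZMod n)) ≪≫
    (EtCoh.push ν).mapIso (EtCore.pullConst ν (ZMod n)).symm)).symm.addCommGroupIsoToAddEquiv.trans a
  haveI : Finite ((EtCoh.stalk ξ).obj ((EtCoh.pull ν ⋙ EtCoh.push ν).obj (EtCoh.const X (ZMod n))) : Type (u + 1)) :=
    Finite.of_equiv _ eT.toEquiv.symm
  refine Function.Injective.bijective_of_nat_card_le hinj (le_of_eq ((Nat.card_congr eT.toEquiv).trans ?_))
  rw [Nat.card_zmod]
  exact ((EtAcycX.card_stalk_const _).trans (Nat.card_zmod n)).symm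

/-- **pulling back to the normalization is bijective in degree two** -/
theorem bijective_Hpull_normalization (k : Type u) [Field k] [IsAlgClosed k] (X : Scheme.{u})
    (f : X ⟶ Spec (CommRingCat.of k)) [IsSeparated f] [LocallyOfFiniteType f] [QuasiCompact f] [IsIntegral X]
    (hdim : topologicalKrullDim X = 1)
    [QuasiCompact (X.fromSpecStalk (genericPoint X))] [QuasiSeparated (X.fromSpecStalk (genericPoint X))]
    [PreservesFiniteLimits (EtCoh.pull (Curv2.normalizationι X))]
    (n : ℕ) (hn : 1 ≤ n) (hnk : (n : k) ≠ 0) :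
    Function.Bijective (EtCore.Hpull (Curv2.normalizationι X) (EtCoh.mu X n) 2) := by
  letI : X.Over (Spec (CommRingCat.of k)) := ⟨f⟩
  haveI : LocallyOfFiniteType (X ↘ Spec (CommRingCat.of k)) := ‹LocallyOfFiniteType f›
  obtain ⟨hfin, -, ⟨D, ⟨x₀, hx₀⟩, hD⟩, -, -⟩ := Groth.Agent.S1585.result k X
  let ν := Curv2.normalizationι X
  haveI : IsFinite ν := hfin
  haveI := hD
  haveI : NeZero n := ⟨by omega⟩
  haveI : IsLocallyNoetherian X := LocallyOfFiniteType.isLocallyNoetherian f
  haveI : CompactSpace X := QuasiCompact.compactSpace_of_compactSpace f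
  haveI : IsNoetherian X := {}
  obtain ⟨μ⟩ : Nonempty (EtCoh.mu X n ≅ EtCoh.const X (ZMod n)) := by
    obtain ⟨ζ, hζ⟩ := exists_zeta_sepClosed k hnk
    let ψ := ((Scheme.ΓSpecIso (CommRingCat.of k)).inv ≫ f.appTop).hom
    refine KummerLib.nonempty_mu_iso_const n (by omega) ?_ (ψ ζ) ?_
    · have h1 := (isUnit_iff_ne_zero.2 hnk).map ψ
      rwa [map_natCast] at h1
    · have := congrArg ψ hζ
      rw [map_zero] at this
      rw [← this]
      exact Polynomial.aeval_algHom_apply ψ.toIntAlgHom _ _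
  let η := (EtCoh.pullPushAdj ν).unit
  have hiso : ∀ x : X, ¬ IsClosed ({x} : Set X) → IsoAt (η.app (EtCoh.mu X n)) x := fun x hx => by
    have hxg : x = genericPoint X := by
      by_contra hne
      obtain ⟨y, hy, hyx⟩ : ∃ y, x ⤳ y ∧ x ≠ y := by
        by_contra h
        push Not at h
        refine hx (closure_subset_iff_isClosed.1 fun y hy => ?_)
        exact (h y (specializes_iff_mem_closure.2 hy)).symm
      have h2 := Unibranch.natCast_le_topologicalKrullDim (α := X) (k := 2) ![genericPoint X, x, y] fun i => by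
        fin_cases i
        · exact ⟨genericPoint_specializes _, Ne.symm hne⟩
        · exact ⟨hy, hyx⟩
      rw [hdim] at h2
      exact absurd h2 (by decide)
    have hxD : x ∈ D := hxg ▸ (genericPoint_spec X).mem_open_set_iff D.2 |>.2 ⟨x₀, trivial, hx₀⟩
    obtain ⟨Ω, _, _, ξ, hξ⟩ := exists_geomPt x
    have h := (isoAt_iff hξ _).1 (isoAt_unit_of_isIso_restrict ν D n hxD)
    refine (isoAt_iff hξ _).2 ?_
    haveI : IsIso ((EtCoh.stalk ξ).map (η.app (EtCoh.const X (ZMod n)))) := (ConcreteCategory.isIso_iff_bijective _).2 h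
    haveI : IsIso ((EtCoh.stalk ξ).map (η.app (EtCoh.mu X n))) := by
      have e := congrArg (EtCoh.stalk ξ).map (η.naturality μ.hom)
      rw [Functor.map_comp, Functor.map_comp, Functor.id_map] at e
      haveI : IsIso ((EtCoh.stalk ξ).map (η.app (EtCoh.mu X n)) ≫
          (EtCoh.stalk ξ).map ((EtCoh.pull ν ⋙ EtCoh.push ν).map μ.hom)) := by
        rw [← e]; infer_instance
      exact IsIso.of_isIso_comp_right _ ((EtCoh.stalk ξ).map ((EtCoh.pull ν ⋙ EtCoh.push ν).map μ.hom))
    exact (ConcreteCategory.isIso_iff_bijective _).1 inferInstance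
  let G := (EtCoh.pull ν).obj (EtCoh.mu X n)
  have hU : Function.Bijective (EtMV.U (EtCoh.pullPushAdj ν) (EtMV.pc ν) G 2) := by
    haveI := EtMV.isIso_pc ν
    exact EtMV.U_push_bijective ν (EtMV.pc ν) G (fun q => EtIntegral.Rpush_succ_isZero ν G q) 2
  have hb := bijective_H_map_of_isoAt (fun x hx => EtPBC.isSepClosed_of_isClosed f x hx) _ hiso 0
  refine (funext fun z => ?_ : ⇑(EtCore.Hpull ν (EtCoh.mu X n) 2) = ⇑(EtMV.U (EtCoh.pullPushAdj ν) (EtMV.pc ν) G 2) ∘
    ⇑((Ext.mk₀ (η.app (EtCoh.mu X n))).postcomp (EtCoh.const X ℤ) (add_zero (0 + 2)))) ▸ hU.comp hb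
  rw [← HpullTo_id ν (EtCoh.mu X n) 2]
  refine (HpullTo_eq ν (𝟙 G) 2 z).trans ?_
  have e : η.app (EtCoh.mu X n) ≫ (EtCoh.push ν).map (𝟙 G) = η.app (EtCoh.mu X n) :=
    (congrArg (η.app (EtCoh.mu X n) ≫ ·) ((EtCoh.push ν).map_id G)).trans (Category.comp_id _)
  exact congrArg (fun t => EtMV.U (EtCoh.pullPushAdj ν) (EtMV.pc ν) G 2 (z.comp (Ext.mk₀ t) (add_zero 2))) e

end Groth.Agent.EtPur
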