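import Groth.Agent.EtPur.Line
import Groth.Agent.EtPBC.CdModel
import Mathlib

/-!
# The charts of the projective line and the section at infinity
-/

set_option autoImplicit false
set_option backward.isDefEq.respectTransparency false
set_option backward.isDefEq.respectTransparency.types false
set_option linter.style.haveILetI false
set_option linter.unusedSectionVars false
set_option maxHeartbeats 1000000
set_option synthInstance.maxHeartbeats 400000

universe u

open CategoryTheory CategoryTheory.Limits AlgebraicGeometry Opposite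
open scoped TensorProduct

noncomputable section

namespace Groth.Agent.EtPur

attribute [local instance 2000] Algebra.toModule

variable (A : Type u) [CommRing A]

/-- the projection to the line over the integers -/
abbrev p1Fst : P1X A ⟶ CohB1.ProjSpace 1 P1.R0.{u} := pullback.fst _ _

/-- the points of a chart -/
theorem range_lineC (i : Fin (1 + 1)) : Set.range (lineC A i).base =
    (p1Fst A).base ⁻¹' Set.range (Proj.awayι P1.grading.{u} (P1.T i) (P1.X_mem i) one_pos).base := by
  letI := intAlg A
  have h : Set.range (lineC A i).base = Set.range (REqP1.chartOver A i).base := by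
    unfold lineC
    rw [Scheme.Hom.comp_base, TopCat.coe_comp, Set.range_comp, Set.range_eq_univ.2 (Scheme.Hom.surjective _),
      Set.image_univ]
  rw [h]
  ext z
  constructor
  · rintro ⟨w, rfl⟩
    exact ⟨_, congr($((REqP1.chartOver_isPullback A i).w.symm) w)⟩
  · rintro ⟨w, hw⟩
    obtain ⟨q, hq, -⟩ := Scheme.exists_preimage_of_isPullback (REqP1.chartOver_isPullback A i) z w hw.symm
    exact ⟨q, hq⟩

theorem lineC_toBase (i : Fin (1 + 1)) :
    lineC A i ≫ CohB1.ProjSpaceOver.toBase 1 (Spec (CommRingCat.of A)) =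
      Spec.map (CommRingCat.ofHom (Polynomial.C : A →+* Polynomial A)) := by
  letI := intAlg A
  rw [lineC, Category.assoc, REqP1.chartOver_toBase, ← Spec.map_comp]
  exact congrArg Spec.map (CommRingCat.hom_ext (RingHom.ext fun a => EtPBC.chartOverEquiv_includeRight A a))

theorem chartOverEquiv_X [Algebra P1.R0.{u} A] :
    REqP1.chartOverEquiv A ((Polynomial.X : Polynomial P1.R0.{u}) ⊗ₜ[P1.R0.{u}] (1 : A)) = Polynomial.X := by
  simp [REqP1.chartOverEquiv]

/-- **the charts meet where the coordinate is invertible** -/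
theorem preimage_range_lineC (i : Fin (1 + 1)) :
    (lineC A i).base ⁻¹' Set.range (lineC A (i + 1)).base =
      (PrimeSpectrum.basicOpen (Polynomial.X : Polynomial A) : Set (PrimeSpectrum (Polynomial A))) := by
  letI := intAlg A
  let φ : REqP1.Chart.{u} i →+* Polynomial A := (REqP1.chartOverEquiv A).toRingHom.comp
    (((Algebra.TensorProduct.includeLeft (S := P1.R0.{u}) :
        Polynomial P1.R0.{u} →ₐ[P1.R0.{u}] REqP1.ChartOver A).toRingHom).comp (REqP1.chartEquiv i).toRingHom)
  have hf : lineC A i ≫ p1Fst A = Spec.map (CommRingCat.ofHom φ) ≫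
      Proj.awayι P1.grading (P1.T i) (P1.X_mem i) one_pos := by
    rw [lineC, Category.assoc, REqP1.chartOver_fst, ← Category.assoc, ← Spec.map_comp]
    rfl
  rw [range_lineC, ← Set.preimage_comp, ← TopCat.coe_comp, ← Scheme.Hom.comp_base, hf, Scheme.Hom.comp_base,
    TopCat.coe_comp, Set.preimage_comp, ← Scheme.Hom.coe_opensRange, Proj.opensRange_awayι]
  erw [show (Proj.awayι P1.grading.{u} (P1.T i) (P1.X_mem i) one_pos).base ⁻¹' (Proj.basicOpen P1.grading (P1.T (i + 1)) : Set _) =
    ((Proj.awayι P1.grading.{u} (P1.T i) (P1.X_mem i) one_pos ⁻¹ᵁ Proj.basicOpen P1.grading (P1.T (i + 1))) : Set _) from rfl,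
    Proj.awayι_preimage_basicOpen P1.grading (P1.X_mem i) one_pos (P1.X_mem (i + 1)) one_pos]
  ext P
  show φ _ ∉ P.asIdeal ↔ (Polynomial.X : Polynomial A) ∉ P.asIdeal
  have hφ : φ (HomogeneousLocalization.Away.mk P1.grading (P1.X_mem i) 1 (P1.T (i + 1) ^ 1)
      (by simpa using P1.X_mem (i + 1))) = Polynomial.X := by
    show REqP1.chartOverEquiv A ((P1.chartMap.{u} i (Polynomial P1.R0.{u}) Polynomial.X
      (HomogeneousLocalization.Away.mk P1.grading (P1.X_mem i) 1 (P1.T (i + 1) ^ 1) _)) ⊗ₜ[P1.R0.{u}] (1 : A)) = _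
    rw [REqP1.chartMap_mk, map_pow, MvPolynomial.eval₂Hom_X', Function.update_of_ne (REqP1.ne_succ i), pow_one]
    exact chartOverEquiv_X A
  exact (congrArg (fun t => t ∉ P.asIdeal) hφ).to_iff

theorem range_lineC_union : Set.range (lineC A 0).base ∪ Set.range (lineC A 1).base = Set.univ := by
  letI := intAlg A
  refine Set.eq_univ_of_forall fun z => ?_
  obtain ⟨i, w, hw⟩ := REqP1.exists_mem_chart A z
  have h : z ∈ Set.range (lineC A i).base := by
    rw [range_lineC]
    exact ⟨_, (congr($((REqP1.chartOver_isPullback A i).w.symm) w)).trans (congrArg (p1Fst A).base hw)⟩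
  fin_cases i
  · exact Or.inl h
  · exact Or.inr h

/-- the zero of the line -/
abbrev zeroSect : Spec (CommRingCat.of A) ⟶ Spec (CommRingCat.of (Polynomial A)) :=
  Spec.map (CommRingCat.ofHom (Polynomial.evalRingHom (0 : A)))

instance isClosedImmersion_zeroSect : IsClosedImmersion (zeroSect A) :=
  IsClosedImmersion.spec_of_surjective _ fun a => ⟨Polynomial.C a, by simp⟩

theorem range_zeroSect : Set.range (zeroSect A).base =
    ((PrimeSpectrum.basicOpen (Polynomial.X : Polynomial A) : Set (PrimeSpectrum (Polynomial A))))ᶜ := by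
  show Set.range (PrimeSpectrum.comap (Polynomial.evalRingHom (0 : A))) = _
  rw [range_comap_of_surjective _ _ fun a => ⟨Polynomial.C a, by simp⟩,
    PrimeSpectrum.basicOpen_eq_zeroLocus_compl, compl_compl, ← PrimeSpectrum.zeroLocus_span {Polynomial.X}]
  congr 1
  rw [Polynomial.ker_evalRingHom, map_zero, sub_zero]

/-- the section at infinity -/
def infSect : Spec (CommRingCat.of A) ⟶ P1X A := zeroSect A ≫ lineC A 1

theorem infSect_toBase : infSect A ≫ CohB1.ProjSpaceOver.toBase 1 (Spec (CommRingCat.of A)) = 𝟙 _ := by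
  rw [infSect, Category.assoc, lineC_toBase, ← Spec.map_comp, ← CommRingCat.ofHom_comp]
  rw [show (Polynomial.evalRingHom (0 : A)).comp Polynomial.C = RingHom.id A from RingHom.ext fun a => by simp,
    CommRingCat.ofHom_id, Spec.map_id]

instance isClosedImmersion_infSect : IsClosedImmersion (infSect A) :=
  haveI : IsClosedImmersion (infSect A ≫ CohB1.ProjSpaceOver.toBase 1 (Spec (CommRingCat.of A))) := by
    rw [infSect_toBase]; infer_instance
  IsClosedImmersion.of_comp (infSect A) (CohB1.ProjSpaceOver.toBase 1 (Spec (CommRingCat.of A)))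

theorem range_infSect : Set.range (infSect A).base = (Set.range (lineC A 0).base)ᶜ := by
  have h := preimage_range_lineC A 1
  rw [show (1 : Fin (1 + 1)) + 1 = 0 from rfl] at h
  ext z
  constructor
  · rintro ⟨a, rfl⟩ hz
    have h1 : (zeroSect A).base a ∈ (lineC A 1).base ⁻¹' Set.range (lineC A 0).base := hz
    rw [h] at h1
    exact (range_zeroSect A).le ⟨a, rfl⟩ h1
  · intro hz
    rcases (range_lineC_union A).ge (Set.mem_univ z) with h0 | ⟨w, rfl⟩
    · exact absurd h0 hz
    · have h1 : w ∉ (lineC A 1).base ⁻¹' Set.range (lineC A 0).base := hz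
      rw [h] at h1
      obtain ⟨a, rfl⟩ := (range_zeroSect A).ge h1
      exact ⟨a, rfl⟩

theorem zeroSect_comp_lineC : zeroSect A ≫ lineC A 1 = infSect A := rfl

end Groth.Agent.EtPur
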