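import Groth.Agent.EtPur.RegStalk
import Groth.Agent.EtPur.LineCore
import Groth.Agent.EtPur.LocalUnit
import Groth.Agent.EtDepthX.SemiPurSmooth
import Groth.Agent.EtMV.ConstUnit
import Groth.Agent.SectionExt.Basic
import Groth.Agent.SmLocalST.EtReg
import Mathlib

/-!
# Absolute purity for regular divisors
-/

set_option autoImplicit false
set_option backward.isDefEq.respectTransparency false
set_option backward.isDefEq.respectTransparency.types false
set_option linter.auxLemma false
set_option linter.style.haveILetI false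
set_option linter.unusedSectionVars false
set_option maxHeartbeats 1000000
set_option synthInstance.maxHeartbeats 400000

universe u

open CategoryTheory CategoryTheory.Limits AlgebraicGeometry Opposite IsLocalRing
open Groth.Agent.EtFLC (res res_res res_id)
open Groth.Agent.EtMV (oo)
open Groth.Agent.EtPicLib
open Groth.Agent.QC (resO)

noncomputable section

namespace Groth.Agent.EtPur

attribute [local instance 100000] EtCoh.H._proof_1 Groth.Agent.EtMV.hext
attribute [local instance 200000] Groth.Agent.EtMV.hextAb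

variable {X D U : Scheme.{u}} [IsNoetherian X] (i : D ⟶ X) [IsClosedImmersion i] (j : U ⟶ X) [IsOpenImmersion j]

/-- roots of unity extend across a divisor of a regular scheme -/
theorem isIso_unit_mu_regular (hX : ∀ x : X, IsRegularLocalRing (X.presheaf.stalk x))
    (hcodim : ∀ y : D, ringKrullDim (X.presheaf.stalk (i.base y)) = ringKrullDim (D.presheaf.stalk y) + 1)
    (hU : Set.range j = (Set.range i)ᶜ) {n : ℕ} (h0 : 0 < n) (hn : IsUnit (n : Γ(X, ⊤))) :
    IsIso ((EtCoh.pullPushAdj j).unit.app (EtCoh.mu X n)) := by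
  refine isIso_unit_of_local j _ fun x => ?_
  obtain ⟨W', e, he, hs, ⟨a⟩⟩ := EtMV.exists_trivializing_cover X n h0 hn
  obtain ⟨w, hw⟩ := hs x
  haveI := he
  haveI : IsLocallyNoetherian W' := LocallyOfFiniteType.isLocallyNoetherian e
  have hreg : ∀ v : W', IsRegularLocalRing (W'.presheaf.stalk v) := fun v =>
    SmLocalST.isRegularLocalRing_stalk_of_etale e v (hX _)
  haveI := hreg w
  haveI : IsDomain (W'.presheaf.stalk w) := Groth.Agent.S0558.result _
  obtain ⟨O, hwO, -, hO, -⟩ := SectionExt.exists_integral_nhd w ⊤ trivial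
  haveI := hO
  let g : O.toScheme ⟶ X := O.ι ≫ e
  haveI : Etale g := inferInstanceAs (Etale (O.ι ≫ e))
  refine ⟨O.toScheme, g, inferInstance, ⟨⟨w, hwO⟩, hw⟩, ?_⟩
  obtain ⟨b⟩ := nonempty_pull_mu g n
  obtain ⟨c⟩ := nonempty_pull_mu O.ι n
  obtain ⟨d⟩ := nonempty_pull_mu e n
  haveI : NeZero n := ⟨h0.ne'⟩
  have μc : (EtCoh.pull g).obj (EtCoh.mu X n) ≅ EtCoh.const O.toScheme (ZMod n) :=
    (EtCore.pullComp O.ι e).app _ ≪≫ (EtCoh.pull O.ι).mapIso (d ≪≫ a) ≪≫ EtCore.pullConst O.ι _
  refine (NatTrans.isIso_app_iff_of_iso _ μc.symm).1 ?_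
  have hregO : ∀ v : O.toScheme, IsRegularLocalRing (O.toScheme.presheaf.stalk v) := fun v => by
    haveI := hreg (O.ι.base v)
    exact IsRegularLocalRing.of_ringEquiv (asIso (O.ι.stalkMap v)).commRingCatIsoToRingEquiv
  have hN : ∀ v : O.toScheme, IsIntegrallyClosed (O.toScheme.presheaf.stalk v) := fun v => by
    haveI := hregO v
    exact RegLoc.isIntegrallyClosed
  -- the generic point avoids the divisor
  let η := genericPoint O.toScheme
  have hη : g.base η ∈ Set.range j.base := by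
    rw [show Set.range j.base = (Set.range i.base)ᶜ from hU]
    rintro ⟨y, hy⟩
    have h1 := (EtDepthX.depthAtGE_const_weaklyEtale_iff g η 2 0).2
    have h2 : ringKrullDim (O.toScheme.presheaf.stalk η) = 0 := by
      exact ringKrullDim_eq_zero_of_field O.toScheme.functionField
    have h3 := hcodim y
    rw [show i.base y = g.base η from hy, ← h1, h2] at h3
    haveI : Nontrivial (D.presheaf.stalk y) := inferInstance
    have h4 : (0 : WithBot ℕ∞) + 1 ≤ ringKrullDim (D.presheaf.stalk y) + 1 :=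
      add_le_add_left (ringKrullDim_nonneg_of_nontrivial (R := D.presheaf.stalk y)) 1
    rw [← h3, zero_add] at h4
    exact absurd h4 (by decide)
  obtain ⟨z, -, hz⟩ := Scheme.Pullback.exists_preimage_pullback (f := j) (g := g) hη.choose η hη.choose_spec
  haveI : Nonempty (pullback j g : Scheme.{u}) := ⟨z⟩
  haveI : IsIntegral (pullback j g : Scheme.{u}) := isIntegral_of_isOpenImmersion (pullback.snd j g)
  exact EtMV.isIso_unit_const (EtMV.irrNhd_of_normal hN) (pullback.snd j g)
    (genericPoint_eq_of_isOpenImmersion (pullback.snd j g))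

/-- **`R¹j_* μ_n` is `i_* ℤ/n` along a regular divisor** -/
theorem nonempty_rpush_mu_regular (hX : ∀ x : X, IsRegularLocalRing (X.presheaf.stalk x))
    (hD : ∀ y : D, IsRegularLocalRing (D.presheaf.stalk y))
    (hcodim : ∀ y : D, ringKrullDim (X.presheaf.stalk (i.base y)) = ringKrullDim (D.presheaf.stalk y) + 1)
    (hU : Set.range j = (Set.range i)ᶜ) (n : ℕ) (h0 : 0 < n) (hn : IsUnit (n : Γ(X, ⊤))) :
    Nonempty ((EtCoh.Rpush j 1).obj (EtCoh.mu U n) ≅ (EtCoh.push i).obj (EtCoh.const D (ZMod n))) := by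
  classical
  haveI : QuasiCompact j := inferInstance
  have hnU : IsUnit (n : Γ(U, ⊤)) := by
    have := hn.map j.appTop.hom
    rwa [map_natCast] at this
  have hm : Epi (EtCoh.powMap U n) := Groth.Agent.S0108.result U n hnU
  have hXe : Epi (EtCoh.powMap X n) := Groth.Agent.S0108.result X n hn
  let N := (EtCoh.Rpush j 1).obj (EtCoh.mu U n)
  let ι := {p : Σ W : X.Opens, (Γ(X, W) : Type u) // LocEq₀ i p.1 p.2}
  let P : ι → X.Opens := fun a => a.1.1
  let k : ∀ a : ι, EtCoh.sect N (oo (P a)) := fun a => kumClass j hm (a.2.unitOn j i hU)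
  let O₁ : X.Opens := ⟨(Set.range i.base)ᶜ, i.isClosedEmbedding.isClosed_range.isOpen_compl⟩
  have h1O : LocEq₀ i O₁ (1 : Γ(X, O₁)) := by
    refine ⟨?_, fun z hz _ => ?_, fun y hy => absurd ⟨y, rfl⟩ hy, fun y hy => absurd ⟨y, rfl⟩ hy⟩
    · have e : i ⁻¹ᵁ O₁ = ⊥ := by
        ext y
        exact ⟨fun h => (h ⟨y, rfl⟩).elim, fun h => h.elim⟩
      haveI : Subsingleton (Γ(D, i ⁻¹ᵁ O₁) : Type u) := by
        rw [e]
        exact CommRingCat.subsingleton_of_isTerminal D.sheaf.isTerminalOfEmpty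
      exact Subsingleton.elim _ _
    · exact (Scheme.mem_basicOpen X (1 : Γ(X, O₁)) z hz).2 (by rw [map_one]; exact isUnit_one)
  have hP : ∀ x, ∃ a, x ∈ P a := fun x => by
    by_cases hx : x ∈ Set.range i.base
    · obtain ⟨y, rfl⟩ := hx
      obtain ⟨W, t, hy, ht, -⟩ := exists_locEq₀ i hX hD hcodim y
      exact ⟨⟨⟨W, t⟩, ht⟩, hy⟩
    · exact ⟨⟨⟨O₁, 1⟩, h1O⟩, hx⟩
  have hcompat : ∀ a b, rr N (inf_le_left : P a ⊓ P b ≤ P a) (k a) = rr N (inf_le_right : P a ⊓ P b ≤ P b) (k b) :=
    fun a b => EtFLC.sect_ext N fun v => by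
      let v' : (P a ⊓ P b : X.Opens) := v
      obtain ⟨O, hO, hO', c, hzO, hc, e⟩ := a.2.exists_unit j i hU b.2 v'.1 v'.2.1 v'.2.2
      refine ⟨oo O, EtMV.res (le_inf hO hO'), (⟨v'.1, hzO⟩ : (O : X.Opens)), ?_, ?_⟩
      · apply Scheme.Opens.ι (P a ⊓ P b) |>.isOpenEmbedding.injective
        show (X.homOfLE (le_inf hO hO') ≫ (P a ⊓ P b).ι).base _ = _
        rw [Scheme.homOfLE_ι]
        rfl
      · show rr N (le_inf hO hO') (rr N inf_le_left (k a)) = rr N (le_inf hO hO') (rr N inf_le_right (k b))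
        rw [rr_rr, rr_rr, rr_kumClass, rr_kumClass]
        exact (kumClass_eq_of_mul j hm hXe hc _ _ e).symm
  obtain ⟨z, hz⟩ := glue_oo N P hP k hcompat
  have hnz : n • z = 0 := EtFLC.sect_ext N fun v => by
    obtain ⟨a, ha⟩ := hP (v : X)
    refine ⟨oo (P a), EtMV.toTop _, (⟨v, ha⟩ : (P a : X.Opens)), ?_, ?_⟩
    · have e : (EtMV.toTop (oo (P a))).left = (P a).ι :=
        (Category.comp_id _).symm.trans (MorphismProperty.Over.w (EtMV.toTop (oo (P a))))
      rw [e]
      rfl
    · show res N _ (n • z) = res N _ 0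
      rw [map_nsmul, map_zero, hz]
      exact nsmul_kumClass j hm _
  let φ : EtCoh.const X (ZMod n) ⟶ N := EtPBC.constHom (ZMod n) _ (ZMod.lift n
    ⟨zmultiplesHom _ z, by rw [zmultiplesHom_apply, natCast_zsmul]; exact hnz⟩)
  haveI : IsIso ((EtCoh.pull i).map φ) := by
    refine isIso_pull_of_stalks i φ fun y => ?_
    let x := i.base y
    obtain ⟨R, _, _, _, _, hR⟩ := EtBCQ.exists_sh (X.presheaf.stalk x)
    haveI := hR
    haveI : HenselianLocalRing R := hR.henselian
    haveI : IsSepClosed (ResidueField R) := hR.isSepClosure.1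
    haveI := hX x
    haveI : IsRegularLocalRing R :=
      (Hensel.strictHenselization_isRegularLocalRing_iff (R := X.presheaf.stalk x) (S := R)).2 (hX x)
    haveI : IsDomain R := Groth.Agent.S0558.result R
    haveI : UniqueFactorizationMonoid R := Groth.Agent.UFDLib.ufd_of_isRegularLocalRing R
    haveI : IsIntegrallyClosed R := RegLoc.isIntegrallyClosed
    let ξ := Hens2.geomPt X x R
    have hξ : ξ.base (default : Spec (CommRingCat.of (ResidueField R))) = x := EtBCQ.geomPt_apply x R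
    refine ⟨ResidueField R, inferInstance, inferInstance, ξ, hξ, ?_⟩
    obtain ⟨W, t, hy, ht, htm, htm2⟩ := exists_locEq₀ i hX hD hcodim y
    have hϖ : Prime (algebraMap (X.presheaf.stalk x) R (X.presheaf.germ W x hy t)) :=
      prime_algebraMap (X.presheaf.stalk x) R (ht.ne0 y hy) htm htm2
    let a : ι := ⟨⟨W, t⟩, ht⟩
    let v := shLift R W hy
    have hv : v ≫ W.ι = Hens2.specOf X x R := shLift_ι R W hy
    let q : (Scheme.pointSmallEtale ξ).fiber.obj (oo W) :=
      (Over.homMk (EtHens.pt R ≫ v) (by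
        show (EtHens.pt R ≫ v) ≫ W.ι = ξ
        rw [Category.assoc, hv]) : Over.mk ξ ⟶ (Scheme.Etale.forget X).obj (oo W))
    have hgerm : (Scheme.pointSmallEtale ξ).toPresheafFiber (EtCoh.top X) (EtCons.ptTop ξ) N.obj z =
        (Scheme.pointSmallEtale ξ).toPresheafFiber (oo W) q N.obj (k a) := by
      rw [← hz a]
      refine ((GrothendieckTopology.Point.toPresheafFiber_w_apply (Scheme.pointSmallEtale ξ) (EtMV.toTop (oo (P a))) q
        N.obj z).trans ?_).symm
      refine congrArg (fun p => (Scheme.pointSmallEtale ξ).toPresheafFiber (EtCoh.top X) p N.obj z) ?_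
      let p₁ : Over.mk ξ ⟶ (Scheme.Etale.forget X).obj (EtCoh.top X) :=
        (Scheme.pointSmallEtale ξ).fiber.map (EtMV.toTop (oo (P a))) q
      show p₁ = EtCons.ptTop ξ
      exact Over.OverMorphism.ext (((Category.comp_id _).symm.trans (Over.w p₁)).trans
        ((Category.comp_id _).symm.trans (Over.w (EtCons.ptTop ξ : Over.mk ξ ⟶ (Scheme.Etale.forget X).obj (EtCoh.top X)))).symm)
    haveI : NeZero n := ⟨h0.ne'⟩
    have hrange : ∀ p ∈ W, p ∈ Set.range j.base ↔ p ∈ X.basicOpen t := by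
      intro p hp
      rw [show Set.range j.base = (Set.range i.base)ᶜ from hU]
      refine ⟨fun h => ht.off p hp h, ?_⟩
      rintro h3 ⟨y', rfl⟩
      have h4 : y' ∈ i ⁻¹ᵁ X.basicOpen t := h3
      rw [Scheme.preimage_basicOpen, ht.vanish] at h4
      simp at h4
    obtain ⟨hfin, hcard⟩ := card_stalk_rpush_le j R h0 hn hy t hrange hϖ
    haveI : Finite (((EtCoh.stalk ξ).obj N) : AddCommGrpCat.{u + 1}) := hfin
    rw [ConcreteCategory.isIso_iff_bijective]
    refine (Function.Bijective.of_comp_iff _ (EtCons.constGerm_bijective (ZMod n) ξ)).1 ?_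
    let h' : ZMod n →+ (EtCoh.stalk ξ).obj N :=
      ((EtCoh.stalk ξ).map φ).hom.comp (EtCons.constGerm (ZMod n) ξ)
    refine (show Function.Injective h' from ?_).bijective_of_nat_card_le
      (hcard.trans (Nat.card_zmod n).ge)
    rw [injective_iff_map_eq_zero]
    intro r hr
    obtain ⟨d, rfl⟩ : ∃ d : ℕ, (d : ZMod n) = r := ⟨r.val, ZMod.natCast_zmod_val r⟩
    rw [ZMod.natCast_eq_zero_iff]
    have hd : d • (Scheme.pointSmallEtale ξ).toPresheafFiber (oo W) q N.obj (k a) = 0 := by
      rw [← hgerm, ← hr, ← map_nsmul]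
      refine ((GrothendieckTopology.Point.toPresheafFiber_naturality_apply (Scheme.pointSmallEtale ξ)
        φ.hom _ (EtCons.ptTop ξ) (EtMV.cst _ (d : ZMod n))).trans (congrArg _ ?_)).symm
      rw [EtPBC.constHom_cst, show (d : ZMod n) = ((d : ℤ) : ZMod n) from (Int.cast_natCast d).symm]
      exact (ZMod.lift_coe _ _ _).trans (natCast_zsmul z d)
    let L := FractionRing R
    let alg : Spec (CommRingCat.of L) ⟶ Spec (CommRingCat.of R) :=
      Spec.map (CommRingCat.ofHom (algebraMap R L))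
    let ϖ := algebraMap (X.presheaf.stalk x) R (X.presheaf.germ W x hy t)
    have hgen : Set.range (alg ≫ v ≫ W.ι).base ⊆ Set.range j.base := by
      rintro _ ⟨p, rfl⟩
      refine (hrange _ ?_).2 ?_
      · exact ((alg ≫ v).base p).2
      · rw [← W.ι_image_basicOpen_topIso_inv t]
        refine ⟨(alg ≫ v).base p, ?_, rfl⟩
        have h2 : (alg ≫ v) ⁻¹ᵁ W.toScheme.basicOpen (W.topIso.inv t) = ⊤ := by
          rw [Scheme.preimage_basicOpen_top, Scheme.Hom.comp_appTop, CommRingCat.comp_apply,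
            show v.appTop (W.topIso.inv t) = (Scheme.ΓSpecIso (CommRingCat.of R)).inv ϖ from shLift_appTop R W hy t]
          refine Scheme.basicOpen_of_isUnit _ ?_
          rw [← CommRingCat.comp_apply, ← Scheme.ΓSpecIso_inv_naturality, CommRingCat.comp_apply]
          exact ((IsUnit.mk0 _ ((map_ne_zero_iff _ (IsFractionRing.injective R L)).2
            hϖ.ne_zero)).map (Scheme.ΓSpecIso (CommRingCat.of L)).inv.hom)
        exact h2.ge trivial
    refine dvd_of_nsmul_germ_kumClass j hm h0 (ht.unitOn j i hU) ξ q R L v (𝟙 _) ?_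
      (IsOpenImmersion.lift j _ hgen) (IsOpenImmersion.lift_fac _ _ hgen) ϖ hϖ (shLift_appTop R W hy t) d hd
    rw [Category.id_comp, hv]
  haveI : IsIso ((EtCoh.pullPushAdj i).unit.app N) :=
    EtDepthX.isIso_unit_of_support i _ fun x hx => by
      obtain ⟨Ω, _, _, ξ, -, hξ⟩ := EtStalk.covers_all (X := X) x
      refine (EtPBC.isZero_stalk_iff_zeroAt hξ _).1 ?_
      obtain ⟨η, hη⟩ := exists_lift_etale j ξ (hξ.symm ▸ hU.ge hx)
      obtain ⟨d⟩ := nonempty_pull_mu j n
      obtain ⟨c⟩ := EtMV.nonempty_locCoh_succ j (EtCoh.mu X n) 1 le_rfl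
      obtain ⟨e⟩ := nonempty_pull_locCoh j j (1 + 1) (EtCoh.mu X n)
      have h1 : IsZero ((EtCoh.pull j).obj N) := by
        refine IsZero.of_iso (isZero_locCoh_of_range_univ (pullback.snd j j) ?_ _ _)
          ((EtCoh.pull j).mapIso ((EtCoh.Rpush j 1).mapIso d.symm ≪≫ c) ≪≫ e)
        rw [Scheme.Pullback.range_snd]
        exact Set.eq_univ_of_forall fun u => ⟨u, rfl⟩
      rw [← hη]
      exact ((EtCoh.stalk η).map_isZero h1).of_iso ((EtStalk.stalkPullIso j η).app _)
  exact ⟨asIso ((EtCoh.pullPushAdj i).unit.app N) ≪≫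
    (EtCoh.push i).mapIso ((asIso ((EtCoh.pull i).map φ)).symm ≪≫ EtCore.pullConst i (ZMod n))⟩

end Groth.Agent.EtPur
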