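import Groth.Agent.EtPur.DivClass
import Groth.Agent.UFDLib.Regular
import Groth.Agent.RegLoc.Normal
import Groth.Agent.Hensel.HenselizationMore
import Groth.Agent.Hensel.HenselizationNoeth
import Groth.Agent.S0558
import Mathlib

/-!
# Equations of regular divisors
-/

set_option autoImplicit false
set_option backward.isDefEq.respectTransparency false
set_option backward.isDefEq.respectTransparency.types false
set_option linter.style.haveILetI false
set_option linter.unusedSectionVars false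
set_option maxHeartbeats 1000000
set_option synthInstance.maxHeartbeats 400000

universe u

open CategoryTheory CategoryTheory.Limits AlgebraicGeometry Opposite IsLocalRing
open Groth.Agent.QC (resO)

noncomputable section

namespace Groth.Agent.EtPur

/-- the kernel of a surjection of regular local rings of corank one is principal -/
theorem exists_ker_eq_span {A B : Type u} [CommRing A] [CommRing B] [IsRegularLocalRing A] [IsRegularLocalRing B]
    (φ : A →+* B) (hφ : Function.Surjective φ) (h : ringKrullDim A = ringKrullDim B + 1) :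
    ∃ t, RingHom.ker φ = Ideal.span {t} ∧ t ≠ 0 ∧ t ∈ maximalIdeal A ∧ t ∉ maximalIdeal A ^ 2 := by
  haveI : IsDomain A := Groth.Agent.S0558.result A
  haveI : IsDomain B := Groth.Agent.S0558.result B
  haveI := Groth.Agent.UFDLib.ufd_of_isRegularLocalRing A
  obtain ⟨dA, hdA⟩ : ∃ d : ℕ, ringKrullDim A = d := ⟨_, IsRegularLocalRing.spanFinrank_maximalIdeal.symm⟩
  obtain ⟨dB, hdB⟩ : ∃ d : ℕ, ringKrullDim B = d := ⟨_, IsRegularLocalRing.spanFinrank_maximalIdeal.symm⟩
  have hd : dA = dB + 1 := by rw [hdA, hdB] at h; exact_mod_cast h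
  let P := RingHom.ker φ
  haveI hP : P.IsPrime := RingHom.ker_isPrime φ
  let e : A ⧸ P ≃+* B := RingHom.quotientKerEquivOfSurjective hφ
  have hP0 : P ≠ ⊥ := fun h0 => by
    have h1 := ringKrullDim_eq_of_ringEquiv
      (RingEquiv.ofBijective φ ⟨(RingHom.injective_iff_ker_eq_bot φ).2 h0, hφ⟩)
    rw [hdA, hdB] at h1
    have : dA = dB := by exact_mod_cast h1
    omega
  obtain ⟨t, htP, ht⟩ := hP.exists_mem_prime_of_ne_bot hP0
  have heq : P = Ideal.span {t} := by
    refine le_antisymm (fun x hx => ?_) ((Ideal.span_singleton_le_iff_mem _).2 htP)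
    by_contra hxt
    haveI : (Ideal.span {t}).IsPrime := (Ideal.span_singleton_prime ht.ne_zero).2 ht
    let Q := A ⧸ Ideal.span {t}
    have h1 := ringKrullDim_quotient_succ_le_of_nonZeroDivisor (mem_nonZeroDivisors_of_ne_zero ht.ne_zero)
    have hx0 : (Ideal.Quotient.mk (Ideal.span {t}) x : Q) ≠ 0 := fun h0 => hxt (Ideal.Quotient.eq_zero_iff_mem.1 h0)
    have h2 := ringKrullDim_quotient_succ_le_of_nonZeroDivisor (mem_nonZeroDivisors_of_ne_zero hx0)
    let ψ : Q →+* B := Ideal.Quotient.lift (Ideal.span {t}) φ fun a ha => by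
      obtain ⟨c, rfl⟩ := Ideal.mem_span_singleton'.1 ha
      rw [map_mul, show φ t = 0 from htP, mul_zero]
    let ψ' : Q ⧸ Ideal.span {(Ideal.Quotient.mk (Ideal.span {t}) x : Q)} →+* B :=
      Ideal.Quotient.lift _ ψ fun a ha => by
        obtain ⟨c, rfl⟩ := Ideal.mem_span_singleton'.1 ha
        rw [map_mul, show ψ (Ideal.Quotient.mk (Ideal.span {t}) x) = 0 from hx, mul_zero]
    have h3 : ringKrullDim B ≤ ringKrullDim (Q ⧸ Ideal.span {(Ideal.Quotient.mk (Ideal.span {t}) x : Q)}) := by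
      refine ringKrullDim_le_of_surjective ψ' (Ideal.Quotient.lift_surjective_of_surjective _ _ ?_)
      exact Ideal.Quotient.lift_surjective_of_surjective _ _ hφ
    have h4 : ringKrullDim B + 1 + 1 ≤ ringKrullDim A :=
      (add_le_add_left ((add_le_add_left h3 1).trans h2) 1).trans h1
    rw [hdA, hdB] at h4
    have : dB + 1 + 1 ≤ dA := by exact_mod_cast h4
    omega
  have htm : t ∈ maximalIdeal A := le_maximalIdeal hP.ne_top htP
  refine ⟨t, heq, ht.ne_zero, htm, fun ht2 => ?_⟩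
  -- the cotangent spaces of `A` and `B` would have the same dimension
  have hAB : (maximalIdeal A).map φ = maximalIdeal B := by
    haveI : IsLocalHom φ := IsLocalHom.of_surjective φ hφ
    refine le_antisymm (IsLocalRing.map_maximalIdeal_le φ) fun b hb => ?_
    obtain ⟨a, rfl⟩ := hφ b
    exact Ideal.mem_map_of_mem _ fun hu => hb (hu.map φ)
  obtain ⟨G, hG, hspanG⟩ : ∃ G : Set B, G.ncard = dB ∧ Ideal.span G = maximalIdeal B ∧ G.Finite := by
    obtain ⟨G, hG1, hG2⟩ := Submodule.FG.exists_span_set_encard_eq_spanFinrank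
      (IsNoetherian.noetherian (maximalIdeal B))
    refine ⟨G, ?_, hG2, Set.finite_of_encard_eq_coe hG1⟩
    rw [Set.ncard_def, hG1, ENat.toNat_coe]
    have h5 := IsRegularLocalRing.spanFinrank_maximalIdeal (R := B)
    rw [hdB] at h5
    exact_mod_cast h5
  obtain ⟨hG1, hGfin⟩ := hspanG
  let l : B → A := fun b => (hφ b).choose
  have hl : ∀ b, φ (l b) = b := fun b => (hφ b).choose_spec
  have hsup : maximalIdeal A ≤ Ideal.span (l '' G) ⊔ maximalIdeal A * maximalIdeal A := by
    intro a ha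
    have h6 : φ a ∈ (Ideal.span (l '' G)).map φ := by
      rw [Ideal.map_span, ← Set.image_comp, show φ ∘ l = id from funext hl, Set.image_id, hG1, ← hAB]
      exact Ideal.mem_map_of_mem _ ha
    obtain ⟨a', ha', hpa⟩ := (Ideal.mem_map_iff_of_surjective φ hφ).1 h6
    have h7 : a - a' ∈ P := by rw [RingHom.mem_ker, map_sub, hpa, sub_self]
    rw [heq] at h7
    obtain ⟨c, hc⟩ := Ideal.mem_span_singleton'.1 h7
    rw [show a = a' + c * t by rw [hc]; ring]
    refine Ideal.add_mem _ (Ideal.mem_sup_left ha') (Ideal.mem_sup_right (Ideal.mul_mem_left _ c ?_))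
    rwa [← pow_two]
  have hle : maximalIdeal A ≤ Ideal.span (l '' G) :=
    Submodule.le_of_le_smul_of_le_jacobson_bot (IsNoetherian.noetherian _)
      (IsLocalRing.maximalIdeal_le_jacobson ⊥) hsup
  have heqA : Ideal.span (l '' G) = maximalIdeal A := by
    refine le_antisymm (Ideal.span_le.2 ?_) hle
    rintro _ ⟨b, hb, rfl⟩
    refine fun hu => (hG1.le (Ideal.subset_span hb) : b ∈ maximalIdeal B) ?_
    exact hl b ▸ hu.map φ
  have h8 : (maximalIdeal A).spanFinrank ≤ dB := by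
    rw [← hG, ← heqA]
    exact (Submodule.spanFinrank_span_le_ncard_of_finite (hGfin.image l)).trans (Set.ncard_image_le hGfin)
  have h9 := IsRegularLocalRing.spanFinrank_maximalIdeal (R := A)
  rw [hdA] at h9
  have : (maximalIdeal A).spanFinrank = dA := by exact_mod_cast h9
  omega

/-- such an equation stays prime in the strict henselization -/
theorem prime_algebraMap (A : Type u) [CommRing A] [IsRegularLocalRing A] (R : Type u) [CommRing R] [IsLocalRing R]
    [Algebra A R] [IsLocalHom (algebraMap A R)] [_root_.Hensel.IsStrictHenselization A R] [IsRegularLocalRing R]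
    [IsDomain R] {t : A} (h0 : t ≠ 0) (ht : t ∈ maximalIdeal A) (ht2 : t ∉ maximalIdeal A ^ 2) :
    Prime (algebraMap A R t) := by
  haveI := Hensel.strictHenselization_faithfullyFlat A R
  haveI := Groth.Agent.UFDLib.ufd_of_isRegularLocalRing R
  have hm : maximalIdeal R = (maximalIdeal A).map (algebraMap A R) :=
    (Hensel.strictHenselization_map_maximalIdeal A R).symm
  have h2 : algebraMap A R t ∉ maximalIdeal R ^ 2 := fun h => ht2 (by
    rw [hm, ← Ideal.map_pow] at h
    rw [← Ideal.comap_map_eq_self_of_faithfullyFlat (B := R) (maximalIdeal A ^ 2)]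
    exact h)
  rw [← UniqueFactorizationMonoid.irreducible_iff_prime]
  refine ⟨fun hu => ?_, fun a b hab => ?_⟩
  · exact (mem_maximalIdeal _).1 (hm ▸ Ideal.mem_map_of_mem _ ht) hu
  · by_contra! hc
    exact h2 (hab ▸ pow_two (maximalIdeal R) ▸ Ideal.mul_mem_mul ((mem_maximalIdeal _).2 hc.1) ((mem_maximalIdeal _).2 hc.2))

variable {X D : Scheme.{u}}

/-- regular divisors have local equations -/
theorem exists_locEq₀ [IsLocallyNoetherian X] (i : D ⟶ X) [IsClosedImmersion i]
    (hX : ∀ x : X, IsRegularLocalRing (X.presheaf.stalk x)) (hD : ∀ y : D, IsRegularLocalRing (D.presheaf.stalk y))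
    (hcodim : ∀ y : D, ringKrullDim (X.presheaf.stalk (i.base y)) = ringKrullDim (D.presheaf.stalk y) + 1)
    (y₀ : D) :
    ∃ (W : X.Opens) (t : Γ(X, W)) (hy : i.base y₀ ∈ W), LocEq₀ i W t ∧
      X.presheaf.germ W (i.base y₀) hy t ∈ maximalIdeal (X.presheaf.stalk (i.base y₀)) ∧
      X.presheaf.germ W (i.base y₀) hy t ∉ maximalIdeal (X.presheaf.stalk (i.base y₀)) ^ 2 := by
  classical
  obtain ⟨_, ⟨W₀, hW₀, rfl⟩, hy, -⟩ :=
    X.isBasis_affineOpens.exists_subset_of_mem_open (Set.mem_univ (i.base y₀)) isOpen_univ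
  let V₀ : D.Opens := i ⁻¹ᵁ W₀
  have hV₀ : IsAffineOpen V₀ := hW₀.preimage i
  let C := Γ(X, W₀)
  let π : C →+* Γ(D, V₀) := (i.app W₀).hom
  have hπ : Function.Surjective π := i.app_surjective W₀ hW₀
  let I : Ideal C := RingHom.ker π
  haveI : IsNoetherianRing C := IsLocallyNoetherian.component_noetherian (⟨W₀, hW₀⟩ : X.affineOpens)
  have hunit : ∀ (z : X) (hz : z ∈ W₀) (a : C),
      IsUnit (X.presheaf.germ W₀ z hz a) ↔ a ∉ (hW₀.primeIdealOf ⟨z, hz⟩).asIdeal := fun z hz a => by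
    letI := X.presheaf.algebra_section_stalk (⟨z, hz⟩ : W₀)
    haveI := hW₀.isLocalization_stalk ⟨z, hz⟩
    exact IsLocalization.AtPrime.isUnit_to_map_iff (X.presheaf.stalk z) (hW₀.primeIdealOf ⟨z, hz⟩).asIdeal a
  -- kernels at stalks come from `I`
  have hker : ∀ (y : D) (hy : i.base y ∈ W₀) (g : X.presheaf.stalk (i.base y)),
      (i.stalkMap y).hom g = 0 → ∃ (a : C) (u : C), a ∈ I ∧ IsUnit (X.presheaf.germ W₀ _ hy u) ∧
        g * X.presheaf.germ W₀ _ hy u = X.presheaf.germ W₀ _ hy a := by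
    intro y hy g hg
    letI := X.presheaf.algebra_section_stalk (⟨i.base y, hy⟩ : W₀)
    letI := D.presheaf.algebra_section_stalk (⟨y, hy⟩ : V₀)
    haveI := hW₀.isLocalization_stalk ⟨i.base y, hy⟩
    haveI := hV₀.isLocalization_stalk ⟨y, hy⟩
    obtain ⟨⟨a, b⟩, hab⟩ := IsLocalization.surj (hW₀.primeIdealOf ⟨i.base y, hy⟩).asIdeal.primeCompl g
    replace hab : g * X.presheaf.germ W₀ (i.base y) hy (b : C) = X.presheaf.germ W₀ (i.base y) hy a := hab
    have hπa : D.presheaf.germ V₀ y hy (π a) = 0 := by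
      have h1 := congrArg (i.stalkMap y).hom hab
      rw [map_mul, hg, zero_mul, Scheme.Hom.germ_stalkMap_apply] at h1
      exact h1.symm
    obtain ⟨⟨d, hd⟩, hda⟩ := (IsLocalization.map_eq_zero_iff (hV₀.primeIdealOf ⟨y, hy⟩).asIdeal.primeCompl
      (D.presheaf.stalk y) (π a)).1 hπa
    obtain ⟨c, rfl⟩ := hπ d
    have hc : IsUnit (X.presheaf.germ W₀ (i.base y) hy c) := by
      refine IsUnit.of_map (i.stalkMap y).hom _ ?_
      rw [Scheme.Hom.germ_stalkMap_apply]
      exact IsLocalization.map_units (D.presheaf.stalk y) (⟨π c, hd⟩ : (hV₀.primeIdealOf ⟨y, hy⟩).asIdeal.primeCompl)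
    refine ⟨c * a, c * b, (show π (c * a) = 0 by rw [map_mul]; exact hda), ?_, ?_⟩
    · rw [map_mul]
      exact hc.mul ((hunit _ hy _).2 b.2)
    · rw [map_mul, map_mul, mul_left_comm, hab]
  haveI := hX (i.base y₀)
  haveI := hD y₀
  obtain ⟨t₀, ht₀, ht₀0, ht₀m, ht₀m2⟩ :=
    exists_ker_eq_span (i.stalkMap y₀).hom (i.stalkMap_surjective y₀) (hcodim y₀)
  obtain ⟨f, u, hfI, hu, hfu⟩ := hker y₀ hy t₀ (by
    rw [← RingHom.mem_ker, ht₀]
    exact Ideal.subset_span rfl)
  have hzero : ∀ (y : D) (hy : i.base y ∈ W₀) (a : C), a ∈ I → (i.stalkMap y).hom (X.presheaf.germ W₀ _ hy a) = 0 :=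
    fun y hy a ha => by
      rw [Scheme.Hom.germ_stalkMap_apply, show (i.app W₀).hom a = 0 from ha, map_zero]
  -- `I` is generated by `f` near `y₀`
  have hgen : ∀ a ∈ I, ∃ s r : C, IsUnit (X.presheaf.germ W₀ _ hy s) ∧ s * a = r * f := by
    intro a ha
    letI := X.presheaf.algebra_section_stalk (⟨i.base y₀, hy⟩ : W₀)
    haveI := hW₀.isLocalization_stalk ⟨i.base y₀, hy⟩
    have h1 : X.presheaf.germ W₀ _ hy a ∈ Ideal.span {X.presheaf.germ W₀ _ hy f} := by
      rw [← hfu, Ideal.span_singleton_mul_right_unit hu, ← ht₀]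
      exact hzero y₀ hy a ha
    obtain ⟨c, hc⟩ := Ideal.mem_span_singleton'.1 h1
    obtain ⟨⟨r, s⟩, hrs⟩ := IsLocalization.surj (hW₀.primeIdealOf ⟨i.base y₀, hy⟩).asIdeal.primeCompl c
    replace hrs : c * X.presheaf.germ W₀ _ hy (s : C) = X.presheaf.germ W₀ _ hy r := hrs
    obtain ⟨q, hq⟩ := (IsLocalization.eq_iff_exists (hW₀.primeIdealOf ⟨i.base y₀, hy⟩).asIdeal.primeCompl
      (X.presheaf.stalk (i.base y₀))).1 (show X.presheaf.germ W₀ _ hy (s * a) = X.presheaf.germ W₀ _ hy (r * f) by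
        rw [map_mul, map_mul, ← hc, ← hrs]; ring)
    refine ⟨q * s, q * r, ?_, ?_⟩
    · rw [map_mul]
      exact ((hunit _ hy _).2 q.2).mul ((hunit _ hy _).2 s.2)
    · rw [mul_assoc, mul_assoc]
      exact hq
  choose! s r hs hsr using hgen
  obtain ⟨G, hG⟩ : I.FG := IsNoetherian.noetherian I
  let S : C := ∏ a ∈ G, s a
  have hGI : ∀ a ∈ G, a ∈ I := fun a ha => hG ▸ Submodule.subset_span ha
  have hS : IsUnit (X.presheaf.germ W₀ _ hy S) := by
    rw [map_prod]
    exact IsUnit.prod_iff.2 fun a ha => hs a (hGI a ha)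
  have hspan : ∀ a ∈ I, ∃ c : C, S * a = c * f := by
    intro a ha
    rw [← hG] at ha
    induction ha using Submodule.span_induction with
    | mem a ha =>
      obtain ⟨T, hT⟩ : s a ∣ S := Finset.dvd_prod_of_mem s ha
      exact ⟨T * r a, by rw [hT, mul_assoc T, ← hsr a (hGI a ha)]; ring⟩
    | zero => exact ⟨0, by rw [mul_zero, zero_mul]⟩
    | add a b _ _ ha hb =>
      obtain ⟨c, hc⟩ := ha
      obtain ⟨c', hc'⟩ := hb
      exact ⟨c + c', by rw [mul_add, hc, hc', add_mul]⟩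
    | smul k a _ ha =>
      obtain ⟨c, hc⟩ := ha
      exact ⟨k * c, by rw [smul_eq_mul, mul_left_comm, hc, mul_assoc]⟩
  let W : X.Opens := X.basicOpen S
  have hWW₀ : W ≤ W₀ := X.basicOpen_le _
  let t : Γ(X, W) := resO X hWW₀ f
  have hgerm : ∀ (z : X) (hz : z ∈ W), X.presheaf.germ W z hz t = X.presheaf.germ W₀ z (hWW₀ hz) f :=
    fun z hz => TopCat.Presheaf.germ_res_apply X.presheaf (homOfLE hWW₀) z hz _
  have hSu : ∀ (z : X) (hz : z ∈ W), IsUnit (X.presheaf.germ W₀ z (hWW₀ hz) S) := fun z hz =>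
    (Scheme.mem_basicOpen X S z (hWW₀ hz)).1 hz
  have hkerspan : ∀ (y : D) (hy : i.base y ∈ W),
      RingHom.ker (i.stalkMap y).hom ≤ Ideal.span {X.presheaf.germ W (i.base y) hy t} := by
    intro y hy' g hg
    rw [hgerm]
    obtain ⟨a, v, ha, hv, hgv⟩ := hker y (hWW₀ hy') g hg
    obtain ⟨c, hc⟩ := hspan a ha
    refine Ideal.mem_span_singleton.2 ?_
    rw [← ((hSu _ hy').mul hv).dvd_mul_right]
    refine ⟨X.presheaf.germ W₀ _ (hWW₀ hy') c, ?_⟩
    rw [mul_left_comm, hgv, ← map_mul, hc, map_mul, mul_comm]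
  have hyW : i.base y₀ ∈ W := (Scheme.mem_basicOpen X S _ hy).2 hS
  refine ⟨W, t, hyW, ⟨?_, ?_, hkerspan, ?_⟩, ?_, ?_⟩
  · show (i.app W).hom ((X.presheaf.map (homOfLE hWW₀).op).hom f) = 0
    refine (ConcreteCategory.congr_hom (i.naturality (homOfLE hWW₀).op) f).trans ?_
    show (D.presheaf.map _).hom ((i.app W₀).hom f) = 0
    rw [show (i.app W₀).hom f = 0 from hfI, map_zero]
  · intro z hz hzi
    have hzW₀ := hWW₀ hz
    obtain ⟨a, haI, ha⟩ : ∃ a ∈ I, IsUnit (X.presheaf.germ W₀ z hzW₀ a) := by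
      by_contra! hc
      refine hzi ?_
      have hI : (I : Set C) ⊆ (hW₀.primeIdealOf ⟨z, hzW₀⟩).asIdeal := fun a ha =>
        not_not.1 fun h' => hc a ha ((hunit z hzW₀ a).2 h')
      obtain ⟨p, hp⟩ : (hW₀.primeIdealOf ⟨z, hzW₀⟩) ∈ Set.range (PrimeSpectrum.comap π) := by
        rw [range_comap_of_surjective _ π hπ]
        exact hI
      refine ⟨hV₀.fromSpec.base p, ?_⟩
      have hsq : Spec.map (i.app W₀) ≫ hW₀.fromSpec = hV₀.fromSpec ≫ i := by
        rw [i.app_eq_appLE]
        exact IsAffineOpen.SpecMap_appLE_fromSpec i hW₀ hV₀ _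
      refine (congrArg (fun k => k.base p) hsq).symm.trans ?_
      exact (congrArg hW₀.fromSpec.base hp).trans (hW₀.fromSpec_primeIdealOf ⟨z, hzW₀⟩)
    obtain ⟨c, hc⟩ := hspan a haI
    refine (Scheme.mem_basicOpen X t z hz).2 ?_
    rw [hgerm]
    have h1 : IsUnit (X.presheaf.germ W₀ z hzW₀ (S * a)) := by rw [map_mul]; exact (hSu z hz).mul ha
    rw [hc, map_mul] at h1
    exact isUnit_of_mul_isUnit_right h1
  · intro y hy' h0
    haveI := hX (i.base y)
    haveI := hD y
    have hinj : Function.Injective (i.stalkMap y).hom := by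
      rw [RingHom.injective_iff_ker_eq_bot, eq_bot_iff]
      exact (hkerspan y hy').trans (by rw [h0, Ideal.span_singleton_zero])
    have h1 := ringKrullDim_eq_of_ringEquiv (RingEquiv.ofBijective (i.stalkMap y).hom ⟨hinj, i.stalkMap_surjective y⟩)
    obtain ⟨d, hd⟩ : ∃ d : ℕ, ringKrullDim (D.presheaf.stalk y) = d :=
      ⟨_, IsRegularLocalRing.spanFinrank_maximalIdeal.symm⟩
    rw [hcodim y, hd] at h1
    have : d + 1 = d := by exact_mod_cast h1
    omega
  · rw [hgerm, ← hfu]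
    exact Ideal.mul_mem_right _ _ ht₀m
  · rw [hgerm, ← hfu, Ideal.mul_unit_mem_iff_mem _ hu]
    exact ht₀m2

end Groth.Agent.EtPur
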