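import Groth.Agent.EtPur.RegEq
import Groth.Agent.EtPur.MuStalk
import Groth.Agent.EtGmKummer.Basic
import Groth.Agent.EtStrictLoc.Main
import Groth.Agent.EtStrictLoc.Lift
import Groth.Agent.EtDepthX.Points
import Groth.Agent.EtPBC.CdDev
import Groth.Agent.EtPBC.CurveGm
import Mathlib

/-!
# Stalks along a regular divisor
-/

set_option autoImplicit false
set_option backward.isDefEq.respectTransparency false
set_option backward.isDefEq.respectTransparency.types false
set_option linter.auxLemma false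
set_option linter.style.haveILetI false
set_option linter.unusedSectionVars false
set_option maxHeartbeats 1000000
set_option synthInstance.maxHeartbeats 400000

universe u

open CategoryTheory CategoryTheory.Limits CategoryTheory.Abelian AlgebraicGeometry Opposite IsLocalRing
open Groth.Agent.QC (resO)

noncomputable section

namespace Groth.Agent.EtPur

attribute [local instance 100000] EtCoh.H._proof_1 Groth.Agent.EtMV.hext
attribute [local instance 200000] Groth.Agent.EtMV.hextAb

/-- units of a strictly henselian ring are `n`-th powers -/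
theorem exists_pow_eq {R : Type u} [CommRing R] [HenselianLocalRing R] [IsSepClosed (ResidueField R)] {n : ℕ}
    (hn : IsUnit (n : R)) {a : R} (ha : IsUnit a) : ∃ b : R, IsUnit b ∧ b ^ n = a := by
  have hn0 : n ≠ 0 := fun h => by rw [h, Nat.cast_zero] at hn; exact not_isUnit_zero hn
  have hp0 : (n : ResidueField R) ≠ 0 := by
    have h := (hn.map (residue R)).ne_zero
    rwa [map_natCast] at h
  haveI : NeZero (n : ResidueField R) := ⟨hp0⟩
  obtain ⟨z, hz⟩ := IsSepClosed.exists_pow_nat_eq (residue R a) n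
  obtain ⟨z, rfl⟩ := residue_surjective z
  have hzu : IsUnit z := by
    by_contra h
    exact (ha.map (residue R)).ne_zero (by rw [← hz, (residue_eq_zero_iff z).2 h, zero_pow hn0])
  have hm : ((Polynomial.X : Polynomial R) ^ n - Polynomial.C a).Monic := Polynomial.monic_X_pow_sub_C a hn0
  have h1 : ((Polynomial.X : Polynomial R) ^ n - Polynomial.C a).eval z ∈ maximalIdeal R := by
    rw [← residue_eq_zero_iff, Polynomial.eval_sub, Polynomial.eval_pow, Polynomial.eval_X, Polynomial.eval_C,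
      map_sub, map_pow, hz, sub_self]
  have h2 : IsUnit (((Polynomial.X : Polynomial R) ^ n - Polynomial.C a).derivative.eval z) := by
    rw [Polynomial.derivative_sub, Polynomial.derivative_X_pow, Polynomial.derivative_C, sub_zero,
      Polynomial.eval_mul, Polynomial.eval_C, Polynomial.eval_pow, Polynomial.eval_X]
    exact hn.mul (hzu.pow _)
  obtain ⟨b, hb, -⟩ := HenselianLocalRing.is_henselian _ hm z h1 h2
  rw [Polynomial.IsRoot, Polynomial.eval_sub, Polynomial.eval_pow, Polynomial.eval_X, Polynomial.eval_C,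
    sub_eq_zero] at hb
  exact ⟨b, (isUnit_pow_iff hn0).1 (hb ▸ ha), hb⟩

/-- invertible modules on affine factorial schemes are trivial -/
theorem nonempty_iso_of_ufd_affine {X : Scheme.{u}} [IsAffine X] [IsIntegral X]
    [UniqueFactorizationMonoid Γ(X, ⊤)] (L : X.Modules) (hL : PicF.IsInvertible L) :
    Nonempty (L ≅ Coh.structureModule X) := by
  obtain ⟨u₀⟩ : Nonempty X := inferInstance
  haveI : Nonempty (⊤ : X.Opens).toScheme := ⟨⟨u₀, trivial⟩⟩
  haveI : IsIntegral (⊤ : X.Opens).toScheme := isIntegral_of_isOpenImmersion (⊤ : X.Opens).ι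
  have hF : UfdExtend.RankOne ⊤ L := ⟨fun V => by
    have h : ∀ W : X.Opens, W = V → ∀ hW : W ≤ V, Function.Bijective (QC.res L hW) := by
      rintro W rfl hW
      rw [show ⇑(QC.res L hW) = id from funext fun x => QC.res_self _ _ x]
      exact Function.bijective_id
    exact h _ (inf_top_eq V) _,
    fun x _ => by
      obtain ⟨A, a, hxA, ha⟩ := TMul.exists_isGen hL x
      exact ⟨A, a, hxA, ha⟩⟩
  obtain ⟨e, he⟩ := UfdExtend.exists_gen_of_ufd hF (isAffineOpen_top _)
    (UfdExtend.intOpen_of_isIntegral ⊤) le_top (u₀ := u₀) trivial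
  exact EtPicLib.nonempty_iso_of_gen he

/-- the degree one cohomology of roots of unity on the complement of a prime divisor of a strictly
henselian factorial ring -/
theorem card_H1_mu_le {R : Type u} [CommRing R] [IsDomain R] [UniqueFactorizationMonoid R] [HenselianLocalRing R]
    [IsSepClosed (ResidueField R)] {ϖ : R} (hϖ : Prime ϖ) {n : ℕ} (hn : IsUnit (n : R)) {Z : Scheme.{u}}
    (p : Z ⟶ Spec (CommRingCat.of R)) [IsOpenImmersion p]
    (hp : Set.range p.base = ((PrimeSpectrum.basicOpen ϖ : TopologicalSpace.Opens (PrimeSpectrum R)) : Set (PrimeSpectrum R))) :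
    Finite (EtCoh.H Z (EtCoh.mu Z n) 1) ∧ Nat.card (EtCoh.H Z (EtCoh.mu Z n) 1) ≤ n := by
  classical
  have hn0 : n ≠ 0 := fun h => by rw [h, Nat.cast_zero] at hn; exact not_isUnit_zero hn
  haveI : NeZero n := ⟨hn0⟩
  -- the ring of functions
  let q : Spec (CommRingCat.of (Localization.Away ϖ)) ⟶ Spec (CommRingCat.of R) :=
    Spec.map (CommRingCat.ofHom (algebraMap R (Localization.Away ϖ)))
  haveI : IsOpenImmersion q := IsOpenImmersion.of_isLocalization ϖ
  have hq : Set.range q.base = Set.range p.base := by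
    rw [hp]
    exact PrimeSpectrum.localization_away_comap_range (Localization.Away ϖ) ϖ
  let e : Z ≅ Spec (CommRingCat.of (Localization.Away ϖ)) := IsOpenImmersion.isoOfRangeEq p q hq.symm
  have hep : e.hom ≫ q = p := IsOpenImmersion.isoOfRangeEq_hom_fac _ _ _
  let θ : Localization.Away ϖ ≃+* Γ(Z, ⊤) :=
    ((Scheme.ΓSpecIso (CommRingCat.of (Localization.Away ϖ))).symm ≪≫ asIso e.hom.appTop).commRingCatIsoToRingEquiv
  haveI : IsDomain (Localization.Away ϖ) :=
    IsLocalization.isDomain_of_le_nonZeroDivisors (M := Submonoid.powers ϖ) (S := Localization.Away ϖ)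
      (Submonoid.powers_le.2 (mem_nonZeroDivisors_of_ne_zero hϖ.ne_zero))
  haveI : UniqueFactorizationMonoid (Localization.Away ϖ) :=
    inferInstanceAs (UniqueFactorizationMonoid (Localization (Submonoid.powers ϖ)))
  haveI : UniqueFactorizationMonoid Γ(Z, ⊤) := MulEquiv.uniqueFactorizationMonoid θ.toMulEquiv ‹_›
  haveI : IsAffine Z := IsAffine.of_isIso e.hom
  haveI : Nonempty Z := Nonempty.map (fun x => e.inv.base x)
    (inferInstanceAs (Nonempty (PrimeSpectrum (Localization.Away ϖ))))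
  haveI : IsIntegral Z := isIntegral_of_isOpenImmersion p
  have hnZ : IsUnit (n : Γ(Z, ⊤)) := by
    have := hn.map (θ.toRingHom.comp (algebraMap R (Localization.Away ϖ)))
    rwa [map_natCast] at this
  have hm : Epi (EtCoh.powMap Z n) := Groth.Agent.S0108.result Z n hnZ
  have hsurj := EtGmKummer.kum_surjective hm
    (EtPicLib.subsingleton_H_iff.mpr nonempty_iso_of_ufd_affine)
  let κ := EtGmKummer.kum hm
  have hu : IsUnit (θ (algebraMap R _ ϖ)) := (IsLocalization.Away.algebraMap_isUnit ϖ).map θ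
  let π : Additive (Γ(Z, ⊤) : Type u)ˣ := Additive.ofMul hu.unit
  have hkill : ∀ y : EtCoh.H Z (EtCoh.mu Z n) 1, n • y = 0 :=
    fun y => EtPBC.nsmul_eq_zero_of_killed _ n (EtPBC.killed_mu n) 1 y
  have hκ : Function.Surjective (fun i : ZMod n => i.val • κ π) := by
    intro x
    obtain ⟨a, rfl⟩ := hsurj x
    obtain ⟨⟨r, ⟨_, ⟨l, rfl⟩⟩⟩, hr⟩ :=
      IsLocalization.surj (Submonoid.powers ϖ) (θ.symm (a.toMul : Γ(Z, ⊤)))
    have hr0 : r ≠ 0 := by
      rintro rfl
      rw [map_zero] at hr
      exact ((a.toMul.isUnit.map θ.symm).mul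
        (IsLocalization.map_units (Localization.Away ϖ) (⟨_, ⟨l, rfl⟩⟩ : Submonoid.powers ϖ))).ne_zero hr
    obtain ⟨k, c, hc, rfl⟩ := WfDvdMonoid.max_power_factor hr0 hϖ.irreducible
    have hcu : IsUnit c := by
      have h1 : IsUnit (algebraMap R (Localization.Away ϖ) (ϖ ^ k * c)) := by
        rw [← hr]
        exact (a.toMul.isUnit.map θ.symm).mul
          (IsLocalization.map_units (Localization.Away ϖ) (⟨_, ⟨l, rfl⟩⟩ : Submonoid.powers ϖ))
      obtain ⟨b, hb⟩ := h1.exists_right_inv
      obtain ⟨⟨s, ⟨_, ⟨m, rfl⟩⟩⟩, hs⟩ := IsLocalization.surj (Submonoid.powers ϖ) b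
      have h2 : ϖ ^ k * (c * s) = ϖ ^ m := IsLocalization.injective (Localization.Away ϖ)
        (Submonoid.powers_le.2 (mem_nonZeroDivisors_of_ne_zero hϖ.ne_zero)) (by
          rw [← mul_assoc, map_mul, ← hs, ← mul_assoc, hb, one_mul])
      obtain ⟨e', he'⟩ := hϖ.pow_dvd_of_dvd_mul_left m hc
        (show ϖ ^ m ∣ c * (ϖ ^ k * s) from ⟨1, by rw [mul_one, ← h2]; ring⟩)
      refine IsUnit.of_mul_eq_one e' (mul_left_cancel₀ (pow_ne_zero m hϖ.ne_zero) ?_)
      rw [mul_one]
      calc ϖ ^ m * (c * e') = c * (ϖ ^ m * e') := by ring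
        _ = c * (ϖ ^ k * s) := by rw [he']
        _ = ϖ ^ m := by rw [← h2]; ring
    obtain ⟨b, hb, hbc⟩ := exists_pow_eq hn hcu
    have hbu : IsUnit (θ (algebraMap R _ b)) := (hb.map (algebraMap R (Localization.Away ϖ))).map θ
    have ha : a = n • Additive.ofMul hbu.unit + ((k : ℤ) - l) • π := by
      rw [eq_comm, sub_zsmul, natCast_zsmul, natCast_zsmul, ← sub_eq_add_neg, ← add_sub_assoc, sub_eq_iff_eq_add]
      apply Additive.toMul.injective
      simp only [π, toMul_add, toMul_nsmul, toMul_ofMul]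
      refine Units.ext ?_
      simp only [Units.val_mul, Units.val_pow_eq_pow_val, IsUnit.unit_spec]
      rw [← map_pow, ← map_pow, ← map_pow, ← map_pow, ← map_pow, ← map_pow, hbc, ← map_mul]
      refine θ.symm.injective ?_
      rw [map_mul θ.symm, θ.symm_apply_apply, θ.symm_apply_apply, hr, ← map_mul, mul_comm c]
    refine ⟨(((k : ℤ) - l : ℤ) : ZMod n), ?_⟩
    show ((((k : ℤ) - l : ℤ) : ZMod n).val) • κ π = κ a
    rw [ha, map_add, map_nsmul, hkill, zero_add, map_zsmul, ← natCast_zsmul, ← sub_eq_zero, sub_eq_add_neg (_ • κ π), ← sub_zsmul]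
    obtain ⟨d, hd⟩ : (n : ℤ) ∣ ((((k : ℤ) - l : ℤ) : ZMod n).val : ℤ) - ((k : ℤ) - l) := by
      rw [← ZMod.intCast_zmod_eq_zero_iff_dvd, Int.cast_sub, Int.cast_natCast, ZMod.natCast_zmod_val, sub_self]
    rw [hd, mul_comm, ← smul_smul, natCast_zsmul, hkill, smul_zero]
  refine ⟨Finite.of_surjective _ hκ, ?_⟩
  have := Nat.card_le_card_of_surjective _ hκ
  rwa [Nat.card_zmod] at this

variable {X U : Scheme.{u}}

theorem appTop_fromSpecStalkOfMem (W : X.Opens) (x : X) (hx : x ∈ W) (t : Γ(X, W)) :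
    (W.fromSpecStalkOfMem x hx).appTop (W.topIso.inv t) =
      (Scheme.ΓSpecIso (X.presheaf.stalk x)).inv (X.presheaf.germ W x hx t) := by
  have h := congrArg Scheme.Hom.appTop (W.fromSpecStalkOfMem_toSpecΓ x hx)
  rw [Scheme.Hom.comp_appTop] at h
  have h1 := ConcreteCategory.congr_hom h ((Scheme.ΓSpecIso Γ(X, W)).inv t)
  rw [CommRingCat.comp_apply] at h1
  have h2 : W.toSpecΓ.appTop ((Scheme.ΓSpecIso Γ(X, W)).inv t) = W.topIso.inv t := by
    rw [Scheme.Opens.toSpecΓ, Scheme.Hom.comp_appTop, Scheme.toSpecΓ_appTop, ← CommRingCat.comp_apply,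
      ← Category.assoc, ← Scheme.ΓSpecIso_inv_naturality, Category.assoc, Iso.inv_hom_id, Category.comp_id]
  rw [h2] at h1
  rw [h1, ← CommRingCat.comp_apply, ← CommRingCat.comp_apply, Scheme.ΓSpecIso_inv_naturality]

variable (j : U ⟶ X) [IsOpenImmersion j] [QuasiCompact j] {x : X} (R : Type u) [CommRing R] [IsLocalRing R]
  [Algebra (X.presheaf.stalk x) R] [IsSepClosed (ResidueField R)] [HenselianLocalRing R]
  [IsLocalHom (algebraMap (X.presheaf.stalk x) R)]
  [_root_.Hensel.IsStrictHenselization (X.presheaf.stalk x) R]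

/-- the strict localisation maps into every neighbourhood -/
def shLift (W : X.Opens) (hx : x ∈ W) : Spec (CommRingCat.of R) ⟶ W.toScheme :=
  Spec.map (CommRingCat.ofHom (algebraMap (X.presheaf.stalk x) R)) ≫ W.fromSpecStalkOfMem x hx

theorem shLift_ι (W : X.Opens) (hx : x ∈ W) : shLift R W hx ≫ W.ι = Hens2.specOf X x R := by
  rw [shLift, Category.assoc, Scheme.Opens.fromSpecStalkOfMem_ι]

theorem shLift_appTop (W : X.Opens) (hx : x ∈ W) (t : Γ(X, W)) :
    (shLift R W hx).appTop (W.topIso.inv t) =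
      (Scheme.ΓSpecIso (CommRingCat.of R)).inv (algebraMap (X.presheaf.stalk x) R (X.presheaf.germ W x hx t)) := by
  rw [shLift, Scheme.Hom.comp_appTop, CommRingCat.comp_apply]
  refine (congrArg (Spec.map (CommRingCat.ofHom (algebraMap (X.presheaf.stalk x) R))).appTop
    (appTop_fromSpecStalkOfMem W x hx t)).trans ?_
  exact (ConcreteCategory.congr_hom (Scheme.ΓSpecIso_inv_naturality
    (CommRingCat.ofHom (algebraMap (X.presheaf.stalk x) R))) (X.presheaf.germ W x hx t)).symm

/-- **the stalks of `R¹j_* μ_n` along a prime divisor have at most `n` elements** -/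
theorem card_stalk_rpush_le [IsDomain R] [UniqueFactorizationMonoid R] {n : ℕ} (h0 : 0 < n)
    (hnX : IsUnit (n : Γ(X, ⊤))) {W : X.Opens} (hx : x ∈ W) (t : Γ(X, W))
    (hrange : ∀ z ∈ W, z ∈ Set.range j.base ↔ z ∈ X.basicOpen t)
    (hϖ : Prime (algebraMap (X.presheaf.stalk x) R (X.presheaf.germ W x hx t))) :
    Finite ((EtCoh.stalk (Hens2.geomPt X x R)).obj ((EtCoh.Rpush j 1).obj (EtCoh.mu U n)) : AddCommGrpCat.{u + 1}) ∧
      Nat.card ((EtCoh.stalk (Hens2.geomPt X x R)).obj ((EtCoh.Rpush j 1).obj (EtCoh.mu U n)) : AddCommGrpCat.{u + 1}) ≤ n := by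
  let ϖ := algebraMap (X.presheaf.stalk x) R (X.presheaf.germ W x hx t)
  let sp := Hens2.specOf X x R
  let Z := EtStrictLoc.xR j x R
  let p : Z ⟶ Spec (CommRingCat.of R) := pullback.snd j sp
  have hp : Set.range p.base = ((PrimeSpectrum.basicOpen ϖ : TopologicalSpace.Opens (PrimeSpectrum R)) : Set (PrimeSpectrum R)) := by
    have h1 : (shLift R W hx) ⁻¹ᵁ W.toScheme.basicOpen (W.topIso.inv t) =
        (Spec (CommRingCat.of R)).basicOpen ((Scheme.ΓSpecIso (CommRingCat.of R)).inv ϖ) := by
      rw [Scheme.preimage_basicOpen_top, shLift_appTop]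
    rw [basicOpen_eq_of_affine] at h1
    show Set.range (pullback.snd j sp).base = _
    rw [Scheme.Pullback.range_snd]
    ext P
    constructor
    · intro hP
      refine h1.le ?_
      show (shLift R W hx).base P ∈ W.toScheme.basicOpen (W.topIso.inv t)
      have hz : W.ι.base ((shLift R W hx).base P) = sp.base P :=
        congrArg (fun f => f.base P) (shLift_ι R W hx)
      have h2 : W.ι.base ((shLift R W hx).base P) ∈ X.basicOpen t := by
        rw [hz]
        refine (hrange _ ?_).1 hP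
        rw [← hz]
        exact ((shLift R W hx).base P).2
      rw [← W.ι_image_basicOpen_topIso_inv t] at h2
      obtain ⟨a, ha, hae⟩ := h2
      rwa [← W.ι.isOpenEmbedding.injective hae]
    · intro hP
      have hz : W.ι.base ((shLift R W hx).base P) = sp.base P :=
        congrArg (fun f => f.base P) (shLift_ι R W hx)
      have h2 : W.ι.base ((shLift R W hx).base P) ∈ X.basicOpen t := by
        rw [← W.ι_image_basicOpen_topIso_inv t]
        exact ⟨_, h1.ge hP, rfl⟩
      rw [hz] at h2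
      exact (hrange _ (X.basicOpen_le t h2)).2 h2
  have hnR : IsUnit (n : R) := by
    have := hnX.map ((algebraMap (X.presheaf.stalk x) R).comp (X.presheaf.germ ⊤ x trivial).hom)
    rwa [map_natCast] at this
  obtain ⟨hf, hc⟩ := card_H1_mu_le hϖ hnR p hp
  -- roots of unity are constant on the strict localisation
  have hnZ : IsUnit (n : Γ(Z, ⊤)) := by
    have h3 := (hnR.map (Scheme.ΓSpecIso (CommRingCat.of R)).inv.hom).map p.appTop.hom
    rwa [map_natCast, map_natCast] at h3
  obtain ⟨W', e, he, hs, ⟨a⟩⟩ := EtMV.exists_trivializing_cover X n h0 hnX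
  haveI := he
  obtain ⟨η, hη⟩ := exists_lift_etale e (Hens2.geomPt X x R) (hs _)
  obtain ⟨α, hα, -⟩ := EtStrictLoc.exists_lift sp (Scheme.Etale.mk e) η hη
  have hα' : α ≫ e = sp := hα
  obtain ⟨b⟩ := nonempty_pull_mu e n
  obtain ⟨d⟩ := nonempty_pull_mu j n
  have hμ : Nonempty ((EtCoh.pull (pullback.fst j sp)).obj (EtCoh.mu U n) ≅ EtCoh.mu Z n) := by
    haveI : NeZero n := ⟨h0.ne'⟩
    have e₁ : (EtCoh.pull sp).obj (EtCoh.mu X n) ≅ EtCoh.const _ (ZMod n) :=
      (EtCore.pullCongr hα'.symm).app _ ≪≫ (EtCore.pullComp α e).app _ ≪≫ (EtCoh.pull α).mapIso (b ≪≫ a) ≪≫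
        EtCore.pullConst α _
    have e₂ : (EtCoh.pull (pullback.fst j sp)).obj (EtCoh.mu U n) ≅ EtCoh.const Z (ZMod n) :=
      (EtCoh.pull _).mapIso d.symm ≪≫ ((EtCore.pullComp (pullback.fst j sp) j).app _).symm ≪≫
        (EtCore.pullCongr pullback.condition).app _ ≪≫ (EtCore.pullComp p sp).app _ ≪≫ (EtCoh.pull p).mapIso e₁ ≪≫
        EtCore.pullConst p _
    obtain ⟨ζ, hζ⟩ : ∃ ζ : R, Polynomial.aeval ζ (Polynomial.cyclotomic n ℤ) = 0 := by
      haveI : NeZero (n : ResidueField R) := ⟨by
        rw [← map_natCast (residue R)]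
        exact (hnR.map (residue R)).ne_zero⟩
      have hdeg : (Polynomial.cyclotomic n (ResidueField R)).degree ≠ 0 := by
        rw [Polynomial.degree_cyclotomic]
        exact_mod_cast (Nat.totient_pos.2 h0).ne'
      obtain ⟨z, hz⟩ := IsSepClosed.exists_root _ hdeg (Polynomial.separable_cyclotomic n (ResidueField R))
      obtain ⟨z, rfl⟩ := residue_surjective z
      have hsimple : IsUnit ((Polynomial.cyclotomic n R).derivative.eval z) := by
        by_contra h
        have h4 : residue R ((Polynomial.cyclotomic n R).derivative.eval z) = 0 := (residue_eq_zero_iff _).2 h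
        rw [← Polynomial.eval₂_hom, ← Polynomial.eval_map, ← Polynomial.derivative_map, Polynomial.map_cyclotomic] at h4
        exact (Polynomial.separable_cyclotomic n (ResidueField R)).eval₂_derivative_ne_zero (RingHom.id _)
          (by simpa using hz) (by simpa using h4)
      obtain ⟨ζ, hζ, -⟩ := HenselianLocalRing.is_henselian _ (Polynomial.cyclotomic.monic n R) z (by
        rw [← residue_eq_zero_iff, ← Polynomial.eval₂_hom, ← Polynomial.eval_map, Polynomial.map_cyclotomic]
        exact hz) hsimple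
      refine ⟨ζ, ?_⟩
      rw [Polynomial.aeval_def, ← Polynomial.eval_map, algebraMap_int_eq, Polynomial.map_cyclotomic_int]
      exact hζ
    let φ : R →+* Γ(Z, ⊤) := ((Scheme.ΓSpecIso (CommRingCat.of R)).inv ≫ p.appTop).hom
    have hζZ : Polynomial.aeval (φ ζ) (Polynomial.cyclotomic n ℤ) = 0 := by
      have := congrArg φ hζ
      rwa [map_zero, Polynomial.aeval_def, Polynomial.hom_eval₂, Subsingleton.elim (φ.comp (algebraMap ℤ R)) (algebraMap ℤ _),
        ← Polynomial.aeval_def] at this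
    obtain ⟨μc⟩ := KummerLib.nonempty_mu_iso_const n h0 hnZ (φ ζ) hζZ
    exact ⟨e₂ ≪≫ μc.symm⟩
  obtain ⟨m⟩ := hμ
  obtain ⟨s⟩ := EtStrictLoc.nonempty_stalkRpush j x R 1
  let E := (s.app (EtCoh.mu U n) ≪≫ (EtCoh.HF Z 1).mapIso m).addCommGroupIsoToAddEquiv.toEquiv
  exact ⟨@Finite.of_equiv _ _ hf E.symm, (Nat.card_congr E).le.trans hc⟩

end Groth.Agent.EtPur
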