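import Groth.Agent.EtPur.SNCPush1
import Groth.Agent.EtMV.Tate
import Mathlib

/-!
# `R¹` of the complement of a relative normal crossings divisor
-/

set_option autoImplicit false
set_option backward.isDefEq.respectTransparency false
set_option backward.isDefEq.respectTransparency.types false
set_option linter.style.haveILetI false
set_option linter.unusedSectionVars false
set_option linter.overlappingInstances false
set_option linter.auxLemma false
set_option maxHeartbeats 1000000
set_option synthInstance.maxHeartbeats 400000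

universe u

open CategoryTheory CategoryTheory.Limits AlgebraicGeometry Opposite

noncomputable section

namespace Groth.Agent.EtPur

open SGA1t (vanishingAt compl IsRelSNC)

/-- an étale cover of an affine scheme by an affine scheme with roots of unity -/
theorem exists_cyclotomic_cover (S : Scheme.{u}) [IsAffine S] (N : ℕ) (h0 : 0 < N) (hu : IsUnit (N : Γ(S, ⊤))) :
    ∃ (S' : Scheme.{u}) (e : S' ⟶ S), IsAffine S' ∧ Etale e ∧ Surjective e ∧
      ∃ ζ : Γ(S', ⊤), Polynomial.aeval ζ (Polynomial.cyclotomic N ℤ) = 0 := by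
  let A := Γ(S, ⊤)
  let F : Polynomial A := Polynomial.cyclotomic N A
  let B := CommRingCat.of (AdjoinRoot F)
  have hF : F.Monic := Polynomial.cyclotomic.monic N A
  have hsep : ((Polynomial.X : Polynomial A) ^ N - 1).Separable := by
    obtain ⟨b, hb⟩ := hu.exists_left_inv
    refine ⟨-1, Polynomial.C b * Polynomial.X, ?_⟩
    obtain ⟨m, rfl⟩ : ∃ m, N = m + 1 := ⟨N - 1, by omega⟩
    rw [Polynomial.derivative_sub, Polynomial.derivative_one, Polynomial.derivative_X_pow, sub_zero, Nat.add_sub_cancel]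
    calc -1 * ((Polynomial.X : Polynomial A) ^ (m + 1) - 1) + Polynomial.C b * Polynomial.X * (Polynomial.C ((m + 1 : ℕ) : A) * Polynomial.X ^ m)
        = -(Polynomial.X ^ (m + 1)) + 1 + Polynomial.C (b * ((m + 1 : ℕ) : A)) * Polynomial.X ^ (m + 1) := by rw [Polynomial.C_mul]; ring
      _ = 1 := by rw [hb, Polynomial.C_1]; ring
  haveI : Algebra.Etale A (AdjoinRoot F) :=
    Hensel.etale_adjoinRoot hF (hsep.of_dvd (Polynomial.cyclotomic.dvd_X_pow_sub_one N A))
  let g : Spec B ⟶ Spec A := Spec.map (CommRingCat.ofHom (algebraMap A (AdjoinRoot F)))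
  haveI : Etale g := (HasRingHomProperty.Spec_iff (P := @Etale)).2 (RingHom.etale_algebraMap.2 inferInstance)
  haveI : Surjective g := by
    refine ⟨fun p => ?_⟩
    haveI : Nontrivial A := ⟨⟨0, 1, fun h => p.isPrime.ne_top ((Ideal.eq_top_iff_one _).2 (by rw [← h]; exact p.asIdeal.zero_mem))⟩⟩
    haveI := hF.finite_adjoinRoot
    have hinj : Function.Injective (algebraMap A (AdjoinRoot F)) := by
      rw [injective_iff_map_eq_zero]
      intro a ha
      by_contra hne
      refine hF.not_dvd_of_degree_lt (Polynomial.C_ne_zero.2 hne) ?_ (AdjoinRoot.mk_eq_zero.1 ha)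
      refine lt_of_le_of_lt Polynomial.degree_C_le ?_
      rw [Polynomial.degree_cyclotomic N A]
      exact_mod_cast Nat.totient_pos.2 h0
    haveI : FaithfulSMul A (AdjoinRoot F) := (faithfulSMul_iff_algebraMap_injective _ _).mpr hinj
    exact Algebra.IsIntegral.comap_surjective _ _ p
  refine ⟨Spec B, g ≫ S.isoSpec.inv, inferInstance, inferInstance, inferInstance,
    (Scheme.ΓSpecIso B).inv.hom (AdjoinRoot.root F), ?_⟩
  have h0 : Polynomial.aeval (AdjoinRoot.root F) (Polynomial.cyclotomic N ℤ) = 0 := by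
    rw [← Polynomial.aeval_map_algebraMap A, Polynomial.map_cyclotomic, AdjoinRoot.aeval_eq]
    exact AdjoinRoot.mk_self
  have := congrArg (Scheme.ΓSpecIso B).inv.hom h0
  rw [map_zero] at this
  rw [← this]
  exact Polynomial.aeval_algHom_apply (Scheme.ΓSpecIso B).inv.hom.toIntAlgHom _ _

variable {n : Type u}

/-- local cohomology of the complement of coordinate hyperplanes over an affine base -/
theorem isConstructible_locCoh_coord [Finite n] (S : Scheme.{u}) [IsAffine S] (s : Set n) (N : ℕ) (h0 : 0 < N)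
    (hN : IsUnit (N : Γ(S, ⊤))) {U : Scheme.{u}} (j : U ⟶ 𝔸(n; S)) [IsOpenImmersion j]
    (hj : Set.range j.base = {x | ∀ a ∈ s, x ∈ 𝔸(n; S).basicOpen (AffineSpace.coord S a)}) :
    EtPBC.IsConstructible ((EtDual.locCoh j 2).obj (EtCoh.const 𝔸(n; S) (ZMod N))) := by
  obtain ⟨S', g, hS', hg, hgs, ζ, hζ⟩ := exists_cyclotomic_cover S N h0 hN
  haveI := hS'; haveI := hg; haveI := hgs
  let e := AffineSpace.map n g
  haveI : Etale e := MorphismProperty.of_isPullback (P := @Etale) (AffineSpace.isPullback_map g).flip hg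
  haveI : Surjective e := MorphismProperty.of_isPullback (P := @Surjective) (AffineSpace.isPullback_map g).flip hgs
  refine EtCons.isConstructible_of_pull e ?_
  have hr : Set.range (pullback.snd j e).base =
      {x | ∀ a ∈ s, x ∈ 𝔸(n; S').basicOpen (AffineSpace.coord S' a)} := by
    rw [Scheme.Pullback.range_snd, hj]
    ext x
    refine forall₂_congr fun a _ => ?_
    show x ∈ e ⁻¹ᵁ 𝔸(n; S).basicOpen (AffineSpace.coord S a) ↔ _
    rw [Scheme.preimage_basicOpen_top, AffineSpace.map_appTop_coord]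
  have hN' : IsUnit (N : Γ(S', ⊤)) := by
    have := hN.map g.appTop.hom
    rwa [map_natCast] at this
  have h1 := isConstructible_universal S' s N h0 hN' ζ hζ (pullback.snd j e) hr
  obtain ⟨a⟩ := nonempty_pull_locCoh j e 2 (EtCoh.const 𝔸(n; S) (ZMod N))
  obtain ⟨b⟩ := nonempty_rpush_const_iso_locCoh (pullback.snd j e) (ZMod N) 1 le_rfl
  exact EtCons.isConstructible_of_iso
    (b ≪≫ (EtDual.locCoh (pullback.snd j e) 2).mapIso (EtCore.pullConst e (ZMod N)).symm ≪≫ a.symm) h1

/-- **`R¹` of the complement of a relative normal crossings divisor is constructible** -/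
theorem isConstructible_R1push_compl {X S : Scheme.{u}} (f : X ⟶ S) {r : ℕ} (φ : Fin r → Γ(X, ⊤))
    (hD : IsRelSNC f φ) (N : ℕ) (hN : IsUnit (N : Γ(S, ⊤))) :
    EtPBC.IsConstructible ((EtCoh.Rpush (compl φ).ι 1).obj (EtCoh.const (compl φ : Scheme.{u}) (ZMod N))) := by
  classical
  rcases Nat.eq_zero_or_pos N with rfl | h0
  · haveI : IsEmpty X := ⟨fun x => by
      have h' := hN.map (f.appTop ≫ X.Γevaluation x).hom
      rw [Nat.cast_zero, map_zero] at h'
      exact not_isUnit_zero h'⟩
    exact EtConsPush.isConstructible_of_isZero' (EtMV.isZero_of_isEmpty _)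
  obtain ⟨R⟩ := nonempty_rpush_const_iso_locCoh (compl φ).ι (ZMod N) 1 le_rfl
  refine EtCons.isConstructible_of_iso R.symm ?_
  let G := (EtDual.locCoh (compl φ).ι 2).obj (EtCoh.const X (ZMod N))
  show EtPBC.IsConstructible G
  suffices h : ∀ x : X, ∃ W : X.Opens, x ∈ W ∧ EtPBC.IsConstructible ((EtCoh.pull W.ι).obj G) by
    choose W hxW hW using h
    exact EtCons.isConstructible_of_openCover G W
      (eq_top_iff.2 fun x _ => TopologicalSpace.Opens.mem_iSup.2 ⟨x, hxW x⟩) hW
  intro x
  by_cases hv : Nonempty (vanishingAt φ x)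
  · obtain ⟨W, hxW, d, v, e, he, hg, hve⟩ := hD x hv
    obtain ⟨V, hV, hxV⟩ : ∃ V : S.Opens, IsAffineOpen V ∧ f.base x ∈ V := by
      obtain ⟨_, ⟨V, hV, rfl⟩, hxV, -⟩ := S.isBasis_affineOpens.exists_subset_of_mem_open
        (Set.mem_univ (f.base x)) isOpen_univ
      exact ⟨V, hV, hxV⟩
    let W' : X.Opens := W ⊓ (f ⁻¹ᵁ V) ⊓
      Finset.univ.inf fun i : Fin r => if x ∈ X.basicOpen (φ i) then X.basicOpen (φ i) else ⊤
    have hW'W : W' ≤ W := inf_le_left.trans inf_le_left
    have hW'V : W' ≤ f ⁻¹ᵁ V := inf_le_left.trans inf_le_right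
    have hW'i : ∀ i, x ∈ X.basicOpen (φ i) → W' ≤ X.basicOpen (φ i) := fun i hi =>
      (inf_le_right : W' ≤ _).trans ((Finset.inf_le (Finset.mem_univ i)).trans_eq (if_pos hi))
    have hxW' : x ∈ W' := by
      refine ⟨⟨hxW, hxV⟩, ?_⟩
      show x ∈ ((Finset.univ.inf _ : X.Opens) : Set X)
      rw [TopologicalSpace.Opens.coe_finset_inf]
      simp only [Finset.inf_set_eq_iInter, Set.mem_iInter]
      intro i _
      dsimp
      split
      · assumption
      · trivial
    haveI : IsAffine V.toScheme := hV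
    let n : Type u := ULift.{u} (Fin d)
    let g : W.toScheme ⟶ 𝔸(n; S) := AffineSpace.homOfVector (W.ι ≫ f) v
    haveI : Etale g := hg
    let q : W'.toScheme ⟶ V := IsOpenImmersion.lift V.ι (W'.ι ≫ f) (by
      rw [Scheme.Opens.range_ι]
      rintro _ ⟨w, rfl⟩
      exact hW'V w.2)
    let g' : W'.toScheme ⟶ 𝔸(n; V.toScheme) :=
      AffineSpace.homOfVector q fun a => (X.homOfLE hW'W).appTop (v a)
    have hfac : g' ≫ AffineSpace.map n V.ι = X.homOfLE hW'W ≫ g := by
      refine AffineSpace.hom_ext ?_ fun a => ?_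
      · simp only [g', g, q, Category.assoc, AffineSpace.map_over, AffineSpace.homOfVector_over,
          AffineSpace.homOfVector_over_assoc, IsOpenImmersion.lift_fac, Scheme.homOfLE_ι_assoc]
      · simp only [Scheme.Hom.comp_appTop, CommRingCat.comp_apply, AffineSpace.map_appTop_coord, g', g,
          AffineSpace.homOfVector_appTop_coord]
    haveI : IsOpenImmersion (AffineSpace.map n V.ι) :=
      MorphismProperty.of_isPullback (P := @IsOpenImmersion) (AffineSpace.isPullback_map V.ι).flip inferInstance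
    haveI : Etale g' := by
      haveI : Etale (g' ≫ AffineSpace.map n V.ι) := by rw [hfac]; infer_instance
      exact Etale.of_comp g' (AffineSpace.map n V.ι)
    let s : Set n := ULift.up '' Set.range e
    let A := 𝔸(n; V.toScheme)
    let O : A.Opens := ⟨{y | ∀ a ∈ s, y ∈ A.basicOpen (AffineSpace.coord V.toScheme a)}, by
      have hcl : {y : A | ∀ a ∈ s, y ∈ A.basicOpen (AffineSpace.coord V.toScheme a)} =
          ⋂ a ∈ s, (A.basicOpen (AffineSpace.coord V.toScheme a) : Set A) := by
        ext y; simp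
      rw [hcl]
      exact (Set.toFinite s).isOpen_biInter fun a _ => (A.basicOpen _).2⟩
    have hrange : Set.range (pullback.snd O.ι g').base = Set.range (pullback.snd (compl φ).ι W'.ι).base := by
      rw [Scheme.Pullback.range_snd, Scheme.Pullback.range_snd, Scheme.Opens.range_ι, Scheme.Opens.range_ι]
      ext o
      have hkey : ∀ i : vanishingAt φ x, g'.base o ∈ A.basicOpen (AffineSpace.coord V.toScheme (ULift.up (e i))) ↔
          W'.ι.base o ∈ X.basicOpen (φ i.1) := fun i => by
        show o ∈ g' ⁻¹ᵁ A.basicOpen _ ↔ _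
        rw [Scheme.preimage_basicOpen_top, AffineSpace.homOfVector_appTop_coord, ← Scheme.preimage_basicOpen_top]
        show (X.homOfLE hW'W).base o ∈ W.toScheme.basicOpen (v (ULift.up (e i))) ↔ _
        have h4 : W.ι.base ((X.homOfLE hW'W).base o) = W'.ι.base o :=
          congrArg (fun k => k.base o) (X.homOfLE_ι hW'W)
        rw [← h4, hve i]
        have h5 := W.ι_image_basicOpen_topIso_inv (X.presheaf.map (homOfLE (le_top (a := W))).op (φ i.1))
        constructor
        · intro h
          have h6 : W.ι.base ((X.homOfLE hW'W).base o) ∈ X.basicOpen (X.presheaf.map (homOfLE (le_top (a := W))).op (φ i.1)) :=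
            h5.le ⟨_, h, rfl⟩
          rw [Scheme.basicOpen_res] at h6
          exact h6.2
        · intro h
          obtain ⟨w, hw, hw'⟩ := h5.ge (show W.ι.base ((X.homOfLE hW'W).base o) ∈
            X.basicOpen (X.presheaf.map (homOfLE (le_top (a := W))).op (φ i.1)) by
              rw [Scheme.basicOpen_res]
              exact ⟨((X.homOfLE hW'W).base o).2, h⟩)
          exact W.ι.isOpenEmbedding.injective hw' ▸ hw
      constructor
      · intro h
        refine (mem_compl_iff φ _).2 fun i => ?_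
        by_cases hi : x ∈ X.basicOpen (φ i)
        · exact hW'i i hi o.2
        · exact (hkey ⟨i, hi⟩).1 (h _ ⟨_, ⟨⟨i, hi⟩, rfl⟩, rfl⟩)
      · rintro h _ ⟨_, ⟨i, rfl⟩, rfl⟩
        exact (hkey i).2 ((mem_compl_iff φ _).1 h i.1)
    have hNV : IsUnit (N : Γ(V.toScheme, ⊤)) := by
      have := hN.map V.ι.appTop.hom
      rwa [map_natCast] at this
    have hA := isConstructible_locCoh_coord V.toScheme s N h0 hNV O.ι (Scheme.Opens.range_ι O)
    refine ⟨W', hxW', ?_⟩
    obtain ⟨a⟩ := nonempty_pull_locCoh O.ι g' 2 (EtCoh.const A (ZMod N))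
    obtain ⟨b⟩ := nonempty_pull_locCoh (compl φ).ι W'.ι 2 (EtCoh.const X (ZMod N))
    obtain ⟨c⟩ := nonempty_locCoh_congr (pullback.snd O.ι g') (pullback.snd (compl φ).ι W'.ι) hrange.symm 2
      (EtCoh.const W'.toScheme (ZMod N))
    exact EtCons.isConstructible_of_iso
      (a ≪≫ (EtDual.locCoh _ 2).mapIso (EtCore.pullConst g' (ZMod N)) ≪≫ c ≪≫
        (EtDual.locCoh _ 2).mapIso (EtCore.pullConst W'.ι (ZMod N)).symm ≪≫ b.symm)
      (EtCons.isConstructible_pull g' hA)
  · have hx : x ∈ compl φ := (mem_compl_iff φ x).2 fun i => by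
      by_contra hi
      exact hv ⟨⟨i, hi⟩⟩
    refine ⟨compl φ, hx, EtConsPush.isConstructible_of_isZero' ?_⟩
    obtain ⟨a⟩ := nonempty_pull_locCoh (compl φ).ι (compl φ).ι 2 (EtCoh.const X (ZMod N))
    refine (isZero_locCoh_of_range_univ _ ?_ _ _).of_iso a
    rw [Scheme.Pullback.range_snd]
    exact Set.eq_univ_of_forall fun u => ⟨u, rfl⟩

end Groth.Agent.EtPur
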