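import Groth.Agent.EtPur.Transport
import Mathlib

/-!
# Induction on the codimension
-/

set_option autoImplicit false
set_option backward.isDefEq.respectTransparency false
set_option backward.isDefEq.respectTransparency.types false
set_option linter.style.haveILetI false
set_option linter.unusedSectionVars false
set_option maxHeartbeats 1000000
set_option synthInstance.maxHeartbeats 400000

universe u

open CategoryTheory CategoryTheory.Limits AlgebraicGeometry Opposite

noncomputable section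

namespace Groth.Agent.EtPur

variable {X Z Y UY UZ U' : Scheme.{u}} (s : Z ⟶ X) (y : Y ⟶ Z) [IsClosedImmersion s] [IsClosedImmersion y]
  (jZ : UZ ⟶ X) (jY : UY ⟶ X) (j' : U' ⟶ Z) [IsOpenImmersion jZ] [IsOpenImmersion jY] [IsOpenImmersion j']
  [EtCoh.BCCont s] [EtCoh.BCCont y] [EtCoh.BCCont jZ] [EtCoh.BCCont jY] [EtCoh.BCCont j']
  [EtCoh.BCCont (y ≫ s)]
  (hZ : Set.range jZ.base = (Set.range s.base)ᶜ) (hY : Set.range jY.base = (Set.range (y ≫ s).base)ᶜ)
  (hY' : Set.range j'.base = (Set.range y.base)ᶜ)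

include hZ hY hY' in
/-- **purity composes** -/
theorem purity_step {c : ℕ} (F : EtCoh.Ab X) (h1 : Purity s jZ 1 F)
    (h2 : Purity y j' c ((EtCoh.pull s).obj F)) : Purity (y ≫ s) jY (c + 1) F := by
  have hsub : Set.range jZ.base ⊆ Set.range jY.base := by
    rw [hZ, hY, Set.compl_subset_compl]
    rintro _ ⟨a, rfl⟩
    exact ⟨y.base a, rfl⟩
  have hr : Set.range j'.base = s.base ⁻¹' Set.range jY.base := by
    rw [hY', hY, Set.preimage_compl]
    congr 1
    ext z
    constructor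
    · rintro ⟨a, rfl⟩
      exact ⟨a, rfl⟩
    · rintro ⟨a, ha⟩
      exact ⟨a, s.isClosedEmbedding.injective ha⟩
  obtain ⟨hlow, hcomp⟩ := composite jY jZ hsub 2 F h1.1
  obtain ⟨e1⟩ := h1.2
  have hp : ∀ p, Nonempty ((EtDual.locCoh jY (p + 2)).obj F ≅
      (EtCoh.push s).obj ((EtDual.locCoh j' p).obj ((EtCoh.pull s).obj F))) := fun p => by
    obtain ⟨a⟩ := hcomp p
    obtain ⟨b⟩ := nonempty_locCoh_closed jY s j' hr ((EtCoh.pull s).obj F) p
    haveI := EtMV.preservesFiniteLimits_secSupp jY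
    exact ⟨a.symm ≪≫ (EtDual.locCoh jY p).mapIso e1 ≪≫ b.symm⟩
  refine ⟨fun q hq => ?_, ?_⟩
  · rcases Nat.lt_or_ge q 2 with hq2 | hq2
    · exact hlow q hq2
    · obtain ⟨p, rfl⟩ := Nat.exists_eq_add_of_le' hq2
      obtain ⟨e⟩ := hp p
      exact ((EtCoh.push s).map_isZero (h2.1 p (by omega))).of_iso e
  · obtain ⟨e⟩ := hp (2 * c)
    obtain ⟨e2⟩ := h2.2
    exact ⟨e ≪≫ (EtCoh.push s).mapIso e2 ≪≫ (EtCoh.pushComp s y).app _ ≪≫
      (EtCoh.push (y ≫ s)).mapIso ((EtCore.pullComp y s).app F).symm⟩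

end Groth.Agent.EtPur
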